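import Cfsg.Agent.Lib.ThreeTrans.LargeFischer.DuadChecks
import Cfsg.Agent.Lib.Sporadic.M24

/-!
The twenty-four points: the non-conjugates are the duads, and the code is the kernel of the coordinate map
(owner: helper28).
-/

set_option autoImplicit false
set_option maxHeartbeats 1000000
set_option maxRecDepth 100000
set_option Elab.async false

namespace CfsgLib.ThreeTrans.LargeFischer

open Cfsg
open CfsgLib.Sporadic

theorem vI_facts : vI 23 = 0 ∧ ∀ i : Fin 24, vI i.1 = axPt.getD i.1 0 ∧ vI i.1 < 2048 := by decide +kernel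

theorem vPt_none : vPt none = 0 := vI_facts.1

theorem vPt_lt (x : GolayPt) : vPt x < 2048 := (vI_facts.2 ⟨ix x, ix_lt x⟩).2

theorem dv_lt (x y : GolayPt) : dv x y < 2048 := Nat.xor_lt_two_pow (n := 11) (vPt_lt x) (vPt_lt y)

theorem dv_comm (x y : GolayPt) : dv x y = dv y x := Nat.xor_comm _ _

theorem dv_self (x : GolayPt) : dv x x = 0 := Nat.xor_self _

theorem dv_xor (x y w : GolayPt) : dv x y ^^^ dv x w = dv y w := by
  unfold dv
  rw [Nat.xor_comm (vPt x) (vPt y), Nat.xor_assoc, Nat.xor_xor_cancel_left]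

theorem duads_pair : ∀ x y : GolayPt, x ≠ y → axDuads.testBit (vI (ix x) ^^^ vI (ix y)) = true := by decide +kernel

theorem zero_not_mem : axDuads.testBit 0 = false := by decide +kernel

/-- The test for four points. -/
noncomputable def fourOK : Bool :=
  forallLt 24 fun a => forallLt 24 fun b => Nat.ble b a || forallLt 24 fun c => Nat.beq c a || Nat.beq c b ||
    forallLt 24 fun d => Nat.ble d c || Nat.beq d a || Nat.beq d b ||
      (let n := Nat.xor (Nat.xor (vI a) (vI b)) (Nat.xor (vI c) (vI d))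
       (!Nat.beq n 0) && Nat.beq (Nat.land (Nat.shiftRight axDuads n) 1) 0)

theorem four_ok : fourOK = true := by decide +kernel

theorem four_ordered {a b c d : ℕ} (hb : b < 24) (hd : d < 24) (hab : a < b) (hcd : c < d)
    (h1 : c ≠ a) (h2 : c ≠ b) (h3 : d ≠ a) (h4 : d ≠ b) :
    (vI a ^^^ vI b) ^^^ (vI c ^^^ vI d) ≠ 0 ∧ axDuads.testBit ((vI a ^^^ vI b) ^^^ (vI c ^^^ vI d)) = false := by
  have h := forallLt_elim (forallLt_elim four_ok (show a < 24 by omega)) hb
  rw [Bool.or_eq_true] at h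
  have h := forallLt_elim (h.resolve_left fun e => by
    have := Nat.le_of_ble_eq_true e; omega) (show c < 24 by omega)
  simp only [Bool.or_eq_true] at h
  have h := forallLt_elim (h.resolve_left fun e => e.elim (fun e => h1 (Nat.eq_of_beq_eq_true e))
    fun e => h2 (Nat.eq_of_beq_eq_true e)) hd
  simp only [Bool.or_eq_true, Bool.and_eq_true, Bool.not_eq_true'] at h
  obtain ⟨he1, he2⟩ := h.resolve_left fun e => by
    rcases e with (e | e) | e
    · have := Nat.le_of_ble_eq_true e; omega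
    · exact h3 (Nat.eq_of_beq_eq_true e)
    · exact h4 (Nat.eq_of_beq_eq_true e)
  refine ⟨fun e => ?_, ?_⟩
  · exact Bool.false_ne_true (he1.symm.trans (show Nat.beq ((vI a ^^^ vI b) ^^^ (vI c ^^^ vI d)) 0 = true by
      rw [e]; rfl))
  · rw [Nat.testBit, show (1 : ℕ) &&& axDuads >>> ((vI a ^^^ vI b) ^^^ (vI c ^^^ vI d)) = 0 by
      rw [Nat.and_comm]; exact Nat.eq_of_beq_eq_true he2]
    rfl

/-- Disjoint duads. -/
theorem dv_four {a b c d : GolayPt} (hab : a ≠ b) (hcd : c ≠ d) (h1 : c ≠ a) (h2 : c ≠ b) (h3 : d ≠ a) (h4 : d ≠ b) :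
    dv a b ≠ dv c d ∧ axDuads.testBit (dv a b ^^^ dv c d) = false := by
  have hne : ∀ {x y : GolayPt}, x ≠ y → ix x ≠ ix y := fun h e => h (ix_injective e)
  suffices h : dv a b ^^^ dv c d ≠ 0 ∧ axDuads.testBit (dv a b ^^^ dv c d) = false from
    ⟨fun e => h.1 (by rw [e, Nat.xor_self]), h.2⟩
  rcases Nat.lt_or_gt_of_ne (hne hab) with hx | hx <;> rcases Nat.lt_or_gt_of_ne (hne hcd) with hy | hy
  · exact four_ordered (ix_lt b) (ix_lt d) hx hy (hne h1) (hne h2) (hne h3) (hne h4)
  · rw [dv_comm c d]; exact four_ordered (ix_lt b) (ix_lt c) hx hy (hne h3) (hne h4) (hne h1) (hne h2)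
  · rw [dv_comm a b]; exact four_ordered (ix_lt a) (ix_lt d) hx hy (hne h2) (hne h1) (hne h4) (hne h3)
  · rw [dv_comm a b, dv_comm c d]; exact four_ordered (ix_lt a) (ix_lt c) hx hy (hne h4) (hne h3) (hne h2) (hne h1)

theorem vPt_injective {x y : GolayPt} (h : vPt x = vPt y) : x = y := by
  by_contra hne
  have h1 := duads_pair x y hne
  change axDuads.testBit (vPt x ^^^ vPt y) = true at h1
  rw [h, Nat.xor_self, zero_not_mem] at h1
  exact Bool.false_ne_true h1

/-- A duad determines its points. -/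
theorem dv_eq {a b c d : GolayPt} (hab : a ≠ b) (hcd : c ≠ d) (h : dv a b = dv c d) :
    (a = c ∧ b = d) ∨ (a = d ∧ b = c) := by
  by_cases h1 : a = c
  · subst h1
    exact Or.inl ⟨rfl, vPt_injective (Nat.xor_right_injective h)⟩
  by_cases h2 : a = d
  · subst h2
    rw [dv_comm c a] at h
    exact Or.inr ⟨rfl, vPt_injective (Nat.xor_right_injective h)⟩
  by_cases h3 : b = c
  · subst h3
    rw [dv_comm a b] at h
    exact Or.inr ⟨vPt_injective (Nat.xor_right_injective h), rfl⟩
  by_cases h4 : b = d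
  · subst h4
    rw [dv_comm a b, dv_comm c b] at h
    exact absurd (vPt_injective (Nat.xor_right_injective h)) h1
  exact absurd h (dv_four hab hcd (Ne.symm h1) (Ne.symm h3) (Ne.symm h2) (Ne.symm h4)).1

/-- Two duads meet when their sum is a duad. -/
theorem dv_meet {a b c d : GolayPt} (hab : a ≠ b) (hcd : c ≠ d)
    (h : axDuads.testBit (dv a b ^^^ dv c d) = true) : c = a ∨ c = b ∨ d = a ∨ d = b := by
  by_contra hc
  push Not at hc
  rw [(dv_four hab hcd hc.1 hc.2.1 hc.2.2.1 hc.2.2.2).2] at h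
  exact Bool.false_ne_true h

/-! ### The code -/

theorem syn_xor (a b : ℕ) : syn (a ^^^ b) = syn a ^^^ syn b := by
  show ((a ^^^ b) ^^^ enc ((a ^^^ b) &&& 4095)) >>> 12 =
    (a ^^^ enc (a &&& 4095)) >>> 12 ^^^ (b ^^^ enc (b &&& 4095)) >>> 12
  rw [Nat.and_xor_distrib_right, enc_xor, ← Nat.shiftRight_xor_distrib]
  congr 1
  simp only [Nat.xor_assoc, Nat.xor_left_comm]

theorem inCode_iff_syn {m : ℕ} (hm : m < 2 ^ 24) : inCode m = true ↔ syn m = 0 := by
  constructor
  · intro h
    show (m ^^^ enc (m &&& 4095)) >>> 12 = 0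
    rw [← show m = enc (m &&& 4095) from Nat.eq_of_beq_eq_true h, Nat.xor_self]; rfl
  · intro h
    change (m ^^^ enc (m &&& 4095)) >>> 12 = 0 at h
    have hx : m ^^^ enc (m &&& 4095) < 4096 := by
      rw [Nat.shiftRight_eq_div_pow] at h
      omega
    have he : m = enc (m &&& 4095) := by
      refine xor_eq_zero_iff.1 ?_
      rw [← Nat.mod_eq_of_lt hx, show (4096 : ℕ) = 2 ^ 12 by norm_num, ← Nat.and_two_pow_sub_one_eq_mod,
        show (2 : ℕ) ^ 12 - 1 = 4095 by norm_num, Nat.and_xor_distrib_right,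
        enc_land (lt_of_le_of_lt Nat.and_le_right (by norm_num)), Nat.xor_self]
    show Nat.beq m (enc (m &&& 4095)) = true
    rw [← he]
    exact Nat.beq_refl m

/-- The syndrome of a single point. -/
theorem syn_point : ∀ x : GolayPt, syn (CfsgLib.Sporadic.maskOf {x}) = lSyn (vI (ix x)) ^^^ syn (2 ^ 23) := by decide +kernel

theorem lSyn_injective : ∀ n : Fin 2048, lSyn n.1 = 0 → n.1 = 0 := by decide +kernel

theorem lSyn_xor (a b : ℕ) : lSyn (a ^^^ b) = lSyn a ^^^ lSyn b := xorComb_xor _ a b 11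

theorem pMask_xor (a b : ℕ) : pMask (a ^^^ b) = pMask a ^^^ pMask b := xorComb_xor _ a b 24

theorem pMask_point : ∀ x : GolayPt, pMask (CfsgLib.Sporadic.maskOf {x}) = vI (ix x) := by decide +kernel

theorem maskOf_insert {x : GolayPt} {s : Finset GolayPt} (h : x ∉ s) :
    CfsgLib.Sporadic.maskOf (insert x s) = CfsgLib.Sporadic.maskOf s ^^^ CfsgLib.Sporadic.maskOf {x} := by
  rw [← maskOf_symmDiff]
  congr 1
  ext y
  simp only [Finset.mem_insert, Finset.mem_symmDiff, Finset.mem_singleton]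
  by_cases hy : y = x
  · subst hy; simp [h]
  · simp [hy]

theorem pMask_lt (s : Finset GolayPt) : pMask (CfsgLib.Sporadic.maskOf s) < 2048 := by
  induction s using Finset.induction_on with
  | empty => rw [maskOf_empty]; decide +kernel
  | insert x s hx ih =>
    rw [maskOf_insert hx, pMask_xor, pMask_point]
    exact Nat.xor_lt_two_pow (n := 11) ih (vPt_lt x)

/-- The syndrome of a set. -/
theorem syn_set (s : Finset GolayPt) :
    syn (CfsgLib.Sporadic.maskOf s) = lSyn (pMask (CfsgLib.Sporadic.maskOf s)) ^^^ (if Odd s.card then syn (2 ^ 23) else 0) := by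
  induction s using Finset.induction_on with
  | empty => rw [maskOf_empty]; decide +kernel
  | insert x s hx ih =>
    rw [maskOf_insert hx, pMask_xor, pMask_point, syn_xor, ih, lSyn_xor, syn_point, Finset.card_insert_of_notMem hx]
    by_cases ho : Odd s.card
    · rw [if_pos ho, if_neg (by rw [Nat.odd_add_one]; exact not_not.2 ho), Nat.xor_zero]
      generalize syn (2 ^ 23) = c
      generalize lSyn (pMask (CfsgLib.Sporadic.maskOf s)) = a
      generalize lSyn (vI (ix x)) = b
      refine Nat.eq_of_testBit_eq fun i => ?_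
      simp only [Nat.testBit_xor]
      cases a.testBit i <;> cases b.testBit i <;> cases c.testBit i <;> rfl
    · rw [if_neg ho, if_pos (by rw [Nat.odd_add_one]; exact ho), Nat.xor_zero, Nat.xor_assoc]

theorem supports_iff {s : Finset GolayPt} :
    s ∈ supports (golayCode : Set (GolayPt → ZMod 2)) ↔ ¬ Odd s.card ∧ pMask (CfsgLib.Sporadic.maskOf s) = 0 := by
  constructor
  · intro h
    have ho : ¬ Odd s.card := by
      rcases card_code_support h with e | e | e | e | e <;> rw [e] <;> decide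
    refine ⟨ho, ?_⟩
    have h1 := (inCode_iff_syn (maskOf_lt s)).1 (mem_supports_iff.1 h)
    rw [syn_set, if_neg ho, Nat.xor_zero] at h1
    exact lSyn_injective ⟨_, pMask_lt s⟩ h1
  · rintro ⟨ho, hp⟩
    rw [mem_supports_iff, inCode_iff_syn (maskOf_lt s), syn_set, if_neg ho, hp]
    decide +kernel

theorem exists_set {n : ℕ} (hn : n < 2048) : ∃ s : Finset GolayPt, pMask (CfsgLib.Sporadic.maskOf s) = n :=
  ⟨setOfMask (xorComb (fun i => axSpan.getD i 0) n 11), by
    rw [maskOf_setOfMask (pMask_span ⟨n, hn⟩).2]; exact (pMask_span ⟨n, hn⟩).1⟩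

end CfsgLib.ThreeTrans.LargeFischer
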