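import Cfsg.Agent.Lib.ThreeTrans.LargeFischer.AxisClass
import Cfsg.Agent.Lib.ThreeTrans.LargeFischer.DuadModel

/-!
The normaliser of the Thompson subgroup acts on twenty-four points as the Mathieu group
(owner: helper28).
-/

set_option autoImplicit false
set_option maxHeartbeats 1000000
set_option maxRecDepth 100000
set_option linter.unusedSectionVars false

namespace CfsgLib.ThreeTrans.LargeFischer

open Cfsg
open scoped Pointwise
open CfsgLib.Sporadic (ix pt setOfMask maskOf_setOfMask inCode)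

theorem two_others : ∀ x y : GolayPt, ∃ a b : GolayPt, a ≠ x ∧ a ≠ y ∧ b ≠ x ∧ b ≠ y ∧ a ≠ b := by decide +kernel

theorem class_count : (Finset.univ.filter fun n : Fin 2048 => n.1 = 0 ∨ axDuads.testBit n.1 = true).card = 277 := by
  decide +kernel

/-- A linear bijection preserving the duads permutes the points. -/
theorem exists_point_perm (π : ℕ → ℕ) (hlt : ∀ n, π n < 2048)
    (hadd : ∀ a b, π (a ^^^ b) = π a ^^^ π b)
    (hinj : ∀ a b, a < 2048 → b < 2048 → π a = π b → a = b)
    (hD : ∀ n, n < 2048 → axDuads.testBit n = axDuads.testBit (π n)) :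
    ∃ σ : Equiv.Perm GolayPt, ∀ x y, π (dv x y) = dv (σ x) (σ y) := by
  classical
  have himg : ∀ x y : GolayPt, x ≠ y → ∃ p q, p ≠ q ∧ π (dv x y) = dv p q := fun x y hxy => by
    have h : axDuads.testBit (π (dv x y)) = true := by
      rw [← hD _ (dv_lt x y)]; exact duads_pair x y hxy
    obtain ⟨p, q, hpq, e⟩ := duads_listed ⟨_, hlt _⟩ h
    exact ⟨p, q, hpq, e.symm⟩
  have hmeet : ∀ x a b : GolayPt, a ≠ b → axDuads.testBit (π (dv x a) ^^^ π (dv x b)) = true := fun x a b hab => by
    rw [← hadd, dv_xor, ← hD _ (dv_lt a b)]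
    exact duads_pair a b hab
  have hstar : ∀ x : GolayPt, ∃ s, ∀ c, c ≠ x → ∃ t, t ≠ s ∧ π (dv x c) = dv s t := by
    intro x
    obtain ⟨a, b, hax, -, hbx, -, hab⟩ := two_others x x
    obtain ⟨p, q, hpq, ea⟩ := himg x a hax.symm
    obtain ⟨p', q', hpq', eb⟩ := himg x b hbx.symm
    have h := hmeet x a b hab
    rw [ea, eb] at h
    obtain ⟨s, u, v, hus, hvs, ea', eb'⟩ : ∃ s u v, u ≠ s ∧ v ≠ s ∧ π (dv x a) = dv s u ∧ π (dv x b) = dv s v := by
      rcases dv_meet hpq hpq' h with rfl | rfl | rfl | rfl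
      · exact ⟨p', q, q', hpq.symm, hpq'.symm, ea, eb⟩
      · exact ⟨p', p, q', hpq, hpq'.symm, ea.trans (dv_comm _ _), eb⟩
      · exact ⟨q', q, p', hpq.symm, hpq', ea, eb.trans (dv_comm _ _)⟩
      · exact ⟨q', p, p', hpq, hpq', ea.trans (dv_comm _ _), eb.trans (dv_comm _ _)⟩
    refine ⟨s, fun c hc => ?_⟩
    by_cases hca : c = a
    · subst hca; exact ⟨u, hus, ea'⟩
    by_cases hcb : c = b
    · subst hcb; exact ⟨v, hvs, eb'⟩
    obtain ⟨e, f, hef, ec⟩ := himg x c hc.symm
    by_cases hse : e = s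
    · subst hse; exact ⟨f, hef.symm, ec⟩
    by_cases hsf : f = s
    · subst hsf; exact ⟨e, hef, ec.trans (dv_comm _ _)⟩
    exfalso
    have hu := hmeet x a c (Ne.symm hca)
    have hv := hmeet x b c (Ne.symm hcb)
    rw [ea', ec] at hu
    rw [eb', ec] at hv
    have huv : u ≠ v := fun e' => by
      subst e'
      have h0 := hinj _ _ (dv_lt x a) (dv_lt x b) (ea'.trans eb'.symm)
      exact hab (vPt_injective (Nat.xor_right_injective h0))
    have hu' := dv_meet hus.symm hef hu
    have hv' := dv_meet hvs.symm hef hv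
    simp only [hse, hsf, false_or] at hu' hv'
    have huvef : π (dv x c) = dv u v := by
      rw [ec]
      rcases hu' with rfl | rfl <;> rcases hv' with rfl | rfl
      · exact absurd rfl huv
      · rfl
      · exact dv_comm _ _
      · exact absurd rfl huv
    have h0 : π (dv x c) = π (dv a b) := by
      rw [huvef, ← dv_xor x a b, hadd, ea', eb', dv_xor]
    exact (dv_four hc.symm hab hax (Ne.symm hca) hbx (Ne.symm hcb)).1 (hinj _ _ (dv_lt _ _) (dv_lt _ _) h0)
  choose σ hσ using hstar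
  have hσinj : Function.Injective σ := by
    intro x y e
    by_contra hxy
    obtain ⟨c, d, hcx, hcy, hdx, hdy, hcd⟩ := two_others x y
    obtain ⟨t, hts, et⟩ := hσ x c hcx
    obtain ⟨t', hts', et'⟩ := hσ y d hdy
    rw [← e] at et' hts'
    obtain ⟨hne, hno⟩ := dv_four hcx.symm hdy.symm (Ne.symm hxy) (Ne.symm hcy) hdx (Ne.symm hcd)
    by_cases htt : t = t'
    · subst htt
      exact hne (hinj _ _ (dv_lt _ _) (dv_lt _ _) (et.trans et'.symm))
    · rw [hD _ (Nat.xor_lt_two_pow (n := 11) (dv_lt _ _) (dv_lt _ _)), hadd, et, et', dv_xor] at hno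
      have := duads_pair t t' htt
      change axDuads.testBit (dv t t') = true at this
      rw [hno] at this
      exact Bool.false_ne_true this
  refine ⟨Equiv.ofBijective σ (Finite.injective_iff_bijective.1 hσinj), fun x y => ?_⟩
  simp only [Equiv.ofBijective_apply]
  by_cases hxy : x = y
  · subst hxy
    rw [dv_self, dv_self]
    have h0 := hadd 0 0
    simpa using h0
  obtain ⟨t, hts, et⟩ := hσ x y (Ne.symm hxy)
  obtain ⟨t', hts', et'⟩ := hσ y x hxy
  rw [dv_comm y x, et] at et'
  rcases dv_eq hts.symm hts'.symm et' with ⟨h1, -⟩ | ⟨-, h2⟩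
  · exact absurd (hσinj h1) hxy
  · rw [et, h2]

/-- A permutation coming from a linear map preserves the code. -/
theorem mem_M24_of_linear (π : ℕ → ℕ) (hadd : ∀ a b, π (a ^^^ b) = π a ^^^ π b) {σ : Equiv.Perm GolayPt}
    (hσ : ∀ x y, π (dv x y) = dv (σ x) (σ y)) : σ ∈ M24 ∧
      ∀ s : Finset GolayPt, π (pMask (CfsgLib.Sporadic.maskOf s)) =
        pMask (CfsgLib.Sporadic.maskOf (s.image σ)) ^^^ (if Odd s.card then vPt (σ none) else 0) := by
  classical
  have key : ∀ s : Finset GolayPt, π (pMask (CfsgLib.Sporadic.maskOf s)) =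
      pMask (CfsgLib.Sporadic.maskOf (s.image σ)) ^^^ (if Odd s.card then vPt (σ none) else 0) := by
    intro s
    induction s using Finset.induction_on with
    | empty =>
      rw [Finset.image_empty, CfsgLib.Sporadic.maskOf_empty, show pMask 0 = 0 by decide +kernel]
      have := hadd 0 0
      simp at this
      simp [this]
    | insert x s hx ih =>
      have hx' : σ x ∉ s.image σ := fun h => by
        obtain ⟨y, hy, e⟩ := Finset.mem_image.1 h
        exact hx (σ.injective e ▸ hy)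
      have hv : π (vPt x) = vPt (σ x) ^^^ vPt (σ none) := by
        have h := hσ x none
        rwa [dv, vPt_none, Nat.xor_zero] at h
      rw [maskOf_insert hx, pMask_xor, pMask_point, hadd, ih, Finset.image_insert, maskOf_insert hx', pMask_xor,
        pMask_point, show π (CfsgLib.ThreeTrans.LargeFischer.vI (ix x)) = _ from hv,
        Finset.card_insert_of_notMem hx]
      generalize pMask (CfsgLib.Sporadic.maskOf (s.image σ)) = a
      show (a ^^^ _) ^^^ (vPt (σ x) ^^^ vPt (σ none)) = (a ^^^ vPt (σ x)) ^^^ _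
      generalize vPt (σ x) = b
      generalize vPt (σ none) = c
      refine Nat.eq_of_testBit_eq fun i => ?_
      by_cases ho : Odd s.card
      · rw [if_pos ho, if_neg (by rw [Nat.odd_add_one]; exact not_not.2 ho)]
        simp only [Nat.testBit_xor, Nat.zero_testBit]
        cases a.testBit i <;> cases b.testBit i <;> cases c.testBit i <;> rfl
      · rw [if_neg ho, if_pos (by rw [Nat.odd_add_one]; exact ho)]
        simp only [Nat.testBit_xor, Nat.zero_testBit]
        cases a.testBit i <;> cases b.testBit i <;> cases c.testBit i <;> rfl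
  refine ⟨(MulAction.mem_stabilizer_set' (Set.toFinite _)).2 fun s hs => ?_, key⟩
  obtain ⟨ho, hp⟩ := supports_iff.1 hs
  have e : σ • s = s.image σ := by rw [Finset.smul_finset_def]; rfl
  rw [e, supports_iff, Finset.card_image_of_injective _ σ.injective]
  refine ⟨ho, ?_⟩
  have h := key s
  rw [if_neg ho, hp, Nat.xor_zero] at h
  have h0 := hadd 0 0
  simp at h0
  rw [h0] at h
  exact h.symm

theorem point_perm_unique {σ τ : Equiv.Perm GolayPt} (h : ∀ x y, dv (σ x) (σ y) = dv (τ x) (τ y)) : σ = τ := by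
  refine Equiv.ext fun x => ?_
  by_contra hne
  obtain ⟨a, b, hax, -, hbx, -, hab⟩ := two_others x x
  have key : ∀ y, y ≠ x → σ y = τ x := fun y hy => by
    rcases dv_eq (σ.injective.ne hy.symm) (τ.injective.ne hy.symm) (h x y) with ⟨h1, -⟩ | ⟨-, h2⟩
    · exact absurd h1 hne
    · exact h2
  exact hab (σ.injective ((key a hax).trans (key b hbx).symm))

namespace Coord

variable {G : Type*} [Group G] [Finite G] {z : G} {Q : Subgroup G} (F : Coord z Q)
  (hg : ∃ g : G, g * z * g⁻¹ ∈ Q ∧ g * z * g⁻¹ ≠ z)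

/-- An element inducing a permutation of the points. -/
def Sends (m : G) (σ : Equiv.Perm GolayPt) : Prop :=
  ∀ x y, m * (F.elt hg (dv x y) : G) * m⁻¹ = (F.elt hg (dv (σ x) (σ y)) : G)

include hg

theorem sends_mul {m n : G} {σ τ : Equiv.Perm GolayPt} (h : F.Sends hg m σ) (h' : F.Sends hg n τ) :
    F.Sends hg (m * n) (σ * τ) := fun x y => by
  rw [show m * n * (F.elt hg (dv x y) : G) * (m * n)⁻¹ = m * (n * (F.elt hg (dv x y) : G) * n⁻¹) * m⁻¹ by group,
    h', h]
  rfl

theorem sends_unique {m : G} {σ τ : Equiv.Perm GolayPt} (h : F.Sends hg m σ) (h' : F.Sends hg m τ) : σ = τ :=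
  point_perm_unique fun x y =>
    F.elt_inj hg (dv_lt _ _) (dv_lt _ _) (Subtype.ext ((h x y).symm.trans (h' x y)))

/-- The induced map on the coordinates. -/
theorem exists_induced {m : G} (hm : m ∈ F.bigN) : ∃ π : ℕ → ℕ, (∀ n, π n < 2048) ∧
    (∀ a b, π (a ^^^ b) = π a ^^^ π b) ∧ (∀ a b, a < 2048 → b < 2048 → π a = π b → a = b) ∧
    (∀ n, n < 2048 → axDuads.testBit n = axDuads.testBit (π n)) ∧
    ∀ n, m * (F.elt hg n : G) * m⁻¹ = (F.elt hg (π n) : G) := by
  choose π hπ hπe using fun n => F.moves_image hg hm n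
  refine ⟨π, hπ, fun a b => ?_, fun a b ha hb e => ?_, fun n hn => ?_, hπe⟩
  · refine F.elt_inj hg (hπ _) (Nat.xor_lt_two_pow (n := 11) (hπ _) (hπ _)) (Subtype.ext ?_)
    rw [← hπe, F.elt_xor, F.elt_xor, Subgroup.coe_mul, Subgroup.coe_mul, ← hπe, ← hπe]
    group
  · refine F.elt_inj hg ha hb (Subtype.ext ?_)
    have h := (hπe a).trans ((congrArg (fun k => (F.elt hg k : G)) e).trans (hπe b).symm)
    exact mul_left_cancel (mul_right_cancel h)
  · rw [← duads_mask ⟨n, hn⟩, ← duads_mask ⟨π n, hπ n⟩, ← F.code0_eq hg]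
    exact F.class_image hg hn (hπ n) (hπe n)

theorem exists_sends {m : G} (hm : m ∈ F.bigN) : ∃ σ, σ ∈ M24 ∧ F.Sends hg m σ := by
  obtain ⟨π, h1, h2, h3, h4, h5⟩ := F.exists_induced hg hm
  obtain ⟨σ, hσ⟩ := exists_point_perm π h1 h2 h3 h4
  exact ⟨σ, (mem_M24_of_linear π h2 hσ).1, fun x y => by rw [h5, hσ]⟩

/-- The number of the conjugates of the central involution in the subgroup. -/
theorem card_conj : Nat.card {a : G // a ∈ F.bigG ∧ IsConj z a} = 1771 := by
  classical
  let f : {n : Fin 2048 // ¬ (n.1 = 0 ∨ axDuads.testBit n.1 = true)} → {a : G // a ∈ F.bigG ∧ IsConj z a} := fun n =>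
    ⟨(F.elt hg n.1.1 : G), F.mem_bigG.2 ⟨(F.elt hg n.1.1).2, F.elt_mem hg _⟩, not_not.1 fun h => n.2 (by
      have := (F.nconj_elt hg n.1.2).1 h
      rwa [F.code0_eq hg, duads_mask n.1] at this)⟩
  have hf : Function.Bijective f := by
    constructor
    · intro a b e
      exact Subtype.ext (Fin.ext (F.elt_inj hg a.1.2 b.1.2 (Subtype.ext
        (congrArg (fun a : {a : G // a ∈ F.bigG ∧ IsConj z a} => a.1) e))))
    · rintro ⟨a, ⟨x, hx, rfl⟩, hc⟩
      obtain ⟨n, hn, rfl⟩ := F.elt_surj hg hx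
      refine ⟨⟨⟨n, hn⟩, fun h => ?_⟩, rfl⟩
      refine (F.nconj_elt hg hn).2 ?_ hc
      rw [F.code0_eq hg, duads_mask ⟨n, hn⟩]
      exact h
  rw [← Nat.card_congr (Equiv.ofBijective f hf), Nat.card_eq_fintype_card, Fintype.card_subtype_compl,
    Fintype.card_fin, Fintype.card_subtype, class_count]

/-- The action on the points. -/
theorem exists_mathieu : ∃ Φ : ↥F.bigN →* ↥M24, Function.Surjective Φ ∧ (∀ m, Φ m = 1 ↔ (m : G) ∈ F.bigG) ∧
    ∀ m : ↥F.bigN, F.Sends hg (m : G) ((Φ m : ↥M24) : Equiv.Perm GolayPt) := by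
  classical
  choose σ hσM hσ using fun m : ↥F.bigN => F.exists_sends hg m.2
  let Φ : ↥F.bigN →* ↥M24 := MonoidHom.mk' (fun m => ⟨σ m, hσM m⟩) fun a b =>
    Subtype.ext (F.sends_unique hg (hσ (a * b)) (F.sends_mul hg (hσ a) (hσ b)))
  have hker : ∀ m, Φ m = 1 ↔ (m : G) ∈ F.bigG := by
    intro m
    constructor
    · intro h
      have h1 : ∀ x y, (m : G) * (F.elt hg (dv x y) : G) * (m : G)⁻¹ = (F.elt hg (dv x y) : G) := by
        have h2 := hσ m
        rw [show σ m = 1 from congrArg Subtype.val h] at h2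
        exact h2
      obtain ⟨π, -, h2, -, -, h5⟩ := F.exists_induced hg m.2
      have hfix : ∀ x, (m : G) * (F.elt hg (vPt x) : G) * (m : G)⁻¹ = (F.elt hg (vPt x) : G) := fun x => by
        have := h1 x none
        rwa [dv, vPt_none, Nat.xor_zero] at this
      refine F.centralizer_bigG fun a ha => ?_
      obtain ⟨h, ha'⟩ := F.mem_bigG.1 ha
      obtain ⟨n, hn, e⟩ := F.elt_surj hg ha'
      obtain ⟨s, rfl⟩ := exists_set hn
      have hs : ∀ s : Finset GolayPt, (m : G) * (F.elt hg (pMask (CfsgLib.Sporadic.maskOf s)) : G) * (m : G)⁻¹ =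
          (F.elt hg (pMask (CfsgLib.Sporadic.maskOf s)) : G) := by
        intro s
        induction s using Finset.induction_on with
        | empty =>
          rw [CfsgLib.Sporadic.maskOf_empty, show pMask 0 = 0 by decide +kernel, F.elt_zero hg]
          simp
        | insert x s hx ih =>
          rw [maskOf_insert hx, pMask_xor, pMask_point, F.elt_xor, Subgroup.coe_mul,
            show ∀ a b : G, (m : G) * (a * b) * (m : G)⁻¹ = (m : G) * a * (m : G)⁻¹ * ((m : G) * b * (m : G)⁻¹) from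
              fun a b => by group, ih]
          exact congrArg _ (hfix x)
      refine mul_inv_eq_iff_eq_mul.1 ?_
      rw [show a = (F.elt hg (pMask (CfsgLib.Sporadic.maskOf s)) : G) from
        (congrArg (fun y : ↥(Subgroup.centralizer ({z} : Set G)) => (y : G)) e).symm]
      exact hs s
    · intro h
      refine Subtype.ext (F.sends_unique hg (hσ m) fun x y => ?_)
      have hc := congrArg (fun w : ↥F.bigG => (w : G)) ((F.bigG_elementary hg).1.is_comm.comm ⟨m, h⟩
        ⟨_, F.mem_bigG.2 ⟨(F.elt hg (dv x y)).2, F.elt_mem hg _⟩⟩)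
      exact mul_inv_eq_iff_eq_mul.2 hc
  refine ⟨Φ, ?_, hker, hσ⟩
  have hk : Φ.ker = F.bigG.subgroupOf F.bigN := by
    ext m
    rw [MonoidHom.mem_ker, hker, Subgroup.mem_subgroupOf]
  have hle : F.bigG ≤ F.bigN := Subgroup.le_normalizer
  have h := Subgroup.card_eq_card_quotient_mul_card_subgroup Φ.ker
  rw [Nat.card_congr (QuotientGroup.quotientKerEquivRange Φ).toEquiv, hk,
    Nat.card_congr (Subgroup.subgroupOfEquivOfLe hle).toEquiv, F.card_bigG hg, F.card_bigN hg, F.card_conj hg] at h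
  rw [← MonoidHom.range_eq_top]
  refine Subgroup.eq_top_of_card_eq _ ?_
  rw [CfsgLib.Sporadic.M24_card]
  omega

end Coord

end CfsgLib.ThreeTrans.LargeFischer
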