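import Cfsg.Agent.Lib.ThreeTrans.LargeFischer.AxisModel

/-!
The candidates for the cocycle and the count that separates them (owner: helper28).
-/

set_option autoImplicit false
set_option maxRecDepth 100000
set_option maxHeartbeats 1000000
set_option Elab.async false

namespace CfsgLib.ThreeTrans.LargeFischer

open Matrix Cfsg
open CfsgLib.Recog.SporBound.Fi22U6 (F4)
open CfsgLib.Sporadic.U43Triple

/-- The cocycle with a given code. -/
def gamBit (g : ℕ) (u : ℕ) : Bool := g.testBit (axWide.idxOf u)

/-- Whether coordinates describe a non-conjugate of the central involution. -/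
def inD (g n : ℕ) : Bool :=
  if n / 128 = 0 then axPtMask.testBit (n / 2 % 64)
  else (axImgMask.getD (n / 128) 0).testBit (n / 2 % 64) &&
    (xor (n.testBit 0) (gamBit g (n / 128)) == (axSgnMask.getD (n / 128) 0).testBit (n / 2 % 64))

/-- The sum of the cocycle over the images of the bits of a label. -/
def gamBits (g : ℕ) (k : Fin 3) (u : Fin 16) : Bool :=
  xor (xor (u.1.testBit 0 && gamBit g (selImg k 1).1) (u.1.testBit 1 && gamBit g (selImg k 2).1))
    (xor (u.1.testBit 2 && gamBit g (selImg k 4).1) (u.1.testBit 3 && gamBit g (selImg k 8).1))

/-- The invariance of a cocycle under the generators. -/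
def gamInv (g : ℕ) : Bool :=
  decide (∀ k : Fin 3, ∀ u : Fin 16, xor (gamBit g (selImg k u).1) (gamBit g u.1) = gamBits g k u)

theorem gam_filter : (List.range 2048).filter gamInv = axCands := by decide +kernel

/-- The number of the non-conjugates whose product with a given element is again one. -/
def triCount (g n : ℕ) : ℕ := ((Finset.range 2048).filter fun x => inD g x && inD g (x ^^^ n)).card

/-- A reference element in `Q`. -/
def refIn : ℕ := 2 * axPoints.headD 0

theorem tri_bad : ∀ g ∈ axCands, g ≠ axGamma → triCount g refIn ≠ triCount g 128 := by decide +kernel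

theorem ref_facts : refIn < 128 ∧ ∀ g ∈ axCands, inD g refIn = true ∧ inD g 128 = true := by decide +kernel

end CfsgLib.ThreeTrans.LargeFischer
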