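import Cfsg.Agent.Lib.ThreeTrans.LargeFischer.AxisCount
import Cfsg.Agent.Lib.ThreeTrans.LargeFischer.AxisTri

/-!
Binary coordinates on the Thompson subgroup: the non-conjugates of the central involution form one orbit of the
normaliser (owner: helper28).
-/

set_option autoImplicit false
set_option maxHeartbeats 1000000
set_option maxRecDepth 100000

namespace CfsgLib.ThreeTrans.LargeFischer

open Matrix Cfsg
open CfsgLib.Recog.SporBound.Fi22U6 (F4)
open CfsgLib.Sporadic.U43Triple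

/-- A label with at most one bit, or zero. -/
def uSel (i : Fin 16) (b : Bool) : Fin 16 := if b then i else 0

/-- The label rebuilt from images of its bits. -/
def uBits (f : Fin 16 → Fin 16) (u : Fin 16) : Fin 16 :=
  uAdd (uAdd (uSel (f 1) (u.1.testBit 0)) (uSel (f 2) (u.1.testBit 1)))
    (uAdd (uSel (f 4) (u.1.testBit 2)) (uSel (f 8) (u.1.testBit 3)))

theorem uBits_self : ∀ u, uBits id u = u := by decide +kernel

theorem uBits_sel : ∀ k, ∀ u, uBits (selImg k) u = selImg k u := by decide +kernel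

theorem wide_cases : ∀ u : Fin 16, u.1 ∈ axWide ∨ u = 0 ∨ u = 1 ∨ u = 2 ∨ u = 4 ∨ u = 8 := by decide +kernel

theorem wide_facts : axWide.length = 11 ∧ (∀ u : Fin 16, u.1 ∈ axWide → axWide.idxOf u.1 < 11 ∧
    axWide.getD (axWide.idxOf u.1) 0 = u.1) ∧ ∀ u ∈ [(0 : Fin 16), 1, 2, 4, 8], axWide.idxOf u.1 = 11 := by
  decide +kernel

theorem sel_zero : ∀ k, selImg k 0 = 0 := by decide +kernel

theorem inD_plane : ∀ n : Fin 128, ∀ g ∈ axCands, inD g n.1 = axPtMask.testBit (n.1 / 2 % 64) := by decide +kernel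

theorem pts_span : ∀ w : Fin 64, ∃ p q : Fin 64, (p = 0 ∨ axPtMask.testBit p.1 = true) ∧
    (q = 0 ∨ axPtMask.testBit q.1 = true) ∧
    (w.1 ^^^ p.1 ^^^ q.1 = 0 ∨ axPtMask.testBit (w.1 ^^^ p.1 ^^^ q.1) = true) := by decide +kernel

theorem even_move : ∀ i j : Fin 6, i ≠ j → ∃ k l : Fin 6, k ≠ l ∧ k ≠ i ∧ k ≠ j ∧ l ≠ i ∧ l ≠ j := by decide +kernel

theorem exists_even (i j : Fin 6) : ∃ σ ∈ alternatingGroup (Fin 6), σ i = j := by
  by_cases h : i = j
  · exact ⟨1, one_mem _, h⟩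
  obtain ⟨k, l, hkl, hki, hkj, hli, hlj⟩ := even_move i j h
  refine ⟨Equiv.swap i j * Equiv.swap k l, Equiv.Perm.mem_alternatingGroup.2 ?_, ?_⟩
  · rw [map_mul, Equiv.Perm.sign_swap h, Equiv.Perm.sign_swap hkl]; rfl
  · rw [Equiv.Perm.mul_apply, Equiv.swap_apply_of_ne_of_ne (Ne.symm hki) (Ne.symm hli), Equiv.swap_apply_left]

theorem bits_split (a : ℕ) (ha : a < 2048) : a / 2 % 64 < 64 ∧ a / 128 < 16 :=
  ⟨Nat.mod_lt _ (by norm_num), by omega⟩

theorem xor_parts (a b : ℕ) : (a ^^^ b) / 2 % 64 = (a / 2 % 64) ^^^ (b / 2 % 64) ∧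
    (a ^^^ b) / 128 = (a / 128) ^^^ (b / 128) ∧ (a ^^^ b).testBit 0 = xor (a.testBit 0) (b.testBit 0) := by
  have h2 : ∀ n : ℕ, n / 2 = n >>> 1 := fun n => by rw [Nat.shiftRight_eq_div_pow]
  have h128 : ∀ n : ℕ, n / 128 = n >>> 7 := fun n => by rw [Nat.shiftRight_eq_div_pow]
  refine ⟨?_, ?_, Nat.testBit_xor _ _ _⟩
  · rw [h2, h2, h2, Nat.shiftRight_xor_distrib, show (64 : ℕ) = 2 ^ 6 by norm_num, Nat.xor_mod_two_pow]
  · rw [h128, h128, h128, Nat.shiftRight_xor_distrib]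

namespace Coord

variable {G : Type*} [Group G] {z : G} {Q : Subgroup G} (F : Coord z Q)

set_option quotPrecheck false in
local notation "CC" => ↥(Subgroup.centralizer ({z} : Set G))

/-- An element or the identity. -/
def pw (x : CC) (b : Bool) : CC := if b then x else 1

/-- The product over the bits of a label. -/
def prod4 (f : Fin 16 → CC) (u : Fin 16) : CC :=
  pw (f 1) (u.1.testBit 0) * pw (f 2) (u.1.testBit 1) * (pw (f 4) (u.1.testBit 2) * pw (f 8) (u.1.testBit 3))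

theorem conj_pw (c x : CC) (b : Bool) : c * pw x b * c⁻¹ = pw (c * x * c⁻¹) b := by
  cases b <;> simp [pw]

theorem conj_prod4 (c : CC) (f : Fin 16 → CC) (u : Fin 16) :
    c * prod4 f u * c⁻¹ = prod4 (fun i => c * f i * c⁻¹) u := by
  simp only [prod4, ← conj_pw]
  group

theorem pw_mem {x : CC} (hx : x ∈ F.bigA) (b : Bool) : pw x b ∈ F.bigA := by
  cases b
  · exact one_mem _
  · exact hx

theorem zb_mem (b : Bool) : F.zb b ∈ F.bigA := F.planeSub_le_bigA (F.zb_planeSub b)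

theorem pw_zb (d : Bool) (x : CC) (b : Bool) : pw (F.zb d * x) b = F.zb (b && d) * pw x b := by
  cases b <;> simp [pw, zb]

variable [Finite G] (hg : ∃ g : G, g * z * g⁻¹ ∈ Q ∧ g * z * g⁻¹ ≠ z)

theorem shuffle (hg : ∃ g : G, g * z * g⁻¹ ∈ Q ∧ g * z * g⁻¹ ≠ z) {b c : CC} (a d : CC) (hb : b ∈ F.bigA)
    (hc : c ∈ F.bigA) : a * b * (c * d) = a * c * (b * d) := by
  rw [mul_assoc, ← mul_assoc b, F.bigA_comm hg hb hc, mul_assoc c, ← mul_assoc a]

include hg

theorem pw_xor {x : CC} (hx : x ∈ F.bigA) (a b : Bool) : pw x (xor a b) = pw x a * pw x b := by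
  cases a <;> cases b <;> simp [pw, F.bigA_sq hg hx]

theorem prod4_xor {f : Fin 16 → CC} (hf : ∀ i, f i ∈ F.bigA) (a b : Fin 16) :
    prod4 f (uAdd a b) = prod4 f a * prod4 f b := by
  have hm := fun i c => F.pw_mem (hf i) c
  simp only [prod4, uAdd_facts.2.2, Nat.testBit_xor, F.pw_xor hg (hf _)]
  rw [F.shuffle hg _ _ (hm 1 _) (hm 2 _), F.shuffle hg _ _ (hm 4 _) (hm 8 _),
    F.shuffle hg _ _ (mul_mem (hm 1 _) (hm 2 _)) (mul_mem (hm 4 _) (hm 8 _))]

theorem exists_dist (u : Fin 16) :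
    ∃ e : CC, e ∈ F.bigA ∧ F.ActsAs e u ∧ F.jC * e = e * F.jC ∧
      (u ≠ 0 → ∀ c, NConj (F.zb c * e) ↔ c = false) ∧ (u = 0 → e = 1) := by
  classical
  by_cases hu : u = 0
  · subst hu
    refine ⟨1, one_mem _, F.actsAs_zero.2 (one_mem _), by simp, fun h => absurd rfl h, fun _ => rfl⟩
  · have h1 : F.cnt hg u 0 = 1 := (F.cnt_const hg hu).1.trans (F.cnt_values hg).1
    obtain ⟨b, hb⟩ := one_bit _ h1
    refine ⟨F.zb b * F.e0 hg u, mul_mem (F.zb_mem b) (F.e0_mem hg u), ?_,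
      (Commute.mul_right (F.zb_comm b F.jC).symm (F.e0_comm hg u)).eq, fun _ c => ?_, fun h => absurd h hu⟩
    · have h2 := F.actsAs_mul (F.actsAs_zero.2 (F.zb_planeSub b).1) (F.e0_acts hg u)
      rwa [uAdd_facts.2.1] at h2
    · have h3 := hb (xor c b)
      rw [pt0, F.sW_zero, mul_one] at h3
      rw [← mul_assoc, ← F.zb_xor, h3]
      cases b <;> cases c <;> simp

/-- The distinguished lift. -/
noncomputable def eD (u : Fin 16) : CC := (F.exists_dist hg u).choose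

theorem eD_mem (u : Fin 16) : F.eD hg u ∈ F.bigA := (F.exists_dist hg u).choose_spec.1

theorem eD_acts (u : Fin 16) : F.ActsAs (F.eD hg u) u := (F.exists_dist hg u).choose_spec.2.1

theorem eD_comm (u : Fin 16) : F.jC * F.eD hg u = F.eD hg u * F.jC := (F.exists_dist hg u).choose_spec.2.2.1

theorem eD_class {u : Fin 16} (hu : u ≠ 0) (c : Bool) : NConj (F.zb c * F.eD hg u) ↔ c = false :=
  (F.exists_dist hg u).choose_spec.2.2.2.1 hu c

theorem eD_zero : F.eD hg 0 = 1 := (F.exists_dist hg 0).choose_spec.2.2.2.2 rfl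

/-- The class of an element outside `Q`. -/
theorem nconj_coset {u : Fin 16} (hu : u ≠ 0) (b : Bool) (w : Fin 64) :
    NConj (F.zb b * F.sW w.1 * F.eD hg u) ↔
      (imgMask u).testBit w.1 = true ∧ b = (sgnMask u).testBit w.1 := by
  classical
  by_cases hw : (imgMask u).testBit w.1 = true
  · obtain ⟨v, hv, hs⟩ := img_exists hw
    obtain ⟨q, rfl⟩ := F.surj v
    have he := F.conj_fixed (F.eD_mem hg u) (F.eD_acts hg u) (F.eD_comm hg u) q hv
    rw [hs] at he
    have key : F.inQ q * (F.zb (xor b ((sgnMask u).testBit w.1)) * F.eD hg u) * (F.inQ q)⁻¹ =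
        F.zb b * F.sW w.1 * F.eD hg u := by
      rw [show F.inQ q * (F.zb (xor b ((sgnMask u).testBit w.1)) * F.eD hg u) * (F.inQ q)⁻¹ =
        F.inQ q * F.zb (xor b ((sgnMask u).testBit w.1)) * (F.inQ q)⁻¹ * (F.inQ q * F.eD hg u * (F.inQ q)⁻¹) by group,
        he, ← F.zb_comm, mul_inv_cancel_right, ← mul_assoc, ← mul_assoc, ← F.zb_xor]
      cases b <;> cases (sgnMask u).testBit w.1 <;> rfl
    rw [← key, nconj_conj, F.eD_class hg hu]
    cases b <;> cases h : (sgnMask u).testBit w.1 <;> simp [hw]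
  · refine ⟨fun h => ?_, fun h => absurd h.1 hw⟩
    exfalso
    have h1 := F.cnt_eq hg hu w
    rw [if_neg hw, (F.cnt_const hg hu).2, (F.cnt_values hg).2] at h1
    obtain ⟨d, hd⟩ := F.fixed_unique (F.e0_mem hg u) (F.eD_mem hg u) (F.e0_acts hg u) (F.eD_acts hg u)
      (F.e0_comm hg u) (F.eD_comm hg u)
    have h2 : xor b d ∈ Finset.univ.filter fun b : Bool => NConj (F.pt0 hg u w.1 b) := by
      refine Finset.mem_filter.2 ⟨Finset.mem_univ _, ?_⟩
      rw [pt0, F.zb_xor]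
      rw [hd] at h
      convert h using 1
      simp only [mul_assoc]
      rw [← mul_assoc (F.zb d), F.zb_comm d (F.sW w.1), mul_assoc]
    rw [cnt] at h1
    rw [Finset.card_eq_zero.1 h1] at h2
    exact absurd h2 (Finset.notMem_empty _)

/-- The additive lift. -/
noncomputable def eb (u : Fin 16) : CC := prod4 (F.eD hg) u

theorem eb_mem (u : Fin 16) : F.eb hg u ∈ F.bigA := by
  have h := fun i c => F.pw_mem (F.eD_mem hg i) c
  exact mul_mem (mul_mem (h _ _) (h _ _)) (mul_mem (h _ _) (h _ _))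

theorem eb_add (a b : Fin 16) : F.eb hg (uAdd a b) = F.eb hg a * F.eb hg b := F.prod4_xor hg (F.eD_mem hg) a b

theorem eb_acts (u : Fin 16) : F.ActsAs (F.eb hg u) u := by
  have h : ∀ i b, F.ActsAs (pw (F.eD hg i) b) (uSel i b) := fun i b => by
    cases b
    · exact F.actsAs_zero.2 (one_mem _)
    · exact F.eD_acts hg i
  have := F.actsAs_mul (F.actsAs_mul (h 1 (u.1.testBit 0)) (h 2 (u.1.testBit 1)))
    (F.actsAs_mul (h 4 (u.1.testBit 2)) (h 8 (u.1.testBit 3)))
  change F.ActsAs (F.eb hg u) (uBits id u) at this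
  rwa [uBits_self] at this

theorem eb_comm (u : Fin 16) : F.jC * F.eb hg u = F.eb hg u * F.jC := by
  have h : ∀ i b, Commute F.jC (pw (F.eD hg i) b) := fun i b => by
    cases b
    · exact Commute.one_right _
    · exact F.eD_comm hg i
  exact (((h _ _).mul_right (h _ _)).mul_right ((h _ _).mul_right (h _ _))).eq

theorem exists_gam (u : Fin 16) : ∃ b, F.eD hg u = F.zb b * F.eb hg u :=
  F.fixed_unique (F.eb_mem hg u) (F.eD_mem hg u) (F.eb_acts hg u) (F.eD_acts hg u) (F.eb_comm hg u)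
    (F.eD_comm hg u)

theorem eb_bit : ∀ u ∈ [(0 : Fin 16), 1, 2, 4, 8], F.eD hg u = F.eb hg u := by
  intro u hu
  simp only [List.mem_cons, List.not_mem_nil, or_false] at hu
  rcases hu with rfl | rfl | rfl | rfl | rfl <;> simp [eb, prod4, pw, F.eD_zero hg, Nat.testBit_eq_decide_div_mod_eq]

theorem exists_code : ∃ g, g < 2048 ∧ ∀ u, F.eD hg u = F.zb (gamBit g u.1) * F.eb hg u := by
  choose γ hγ using F.exists_gam hg
  refine ⟨Nat.ofBits fun i : Fin 11 => γ ⟨axWide.getD i.1 0 % 16, Nat.mod_lt _ (by norm_num)⟩, ?_, fun u => ?_⟩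
  · exact Nat.ofBits_lt_two_pow _
  obtain ⟨-, h1, h2⟩ := wide_facts
  have hbit : ∀ u : Fin 16, axWide.idxOf u.1 = 11 → ∀ f : Fin 11 → Bool,
      gamBit (Nat.ofBits f) u.1 = false := fun u hu f => by
    rw [gamBit, hu]
    exact Nat.testBit_lt_two_pow (Nat.ofBits_lt_two_pow f)
  rcases wide_cases u with hu | hu
  · obtain ⟨h3, h4⟩ := h1 u hu
    rw [gamBit, Nat.testBit_ofBits_lt _ _ h3, hγ u]
    congr
    exact Fin.ext (by show _ = axWide.getD (axWide.idxOf u.1) 0 % 16; rw [h4, Nat.mod_eq_of_lt u.2])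
  · have hu' : u ∈ [(0 : Fin 16), 1, 2, 4, 8] := by simpa using hu
    rw [hbit u (h2 u hu'), zb, if_neg (by simp), one_mul]
    exact F.eb_bit hg u hu'

/-- The code of the cocycle. -/
noncomputable def code0 : ℕ := (F.exists_code hg).choose

theorem eD_eq (u : Fin 16) : F.eD hg u = F.zb (gamBit (F.code0 hg) u.1) * F.eb hg u :=
  (F.exists_code hg).choose_spec.2 u

theorem code0_mem : F.code0 hg ∈ axCands := by
  set g := F.code0 hg with hgdef
  rw [← gam_filter, List.mem_filter]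
  refine ⟨List.mem_range.2 (F.exists_code hg).choose_spec.1, decide_eq_true fun k u => ?_⟩
  obtain ⟨c, hcS, hcv, hcj⟩ := F.exists_lift_comm (selElt_mem k)
  have hc : ∀ u, c * F.eD hg u * c⁻¹ = F.eD hg (selImg k u) := by
    intro u
    by_cases hu : u = 0
    · subst hu
      rw [sel_zero, F.eD_zero]; simp
    obtain ⟨d, hd⟩ := F.fixed_unique (F.eD_mem hg (selImg k u)) (F.conj_bigA hcS (F.eD_mem hg u))
      (F.eD_acts hg (selImg k u)) (fun v => by
        obtain ⟨y, rfl⟩ : ∃ y, F.act c y = v := (F.act c).surjective v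
        rw [← Equiv.Perm.mul_apply, ← _root_.map_mul, inv_mul_cancel_right, _root_.map_mul, Equiv.Perm.mul_apply,
          F.eD_acts hg u, hcv, hcv, Matrix.mulVec_mulVec, Matrix.mulVec_mulVec, ← mat_mul, ← mat_mul, selElt_conj]
        rfl) (F.eD_comm hg _) ((Commute.mul_right (Commute.mul_right hcj (F.eD_comm hg u)) (Commute.inv_right hcj)).eq)
    have h : NConj (F.zb d * F.eD hg (selImg k u)) := by
      rw [← hd, nconj_conj]
      have := (F.eD_class hg hu false).2 rfl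
      rwa [zb, if_neg (by simp), one_mul] at this
    rw [hd, (F.eD_class hg (sel_nonzero k u hu) d).1 h, zb, if_neg (by simp), one_mul]
  have h1 : c * F.eb hg u * c⁻¹ = F.zb (gamBits g k u) * F.eb hg (selImg k u) := by
    rw [eb, conj_prod4]
    simp only [hc]
    simp only [prod4, F.eD_eq hg, ← hgdef, F.pw_zb]
    have hz : ∀ a b x y, F.zb a * x * (F.zb b * y) = F.zb (xor a b) * (x * y) := fun a b x y => by
      rw [F.zb_xor, mul_assoc, ← mul_assoc x, ← F.zb_comm]; simp only [mul_assoc]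
    rw [hz, hz, hz]
    congr 1
    have hp : ∀ i b, pw (F.eb hg i) b = F.eb hg (uSel i b) := fun i b => by
      cases b
      · simp [eb, prod4, pw, uSel]
      · rfl
    rw [hp, hp, hp, hp, ← F.eb_add, ← F.eb_add, ← F.eb_add]
    exact congrArg _ (uBits_sel k u)
  have h2 := hc u
  rw [F.eD_eq hg, F.eD_eq hg, ← hgdef,
    show c * (F.zb (gamBit g u.1) * F.eb hg u) * c⁻¹ = c * F.zb (gamBit g u.1) * c⁻¹ * (c * F.eb hg u * c⁻¹) by group,
    ← F.zb_comm, mul_inv_cancel_right, h1, ← mul_assoc, ← F.zb_xor] at h2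
  rw [← F.zb_injective (mul_right_cancel h2)]
  cases gamBit g u.1 <;> cases gamBits g k u <;> rfl

/-! ### The coordinates -/

/-- The element with given coordinates. -/
noncomputable def elt (n : ℕ) : CC :=
  F.zb (n.testBit 0) * F.sW (n / 2 % 64) * F.eb hg ⟨n / 128 % 16, Nat.mod_lt _ (by norm_num)⟩

theorem elt_mem (n : ℕ) : F.elt hg n ∈ F.bigA :=
  mul_mem (mul_mem (F.zb_mem _) (F.planeSub_le_bigA (F.sW_planeSub _))) (F.eb_mem hg _)

theorem elt_xor (a b : ℕ) : F.elt hg (a ^^^ b) = F.elt hg a * F.elt hg b := by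
  obtain ⟨h1, h2, h3⟩ := xor_parts a b
  have hu : (⟨(a ^^^ b) / 128 % 16, Nat.mod_lt _ (by norm_num)⟩ : Fin 16) =
      uAdd ⟨a / 128 % 16, Nat.mod_lt _ (by norm_num)⟩ ⟨b / 128 % 16, Nat.mod_lt _ (by norm_num)⟩ :=
    Fin.ext (by rw [uAdd_facts.2.2, h2]; exact Nat.xor_mod_two_pow (n := 4))
  simp only [elt, h3, h1, hu]
  rw [F.zb_xor, F.eb_add, F.sW_add ⟨_, Nat.mod_lt _ (by norm_num)⟩ ⟨_, Nat.mod_lt _ (by norm_num)⟩]
  have hA := fun c => F.zb_mem c
  have hW := fun w => F.planeSub_le_bigA (F.sW_planeSub w)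
  rw [F.shuffle hg _ _ (hA _) (hW _),
    F.shuffle hg _ _ (mul_mem (hA _) (hW _)) (F.eb_mem hg _)]

theorem eb_zero : F.eb hg 0 = 1 := by simp [eb, prod4, pw]

theorem elt_zero : F.elt hg 0 = 1 := by
  rw [elt]
  simp [zb, F.sW_zero, F.eb_zero hg]

theorem elt_eq_one {n : ℕ} (hn : n < 2048) (h : F.elt hg n = 1) : n = 0 := by
  have hu : n / 128 = 0 := by
    have h1 : F.ActsAs (F.zb (n.testBit 0) * F.sW (n / 2 % 64)) 0 :=
      F.actsAs_zero.2 (mul_mem (F.zb_planeSub _) (F.sW_planeSub _)).1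
    have h2 : F.ActsAs (F.elt hg n) _ := F.actsAs_mul h1 (F.eb_acts hg ⟨n / 128 % 16, Nat.mod_lt _ (by norm_num)⟩)
    rw [h, uAdd_facts.2.1] at h2
    have h3 := congrArg Fin.val (F.actsAs_unique h2 (F.actsAs_zero.2 (one_mem _)))
    change n / 128 % 16 = 0 at h3
    omega
  simp only [elt, hu, Nat.zero_mod] at h
  rw [show (⟨0, by norm_num⟩ : Fin 16) = 0 from rfl, F.eb_zero hg, mul_one] at h
  have hc := F.planeSub_coord (b := n.testBit 0) (b' := false) (w := ⟨n / 2 % 64, Nat.mod_lt _ (by norm_num)⟩) (w' := 0)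
    (by rw [show F.sW (0 : Fin 64).1 = 1 from F.sW_zero, mul_one]; exact h)
  have h0 : n % 2 = 0 := by
    have := hc.1
    rw [Nat.testBit_zero] at this
    simp at this
    omega
  have hw := congrArg Fin.val hc.2
  change n / 2 % 64 = 0 at hw
  omega

theorem elt_inj {a b : ℕ} (ha : a < 2048) (hb : b < 2048) (h : F.elt hg a = F.elt hg b) : a = b := by
  refine xor_eq_zero_iff.1 (F.elt_eq_one hg (Nat.xor_lt_two_pow (n := 11) ha hb) ?_)
  rw [F.elt_xor, h, F.bigA_sq hg (F.elt_mem hg b)]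

theorem elt_surj {x : CC} (hx : x ∈ F.bigA) : ∃ n, n < 2048 ∧ F.elt hg n = x := by
  have hb : Function.Bijective fun n : Fin 2048 => (⟨_, F.elt_mem hg n.1⟩ : ↥F.bigA) :=
    (Nat.bijective_iff_injective_and_card _).2 ⟨fun a b e => Fin.ext (F.elt_inj hg a.2 b.2 (congrArg Subtype.val e)),
      by rw [(F.bigA_counts hg).1, Nat.card_fin]; norm_num⟩
  obtain ⟨n, hn⟩ := hb.2 ⟨x, hx⟩
  exact ⟨n.1, n.2, congrArg Subtype.val hn⟩

theorem elt_coset {n : ℕ} (hn : n < 2048) :
    F.elt hg n = F.zb (xor (n.testBit 0) (gamBit (F.code0 hg) (n / 128))) * F.sW (n / 2 % 64) *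
      F.eD hg ⟨n / 128 % 16, Nat.mod_lt _ (by norm_num)⟩ := by
  rw [elt, F.eD_eq hg, F.zb_xor]
  have h : n / 128 % 16 = n / 128 := Nat.mod_eq_of_lt (by omega)
  have key : ∀ a g (s e : CC), F.zb a * F.zb g * s * (F.zb g * e) = F.zb a * s * e := fun a g s e => by
    rw [mul_assoc (F.zb a) (F.zb g) s, F.zb_comm g s]
    simp only [mul_assoc]
    rw [← mul_assoc (F.zb g), ← F.zb_xor, Bool.xor_self, show F.zb false = 1 from rfl, one_mul]
  simp only [h, key]

theorem nconj_elt {n : ℕ} (hn : n < 2048) : NConj (F.elt hg n) ↔ n = 0 ∨ inD (F.code0 hg) n = true := by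
  have hw : n / 2 % 64 < 64 := Nat.mod_lt _ (by norm_num)
  by_cases hu : n / 128 = 0
  · rw [show inD (F.code0 hg) n = axPtMask.testBit (n / 2 % 64) by rw [inD, if_pos hu]]
    simp only [elt, hu, Nat.zero_mod]
    rw [show (⟨0, by norm_num⟩ : Fin 16) = 0 from rfl, F.eb_zero hg, mul_one,
      F.nconj_plane hg (n.testBit 0) ⟨_, hw⟩]
    refine or_congr ⟨fun h => ?_, fun h => by subst h; exact ⟨rfl, rfl⟩⟩ Iff.rfl
    have h1 := congrArg Fin.val h.1
    change n / 2 % 64 = 0 at h1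
    have h2 := h.2
    rw [Nat.testBit_zero] at h2
    simp at h2
    omega
  · rw [F.elt_coset hg hn, F.nconj_coset hg (fun h => hu (by
      have := congrArg Fin.val h
      change n / 128 % 16 = 0 at this
      omega)) _ ⟨_, hw⟩, inD, if_neg hu]
    have h : n / 128 % 16 = n / 128 := Nat.mod_eq_of_lt (by omega)
    simp only [imgMask, sgnMask, h, Bool.and_eq_true, beq_iff_eq]
    exact ⟨fun h => Or.inr h, fun h => h.resolve_left (by omega)⟩

/-! ### The orbit of the non-conjugates -/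

theorem out_orbit {n : ℕ} (hn : n < 2048) (hu : n / 128 ≠ 0) (hD : inD (F.code0 hg) n = true) :
    ∃ c ∈ F.stabC, c * F.elt hg 128 * c⁻¹ = F.elt hg n := by
  have h128 : F.elt hg 128 = F.eD hg 1 := by
    rw [elt, show Nat.testBit 128 0 = false by decide +kernel]
    simp only [show (128 : ℕ) / 2 % 64 = 0 by norm_num, show (128 : ℕ) / 128 % 16 = 1 by norm_num]
    rw [F.sW_zero, mul_one, zb, if_neg (by simp), one_mul, F.eb_bit hg 1 (by simp)]
    rfl
  rw [h128]
  set u : Fin 16 := ⟨n / 128 % 16, Nat.mod_lt _ (by norm_num)⟩ with hudef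
  have hu0 : u ≠ 0 := fun h => hu (by
    have := congrArg Fin.val h
    change n / 128 % 16 = 0 at this
    omega)
  obtain ⟨c, hc, hce⟩ : ∃ c ∈ F.stabC, c * F.eD hg 1 * c⁻¹ = F.eD hg u := by
    refine (ua_induction (p := fun u => u ≠ 0 ∧ ∃ c ∈ F.stabC, c * F.eD hg 1 * c⁻¹ = F.eD hg u)
      ⟨by decide, 1, one_mem _, by simp⟩ ?_ hu0).2
    rintro k m ⟨hm, c, hc, hce⟩
    refine ⟨sel_nonzero k m hm, ?_⟩
    obtain ⟨d, hdS, hdv, hdj⟩ := F.exists_lift_comm (selElt_mem k)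
    obtain ⟨b, hb⟩ := F.fixed_unique (F.eD_mem hg (selImg k m)) (F.conj_bigA hdS (F.eD_mem hg m))
      (F.eD_acts hg (selImg k m)) (fun v => by
        obtain ⟨y, rfl⟩ : ∃ y, F.act d y = v := (F.act d).surjective v
        rw [← Equiv.Perm.mul_apply, ← _root_.map_mul, inv_mul_cancel_right, _root_.map_mul, Equiv.Perm.mul_apply,
          F.eD_acts hg m, hdv, hdv, Matrix.mulVec_mulVec, Matrix.mulVec_mulVec, ← mat_mul, ← mat_mul, selElt_conj]
        rfl) (F.eD_comm hg _) ((Commute.mul_right (Commute.mul_right hdj (F.eD_comm hg m)) (Commute.inv_right hdj)).eq)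
    have h : NConj (F.zb b * F.eD hg (selImg k m)) := by
      rw [← hb, nconj_conj]
      have := (F.eD_class hg hm false).2 rfl
      rwa [zb, if_neg (by simp), one_mul] at this
    rw [(F.eD_class hg (sel_nonzero k m hm) b).1 h, zb, if_neg (by simp), one_mul] at hb
    refine ⟨d * c, mul_mem hdS hc, ?_⟩
    rw [show d * c * F.eD hg 1 * (d * c)⁻¹ = d * (c * F.eD hg 1 * c⁻¹) * d⁻¹ by group, hce, hb]
    rfl
  have hw : n / 2 % 64 < 64 := Nat.mod_lt _ (by norm_num)
  rw [inD, if_neg hu, Bool.and_eq_true, beq_iff_eq] at hD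
  have hn16 : n / 128 % 16 = n / 128 := Nat.mod_eq_of_lt (by omega)
  obtain ⟨v, hv, hs⟩ := img_exists (u := u) (w := ⟨_, hw⟩) (by
    simp only [imgMask, hudef, hn16]; exact hD.1)
  obtain ⟨q, rfl⟩ := F.surj v
  refine ⟨F.inQ q * c, mul_mem (fun v => by rw [F.act_inQ]; rfl) hc, ?_⟩
  rw [show F.inQ q * c * F.eD hg 1 * (F.inQ q * c)⁻¹ = F.inQ q * (c * F.eD hg 1 * c⁻¹) * (F.inQ q)⁻¹ by group, hce,
    F.conj_fixed (F.eD_mem hg u) (F.eD_acts hg u) (F.eD_comm hg u) q hv, hs, F.elt_coset hg hn, hD.2]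
  simp only [sgnMask, hudef, hn16]

theorem in_orbit {a b : ℕ} (ha : a < 128) (hb : b < 128) (haD : inD (F.code0 hg) a = true)
    (hbD : inD (F.code0 hg) b = true) : ∃ c ∈ F.stabC, c * F.elt hg a * c⁻¹ = F.elt hg b := by
  have key : ∀ n, n < 128 → inD (F.code0 hg) n = true → ∃ (q : ↥Q) (i : Fin 6) (x : F4),
      x ≠ 0 ∧ F.inQ q = F.elt hg n ∧ F.ψ q = x • ptRep i := by
    intro n hn hD
    have hu : n / 128 = 0 := Nat.div_eq_of_lt hn
    rw [inD, if_pos hu] at hD
    obtain ⟨hw0, hO⟩ := (pts_mask ⟨n / 2 % 64, Nat.mod_lt _ (by norm_num)⟩).1 hD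
    have he : F.elt hg n = F.zb (n.testBit 0) * F.sW (n / 2 % 64) := by
      simp only [elt, hu, Nat.zero_mod]
      rw [show (⟨0, by norm_num⟩ : Fin 16) = 0 from rfl, F.eb_zero hg, mul_one]
    generalize n.testBit 0 = bb at he
    obtain ⟨hq, -⟩ := mul_mem (F.zb_planeSub bb) (F.sW_planeSub (n / 2 % 64))
    obtain ⟨s, hs, hψ⟩ := F.sW_spec (n / 2 % 64)
    have hqψ : F.ψ ⟨_, hq⟩ = wOf (n / 2 % 64) := by
      rw [← hψ]
      cases bb
      · exact congrArg F.ψ (Subtype.ext (by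
          show ((1 : CC) * F.sW (n / 2 % 64) : CC).1 = (s : G)
          rw [one_mul, ← hs]; rfl))
      · rw [← zero_add (F.ψ s), ← (F.eq_zero ⟨z, F.large.z_mem⟩).2 (Subgroup.mem_zpowers z), ← F.map_mul]
        exact congrArg F.ψ (Subtype.ext (by
          show ((zC : CC) * F.sW (n / 2 % 64) : CC).1 = z * (s : G)
          rw [← hs]; rfl))
    have hiso : IsoV (wOf (n / 2 % 64)) :=
      (iso_iff _).2 ⟨fun h => hw0 (wOf_eq_zero ⟨_, Nat.mod_lt _ (by norm_num)⟩ h), hf_inW (wOf_mem _) (wOf_mem _)⟩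
    obtain ⟨i, hi⟩ := inW_cases (p := fun w => IsoV w → Om 1 w → ∃ i, InP i w) pts_all (wOf_mem _) hiso hO
    obtain ⟨x, hx, e⟩ := inP_line hi
    exact ⟨⟨_, hq⟩, i, x, hx, he.symm, hqψ.trans e⟩
  obtain ⟨p, i, x, hx, hpe, hpψ⟩ := key a ha haD
  obtain ⟨r, k, y, hy, hre, hrψ⟩ := key b hb hbD
  obtain ⟨σ, hσ, hσi⟩ := exists_even i k
  obtain ⟨t, ht⟩ := hexHom_range.ge hσ
  have hm := hexHom_spec t i _ (pts_scal i x hx)
  rw [ht, hσi] at hm
  obtain ⟨x', hx', e⟩ := inP_line hm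
  have hsx : y * x'⁻¹ ≠ 0 := mul_ne_zero hy (inv_ne_zero hx')
  obtain ⟨c, hcS, hc⟩ := F.lift_stabC (mul_mem (scal_stabW _ hsx) t.2)
  have hpne : F.ψ p ≠ 0 := fun h => (pts_class i).2.1.1 (by
    rw [hpψ] at h
    exact (smul_eq_zero.1 h).resolve_left hx)
  obtain ⟨d, hd, hdact⟩ := F.conj_of_act (a := p) (b := r) hpne c (by
    rw [hc, hpψ, mat_mul, ← Matrix.mulVec_mulVec, e, mat_scal, smul_smul, mul_assoc, inv_mul_cancel₀ hx', mul_one,
      hrψ])
  refine ⟨d, fun v => by rw [hdact]; exact hcS v, ?_⟩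
  rw [← hpe, ← hre]
  exact Subtype.ext hd

omit hg in
/-- An element of the normaliser moving one element of the subgroup to another. -/
def Moves (a b : CC) : Prop := ∃ m ∈ F.bigN, m * (a : G) * m⁻¹ = b

omit hg in
theorem moves_trans {a b c : CC} (h : F.Moves a b) (h' : F.Moves b c) : F.Moves a c := by
  obtain ⟨m, hm, e⟩ := h
  obtain ⟨m', hm', e'⟩ := h'
  exact ⟨m' * m, mul_mem hm' hm, by rw [← e', ← e]; group⟩

omit hg in
theorem moves_symm {a b : CC} (h : F.Moves a b) : F.Moves b a := by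
  obtain ⟨m, hm, e⟩ := h
  exact ⟨m⁻¹, inv_mem hm, by rw [← e]; group⟩

omit hg in
theorem moves_stab {a b c : CC} (hc : c ∈ F.stabC) (h : c * a * c⁻¹ = b) : F.Moves a b :=
  ⟨c, F.stabC_le_bigN hc, congrArg (fun y : CC => (y : G)) h⟩

theorem moves_image {m : G} (hm : m ∈ F.bigN) (n : ℕ) :
    ∃ k, k < 2048 ∧ m * (F.elt hg n : G) * m⁻¹ = (F.elt hg k : G) := by
  obtain ⟨h1, h2⟩ := F.mem_bigG.1 (F.conj_mem_bigG hm (F.mem_bigG.2 ⟨(F.elt hg n).2, F.elt_mem hg n⟩))
  obtain ⟨k, hk, e⟩ := F.elt_surj hg h2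
  exact ⟨k, hk, (congrArg (fun y : CC => (y : G)) e).symm⟩

theorem class_image {m : G} {n k : ℕ} (hn : n < 2048) (hk : k < 2048)
    (he : m * (F.elt hg n : G) * m⁻¹ = (F.elt hg k : G)) :
    inD (F.code0 hg) n = inD (F.code0 hg) k := by
  have h0 : inD (F.code0 hg) 0 = false := by simp [inD, show axPtMask.testBit 0 = false by decide +kernel]
  have hz : n = 0 ↔ k = 0 := by
    constructor
    · rintro rfl
      refine F.elt_eq_one hg hk (Subtype.ext ?_)
      rw [← he, F.elt_zero hg]; simp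
    · rintro rfl
      refine F.elt_eq_one hg hn (Subtype.ext ?_)
      rw [F.elt_zero hg, Subgroup.coe_one, mul_inv_eq_one] at he
      exact mul_eq_left.1 he
  have hiff : NConj (F.elt hg n) ↔ NConj (F.elt hg k) := by
    have h : IsConj (F.elt hg n : G) (F.elt hg k : G) := isConj_iff.2 ⟨m, he⟩
    exact ⟨fun hn hx => hn (hx.trans h.symm), fun hn hx => hn (hx.trans h)⟩
  rw [F.nconj_elt hg hn, F.nconj_elt hg hk] at hiff
  by_cases hn0 : n = 0
  · rw [hn0, hz.1 hn0]
  · have hk0 : ¬ k = 0 := fun h => hn0 (hz.2 h)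
    simp only [hn0, hk0, false_or] at hiff
    exact Bool.eq_iff_iff.2 hiff

/-- Some element of the normaliser links the two parts. -/
theorem exists_link : F.Moves (F.elt hg 128) (F.elt hg refIn) := by
  have hmemD := ref_facts.2 _ (F.code0_mem hg)
  by_contra hcon
  have hstay : ∀ m ∈ F.bigN, ∀ n, n < 128 → inD (F.code0 hg) n = true →
      ∀ k, k < 2048 → m * (F.elt hg n : G) * m⁻¹ = (F.elt hg k : G) → k < 128 := by
    intro m hm n hn hD k hk he
    by_contra hk'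
    obtain ⟨c, hc, ec⟩ := F.out_orbit hg hk (by omega) ((F.class_image hg (by omega) hk he).symm.trans hD)
    obtain ⟨d, hd, ed⟩ := F.in_orbit hg hn ref_facts.1 hD hmemD.1
    exact hcon (F.moves_trans (F.moves_trans (F.moves_stab hc ec) (F.moves_symm ⟨m, hm, he⟩)) (F.moves_stab hd ed))
  have hzelt : F.elt hg 1 = zC := by
    rw [elt, show Nat.testBit 1 0 = true by decide +kernel]
    simp only [show (1 : ℕ) / 2 % 64 = 0 by norm_num, show (1 : ℕ) / 128 % 16 = 0 by norm_num]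
    rw [F.sW_zero, show (⟨0, by norm_num⟩ : Fin 16) = 0 from rfl, F.eb_zero hg, mul_one, mul_one]
    rfl
  -- a conjugate outside
  have hout : NConj (F.elt hg 129) → False := fun h => by
    rw [show (129 : ℕ) = 128 ^^^ 1 by decide +kernel, F.elt_xor, hzelt] at h
    have h128 : F.elt hg 128 = F.eD hg 1 := by
      rw [elt, show Nat.testBit 128 0 = false by decide +kernel]
      simp only [show (128 : ℕ) / 2 % 64 = 0 by norm_num, show (128 : ℕ) / 128 % 16 = 1 by norm_num]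
      rw [F.sW_zero, mul_one, zb, if_neg (by simp), one_mul, F.eb_bit hg 1 (by simp)]
      rfl
    rw [h128, show (zC : CC) = F.zb true from rfl, ← F.zb_comm, F.eD_class hg (by decide)] at h
    exact Bool.noConfusion h
  obtain ⟨m, hm, hmz⟩ := F.exists_move_z hg (v := (F.elt hg 129 : G))
    (F.mem_bigG.2 ⟨(F.elt hg 129).2, F.elt_mem hg 129⟩) (not_not.1 fun h => hout h)
  -- the elements which stay inside
  let P : ℕ → Prop := fun n => ∃ k, k < 128 ∧ m * (F.elt hg n : G) * m⁻¹ = (F.elt hg k : G)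
  have hP0 : P 0 := ⟨0, by norm_num, by rw [F.elt_zero hg]; simp⟩
  have hPadd : ∀ a b, P a → P b → P (a ^^^ b) := by
    rintro a b ⟨i, hi, ei⟩ ⟨k, hk, ek⟩
    refine ⟨i ^^^ k, Nat.xor_lt_two_pow (n := 7) hi hk, ?_⟩
    rw [F.elt_xor, F.elt_xor, Subgroup.coe_mul, Subgroup.coe_mul, ← ei, ← ek]
    group
  have hPD : ∀ n, n < 128 → axPtMask.testBit (n / 2 % 64) = true → P n := by
    intro n hn hp
    obtain ⟨k, hk, e⟩ := F.moves_image hg hm n
    refine ⟨k, hstay m hm n hn ?_ k hk e, e⟩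
    rw [← inD_plane ⟨n, hn⟩ _ (F.code0_mem hg)] at hp
    exact hp
  have hP1 : P 1 := by
    have hp : axPtMask.testBit (refIn / 2 % 64) = true := by decide +kernel
    have h2 : axPtMask.testBit ((refIn ^^^ 1) / 2 % 64) = true ∧ (refIn ^^^ 1) < 128 := by decide +kernel
    have h := hPadd _ _ (hPD _ ref_facts.1 hp) (hPD _ h2.2 h2.1)
    rwa [← Nat.xor_assoc, Nat.xor_self, Nat.zero_xor] at h
  obtain ⟨k, hk, e⟩ := hP1
  rw [hzelt] at e
  have e' : F.elt hg k = F.elt hg 129 := Subtype.ext (e.symm.trans hmz)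
  have := F.elt_inj hg (by omega) (by norm_num) e'
  omega

/-- The cocycle is determined. -/
theorem code0_eq : F.code0 hg = axGamma := by
  by_contra hne
  have hmem := F.code0_mem hg
  refine tri_bad _ hmem hne ?_
  obtain ⟨m, hm, hlink⟩ := F.exists_link hg
  choose π hπ hπe using fun n => F.moves_image hg hm n
  have hπadd : ∀ a b, a < 2048 → b < 2048 → π (a ^^^ b) = π a ^^^ π b := fun a b _ _ => by
    refine F.elt_inj hg (hπ _) (Nat.xor_lt_two_pow (n := 11) (hπ _) (hπ _)) (Subtype.ext ?_)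
    rw [← hπe, F.elt_xor, F.elt_xor, Subgroup.coe_mul, Subgroup.coe_mul, ← hπe, ← hπe]
    group
  have hπinj : ∀ a b, a < 2048 → b < 2048 → π a = π b → a = b := fun a b ha hb e => by
    refine F.elt_inj hg ha hb (Subtype.ext ?_)
    have h := (hπe a).trans ((congrArg (fun k => (F.elt hg k : G)) e).trans (hπe b).symm)
    exact mul_left_cancel (mul_right_cancel h)
  have h128 : π 128 = refIn := F.elt_inj hg (hπ _) (by have := ref_facts.1; omega)
    (Subtype.ext ((hπe 128).symm.trans hlink))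
  have hD : ∀ n, n < 2048 → inD (F.code0 hg) n = inD (F.code0 hg) (π n) := fun n hn =>
    F.class_image hg hn (hπ n) (hπe n)
  symm
  unfold triCount
  refine Finset.card_bij (fun x _ => π x) (fun x hx => ?_) (fun x hx y hy e => ?_) fun y hy => ?_
  · simp only [Finset.mem_filter, Finset.mem_range, Bool.and_eq_true] at hx ⊢
    refine ⟨hπ x, (hD x hx.1).symm.trans hx.2.1, ?_⟩
    rw [← h128, ← hπadd x 128 hx.1 (by norm_num), ← hD _ (Nat.xor_lt_two_pow (n := 11) hx.1 (by norm_num))]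
    exact hx.2.2
  · simp only [Finset.mem_filter, Finset.mem_range] at hx hy
    exact hπinj x y hx.1 hy.1 e
  · simp only [Finset.mem_filter, Finset.mem_range, Bool.and_eq_true] at hy
    obtain ⟨x, hx, rfl⟩ : ∃ x, x < 2048 ∧ π x = y := by
      have hb : Function.Bijective fun n : Fin 2048 => (⟨π n.1, hπ _⟩ : Fin 2048) :=
        Finite.injective_iff_bijective.1 fun a b e => Fin.ext (hπinj _ _ a.2 b.2 (congrArg Fin.val e))
      obtain ⟨x, hx⟩ := hb.2 ⟨y, hy.1⟩
      exact ⟨x.1, x.2, congrArg Fin.val hx⟩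
    refine ⟨x, ?_, rfl⟩
    simp only [Finset.mem_filter, Finset.mem_range, Bool.and_eq_true]
    refine ⟨hx, (hD x hx).trans hy.2.1, ?_⟩
    rw [hD _ (Nat.xor_lt_two_pow (n := 11) hx (by norm_num)), hπadd x 128 hx (by norm_num), h128]
    exact hy.2.2

/-- The classes in coordinates. -/
theorem elt_class {n : ℕ} (hn : n < 2048) (h0 : n ≠ 0) : NConj (F.elt hg n) ↔ inD axGamma n = true := by
  rw [F.nconj_elt hg hn, F.code0_eq hg]
  exact or_iff_right h0

/-- Transitivity on the non-conjugates. -/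
theorem moves_nconj {a b : ℕ} (ha : a < 2048) (hb : b < 2048) (haD : inD axGamma a = true)
    (hbD : inD axGamma b = true) : F.Moves (F.elt hg a) (F.elt hg b) := by
  have hmemD := ref_facts.2 _ (F.code0_mem hg)
  rw [← F.code0_eq hg] at haD hbD
  have key : ∀ n, n < 2048 → inD (F.code0 hg) n = true → F.Moves (F.elt hg 128) (F.elt hg n) := by
    intro n hn hD
    by_cases hu : n / 128 = 0
    · obtain ⟨c, hc, e⟩ := F.in_orbit hg ref_facts.1 (by omega : n < 128) hmemD.1 hD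
      exact F.moves_trans (F.exists_link hg) (F.moves_stab hc e)
    · obtain ⟨c, hc, e⟩ := F.out_orbit hg hn hu hD
      exact F.moves_stab hc e
  exact F.moves_trans (F.moves_symm (key a ha haD)) (key b hb hbD)

end Coord

end CfsgLib.ThreeTrans.LargeFischer
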