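import Cfsg.Agent.Lib.ThreeTrans.LargeFischer.AxisLift

/-!
The conjugates of the central involution in the Thompson subgroup are counted: there are `1771` of them
(owner: helper28).
-/

set_option autoImplicit false
set_option maxHeartbeats 1000000
set_option maxRecDepth 100000

namespace CfsgLib.ThreeTrans.LargeFischer

open Matrix Cfsg
open CfsgLib.Recog.SporBound.Fi22U6 (F4)
open CfsgLib.Sporadic.U43Triple

theorem wOf_inj {a b : Fin 64} (h : wOf a.1 = wOf b.1) : a = b := by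
  have h3 : wOf (a.1 ^^^ b.1) = 0 := by rw [wOf_add, h, v6_add_self]
  exact Fin.ext (xor_eq_zero_iff.1
    (congrArg Fin.val (wOf_eq_zero ⟨_, Nat.xor_lt_two_pow (n := 6) a.2 b.2⟩ h3)))

/-- A bit of the image has a witness with the listed sign. -/
theorem img_exists {u : Fin 16} {w : Fin 64} (h : (imgMask u).testBit w.1 = true) :
    ∃ v : V6, (uaLit u + 1) *ᵥ v = wOf w.1 ∧ quadBit u v = (sgnMask u).testBit w.1 := by
  rw [img_listed, List.any_eq_true] at h
  obtain ⟨e, he, hb⟩ := h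
  obtain ⟨-, -, h1, h2⟩ := of_decide_eq_true (List.all_eq_true.1 (img_witness u) e he)
  rw [Nat.eq_of_beq_eq_true hb] at h1 h2
  exact ⟨_, h1, h2⟩

theorem img_of_eq {u : Fin 16} (hu : u ≠ 0) {w : Fin 64} {v : V6} (h : (uaLit u + 1) *ᵥ v = wOf w.1) :
    (imgMask u).testBit w.1 = true := by
  obtain ⟨w', hw', e⟩ := img_complete hu v
  rwa [wOf_inj (h.symm.trans e)]

theorem rep_not_img : ∀ u : Fin 16, u ≠ 0 →
    (imgMask u).testBit (axRep.getD u.1 0) = false ∧ axRep.getD u.1 0 < 64 := by decide +kernel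

theorem img_zero : ∀ u : Fin 16, u ≠ 0 → (imgMask u).testBit 0 = true ∧ (sgnMask u).testBit 0 = false := by
  decide +kernel

theorem sel_nonzero : ∀ k : Fin 3, ∀ u : Fin 16, u ≠ 0 → selImg k u ≠ 0 := by decide +kernel

theorem one_bit (g : Bool → Prop) [DecidablePred g] (h : (Finset.univ.filter g).card = 1) :
    ∃ b, ∀ c, g c ↔ c = b := by
  obtain ⟨b, hb⟩ := Finset.card_eq_one.1 h
  exact ⟨b, fun c => by rw [← Finset.mem_singleton, ← hb]; simp⟩

namespace Coord

variable {G : Type*} [Group G] {z : G} {Q : Subgroup G} (F : Coord z Q)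

set_option quotPrecheck false in
local notation "CC" => ↥(Subgroup.centralizer ({z} : Set G))

/-- Not being conjugate to the central involution. -/
def NConj (x : CC) : Prop := ¬ IsConj z (x : G)

theorem nconj_conj (c x : CC) : NConj (c * x * c⁻¹) ↔ NConj x := by
  have h : IsConj (x : G) ((c * x * c⁻¹ : CC) : G) := isConj_iff.2 ⟨c, rfl⟩
  exact ⟨fun hn hx => hn (hx.trans h), fun hn hx => hn (hx.trans h.symm)⟩

variable [Finite G] (hg : ∃ g : G, g * z * g⁻¹ ∈ Q ∧ g * z * g⁻¹ ≠ z)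

/-- A lift fixed by the element of order three. -/
noncomputable def e0 (u : Fin 16) : CC := (F.exists_fixed hg u).choose

theorem e0_mem (u : Fin 16) : F.e0 hg u ∈ F.bigA := (F.exists_fixed hg u).choose_spec.1

theorem e0_acts (u : Fin 16) : F.ActsAs (F.e0 hg u) u := (F.exists_fixed hg u).choose_spec.2.1

theorem e0_comm (u : Fin 16) : F.jC * F.e0 hg u = F.e0 hg u * F.jC := (F.exists_fixed hg u).choose_spec.2.2

/-- The element with given coordinates. -/
noncomputable def pt0 (u : Fin 16) (w : ℕ) (b : Bool) : CC := F.zb b * F.sW w * F.e0 hg u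

/-- The number of the lifts which are not conjugate to the central involution. -/
noncomputable def cnt (u : Fin 16) (w : ℕ) : ℕ := by
  classical exact (Finset.univ.filter fun b : Bool => NConj (F.pt0 hg u w b)).card

include hg

theorem cnt_le (u : Fin 16) (w : ℕ) : F.cnt hg u w ≤ 2 := by
  classical
  exact (Finset.card_le_univ _).trans_eq Fintype.card_bool

theorem cnt_congr {u u' : Fin 16} {w w' : ℕ} (c : CC) (d : Bool)
    (h : ∀ b, c * F.pt0 hg u w b * c⁻¹ = F.pt0 hg u' w' (xor b d)) : F.cnt hg u w = F.cnt hg u' w' := by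
  classical
  have hiff : ∀ b, NConj (F.pt0 hg u w b) ↔ NConj (F.pt0 hg u' w' (xor b d)) := fun b => by
    rw [← h, nconj_conj]
  unfold cnt
  exact Finset.card_equiv (Equiv.mk (fun b => xor b d) (fun b => xor b d) (fun b => by simp) (fun b => by simp))
    (fun b => by simp only [Finset.mem_filter, Finset.mem_univ, true_and]; exact hiff b)

/-- Conjugation of a point by an element which normalises the parts. -/
theorem conj_pt0 {u u' : Fin 16} {w w' : ℕ} {c : CC} {d₁ d₂ : Bool} {x : CC}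
    (h1 : c * F.sW w * c⁻¹ = F.zb d₁ * F.sW w') (h2 : c * F.e0 hg u * c⁻¹ = F.zb d₂ * x) (b : Bool)
    (hx : x = F.e0 hg u') : c * F.pt0 hg u w b * c⁻¹ = F.pt0 hg u' w' (xor b (xor d₁ d₂)) := by
  subst hx
  rw [pt0, pt0, show c * (F.zb b * F.sW w * F.e0 hg u) * c⁻¹ =
    c * F.zb b * c⁻¹ * (c * F.sW w * c⁻¹) * (c * F.e0 hg u * c⁻¹) by group, h1, h2, ← F.zb_comm,
    mul_inv_cancel_right, F.zb_xor, F.zb_xor]
  simp only [mul_assoc]
  rw [← mul_assoc (F.sW w'), ← F.zb_comm d₂ (F.sW w'), mul_assoc]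

theorem cnt_shift {u : Fin 16} {i : Fin 64} (hi : (imgMask u).testBit i.1 = true) (w : Fin 64) :
    F.cnt hg u w.1 = F.cnt hg u (w.1 ^^^ i.1) := by
  obtain ⟨v, hv, -⟩ := img_exists hi
  obtain ⟨q, rfl⟩ := F.surj v
  obtain ⟨s, hs, hψ⟩ := F.sW_spec w.1
  have hps := F.conj_in_Q q s
  rw [hs, hψ] at hps
  have he := F.conj_fixed (F.e0_mem hg u) (F.e0_acts hg u) (F.e0_comm hg u) q hv
  refine F.cnt_congr hg (F.inQ q) (xor (trBit (hf (F.ψ q) (wOf w.1))) (quadBit u (F.ψ q))) fun b => ?_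
  rw [pt0, pt0, show F.inQ q * (F.zb b * F.sW w.1 * F.e0 hg u) * (F.inQ q)⁻¹ =
    F.inQ q * F.zb b * (F.inQ q)⁻¹ * (F.inQ q * F.sW w.1 * (F.inQ q)⁻¹) *
      (F.inQ q * F.e0 hg u * (F.inQ q)⁻¹) by group, hps, he, ← F.zb_comm, mul_inv_cancel_right, F.zb_xor, F.zb_xor,
    F.sW_add]
  simp only [mul_assoc]
  rw [← mul_assoc (F.sW w.1) (F.zb _), ← F.zb_comm, mul_assoc]

theorem cnt_rot (u : Fin 16) (w : Fin 64) : F.cnt hg u w.1 = F.cnt hg u (rotW w.1) := by
  refine F.cnt_congr hg F.jC (xor false false) fun b => F.conj_pt0 hg ?_ ?_ b rfl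
  · rw [F.sW_rot, zb, if_neg (by simp), one_mul]
  · rw [F.e0_comm, mul_inv_cancel_right, zb, if_neg (by simp), one_mul]

theorem cnt_eq {u : Fin 16} (hu : u ≠ 0) (w : Fin 64) :
    F.cnt hg u w.1 = if (imgMask u).testBit w.1 then F.cnt hg u 0 else F.cnt hg u (axRep.getD u.1 0) := by
  obtain ⟨k, hk⟩ := cls_exists u hu w
  have h1 : F.cnt hg u w.1 = F.cnt hg u (clsRep u k) := by
    rw [F.cnt_shift hg (i := ⟨_, Nat.xor_lt_two_pow (n := 6) w.2 (clsRep_lt u k)⟩) hk w]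
    simp [← Nat.xor_assoc]
  rw [h1]
  have hR := rep_not_img u hu
  have hr := F.cnt_rot hg u ⟨axRep.getD u.1 0, hR.2⟩
  have hr2 := F.cnt_rot hg u ⟨rotW (axRep.getD u.1 0), (wOf_rot ⟨axRep.getD u.1 0, hR.2⟩).2⟩
  split
  next hw =>
    obtain rfl : k = 0 := cls_unique u hu w k 0 hk (by simpa [clsRep] using hw)
    rfl
  next hw =>
    fin_cases k
    · exact absurd (by simpa [clsRep] using hk) hw
    · rfl
    · exact hr.symm
    · exact (hr.trans hr2).symm

theorem cnt_sel {u : Fin 16} (hu : u ≠ 0) (k : Fin 3) :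
    F.cnt hg (selImg k u) 0 = F.cnt hg u 0 ∧
      F.cnt hg (selImg k u) (axRep.getD (selImg k u).1 0) = F.cnt hg u (axRep.getD u.1 0) := by
  set u' := selImg k u with hu'
  obtain ⟨c, hcS, hcv, hcj⟩ := F.exists_lift_comm (selElt_mem k)
  have hconj : selLit k * (uaLit u + 1) = (uaLit u' + 1) * selLit k := by
    rw [mul_add, add_mul, conj_plane, mul_one, one_mul]; rfl
  obtain ⟨d₂, he⟩ : ∃ d, c * F.e0 hg u * c⁻¹ = F.zb d * F.e0 hg u' :=
    F.fixed_unique (F.e0_mem hg u') (F.conj_bigA hcS (F.e0_mem hg u)) (F.e0_acts hg u') (fun v => by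
      obtain ⟨y, rfl⟩ : ∃ y, F.act c y = v := (F.act c).surjective v
      rw [← Equiv.Perm.mul_apply, ← _root_.map_mul, inv_mul_cancel_right, _root_.map_mul, Equiv.Perm.mul_apply,
        F.e0_acts hg u, hcv, hcv, Matrix.mulVec_mulVec, Matrix.mulVec_mulVec, ← mat_mul, ← mat_mul, selElt_conj]
      rfl) (F.e0_comm hg u')
      ((Commute.mul_right (Commute.mul_right hcj (F.e0_comm hg u)) (Commute.inv_right hcj)).eq)
  have hsw : ∀ w : Fin 64, ∃ (d₁ : Bool) (w' : Fin 64), c * F.sW w.1 * c⁻¹ = F.zb d₁ * F.sW w'.1 ∧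
      wOf w'.1 = selLit k *ᵥ wOf w.1 := by
    intro w
    obtain ⟨s, hs, hψ⟩ := F.sW_spec w.1
    obtain ⟨r, hr, hψ'⟩ := F.conj_inQ c s
    rw [hcv, mat_selElt, hψ] at hψ'
    have hW : InW (F.ψ r) := by
      rw [hψ', ← mat_selElt]
      exact ((selElt_mem k).2 _).2 (wOf_mem _)
    obtain ⟨w', hw'⟩ := exists_wOf hW
    obtain ⟨s', hs', hψs⟩ := F.sW_spec w'.1
    obtain ⟨d, hd⟩ := F.eq_zb_mul (a := s') (b := r) (hψs.trans hw')
    exact ⟨d, w', by rw [← hs, ← hr, hd, hs'], hw'.trans hψ'⟩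
  have htr : ∀ w : Fin 64, ∃ w' : Fin 64, wOf w'.1 = selLit k *ᵥ wOf w.1 ∧
      F.cnt hg u w.1 = F.cnt hg u' w'.1 := by
    intro w
    obtain ⟨d₁, w', h1, h2⟩ := hsw w
    exact ⟨w', h2, F.cnt_congr hg c (xor d₁ d₂) fun b => F.conj_pt0 hg h1 he b rfl⟩
  have hu0 : u' ≠ 0 := sel_nonzero k u hu
  constructor
  · obtain ⟨w', h2, h3⟩ := htr 0
    obtain rfl : w' = 0 := wOf_inj (h2.trans (by
      show selLit k *ᵥ wOf 0 = wOf 0
      rw [wOf_zero, Matrix.mulVec_zero]))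
    exact h3.symm
  · have hR := rep_not_img u hu
    obtain ⟨w', h2, h3⟩ := htr ⟨_, hR.2⟩
    rw [F.cnt_eq hg hu0 w', if_neg] at h3
    · exact h3.symm
    intro hin
    obtain ⟨v', hv', -⟩ := img_exists hin
    obtain ⟨v, rfl⟩ : ∃ v, selLit k *ᵥ v = v' := by
      refine ⟨mat (selElt k)⁻¹ *ᵥ v', ?_⟩
      rw [← mat_selElt, Matrix.mulVec_mulVec, ← mat_mul, mul_inv_cancel, mat_one, Matrix.one_mulVec]
    rw [h2, Matrix.mulVec_mulVec, ← hconj, ← Matrix.mulVec_mulVec, ← mat_selElt] at hv'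
    have h5 := img_of_eq hu (w := ⟨_, hR.2⟩) (mul_mat_injective (star_mul_self (selElt k)) hv')
    rw [hR.1] at h5
    exact Bool.false_ne_true h5

theorem cnt_const {u : Fin 16} (hu : u ≠ 0) :
    F.cnt hg u 0 = F.cnt hg 1 0 ∧ F.cnt hg u (axRep.getD u.1 0) = F.cnt hg 1 (axRep.getD 1 0) := by
  have h := ua_induction (p := fun u => u ≠ 0 ∧ (F.cnt hg u 0 = F.cnt hg 1 0 ∧
      F.cnt hg u (axRep.getD u.1 0) = F.cnt hg 1 (axRep.getD 1 0))) ⟨by decide, rfl, rfl⟩
    (fun k n hn => ⟨sel_nonzero k n hn.1, (F.cnt_sel hg hn.1 k).1.trans hn.2.1,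
      (F.cnt_sel hg hn.1 k).2.trans hn.2.2⟩) hu
  exact h.2

/-- The class of an element of the preimage of the plane. -/
theorem nconj_plane (b : Bool) (w : Fin 64) : NConj (F.zb b * F.sW w.1) ↔
    (w = 0 ∧ b = false) ∨ axPtMask.testBit w.1 = true := by
  rw [pts_mask]
  by_cases hw : w = 0
  · subst hw
    rw [show F.sW (0 : Fin 64).1 = 1 from F.sW_zero, mul_one]
    cases b
    · refine ⟨fun _ => Or.inl ⟨rfl, rfl⟩, fun _ h => ?_⟩
      exact F.large.z_ne_one (isConj_one_left.1 h)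
    · refine ⟨fun h => absurd (IsConj.refl z) h, ?_⟩
      rintro (⟨-, h⟩ | ⟨h, -⟩)
      · exact absurd h (by decide)
      · exact absurd rfl h
  · obtain ⟨s, hs, hψ⟩ := F.sW_spec w.1
    obtain ⟨q, hq⟩ : ∃ q : ↥Q, F.inQ q = F.zb b * F.inQ s := by
      obtain ⟨h, -⟩ := mul_mem (F.zb_planeSub b) (F.inQ_planeSub.2 (hψ ▸ wOf_mem w.1))
      exact ⟨⟨_, h⟩, rfl⟩
    have hqψ : F.ψ q = wOf w.1 := by
      rw [← hψ]
      cases b
      · rw [show q = s from Subtype.ext (congrArg (fun y : CC => (y : G)) (hq.trans (one_mul _)) :)]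
      · rw [show q = ⟨z, F.large.z_mem⟩ * s from Subtype.ext (congrArg (fun y : CC => (y : G)) hq :), F.map_mul,
          (F.eq_zero _).2 (Subgroup.mem_zpowers z), zero_add]
    have hne : wOf w.1 ≠ 0 := fun h => hw (wOf_eq_zero w h)
    have hiso : IsoV (F.ψ q) := by
      rw [hqψ]; exact (iso_iff _).2 ⟨hne, hf_inW (wOf_mem _) (wOf_mem _)⟩
    rw [← hs, ← hq, iff_comm]
    refine ⟨?_, fun hn => Or.inr ⟨hw, ?_⟩⟩
    · rintro (⟨h, -⟩ | ⟨-, hO⟩) hconj
      · exact hw h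
      obtain ⟨g', hg'⟩ := isConj_iff.1 hconj
      change g' * z * g'⁻¹ = (q : G) at hg'
      have hmem : g' * z * g'⁻¹ ∈ Q := hg' ▸ q.2
      have hnz : g' * z * g'⁻¹ ≠ z := hg' ▸ (F.invol_of_isoV hiso).2
      have h := F.not_om hmem hnz
      rw [show (⟨g' * z * g'⁻¹, hmem⟩ : ↥Q) = q from Subtype.ext hg', hqψ] at h
      exact h hO
    · by_contra hO
      obtain ⟨g', hmem, hnz⟩ := hg
      have h2 : orderOf (g' * z * g'⁻¹) = 2 :=
        (orderOf_injective (MulAut.conj g').toMonoidHom (MulAut.conj g').injective z).trans F.large.hz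
      obtain ⟨d, hd⟩ := F.conj_of_om (F.isoV_of_invol (x := ⟨_, hmem⟩) h2 hnz) hiso
        (iff_of_false (F.not_om hmem hnz) (hqψ.symm ▸ hO))
      exact hn (isConj_iff.2 ⟨(d : G) * g', by
        show (d : G) * g' * z * ((d : G) * g')⁻¹ = (q : G)
        rw [← hd]; group⟩)

theorem e0_zero : ∃ b, F.e0 hg 0 = F.zb b :=
  F.jC_fix_planeSub (F.bigA_inf' (F.e0_mem hg 0) ((F.act_eq_one _).2 (F.actsAs_zero.1 (F.e0_acts hg 0))))
    (F.e0_comm hg 0)

theorem cnt_plane : ∑ w : Fin 64, F.cnt hg 0 w.1 = 37 := by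
  classical
  obtain ⟨c, hc⟩ := F.e0_zero hg
  have h : ∀ w : Fin 64, F.cnt hg 0 w.1 = if w = 0 then 1 else if axPtMask.testBit w.1 then 2 else 0 := by
    intro w
    have hiff : ∀ b, NConj (F.pt0 hg 0 w.1 b) ↔ (w = 0 ∧ b = c) ∨ axPtMask.testBit w.1 = true := fun b => by
      rw [pt0, hc, mul_assoc, ← F.zb_comm, ← mul_assoc, ← F.zb_xor, F.nconj_plane hg]
      cases b <;> cases c <;> simp
    have h0 : axPtMask.testBit 0 = false := by decide +kernel
    unfold cnt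
    simp only [hiff]
    by_cases hw : w = 0
    · subst hw
      simp [h0, Finset.filter_eq']
    · rw [if_neg hw]
      by_cases hm : axPtMask.testBit w.1 = true
      · simp [hw, hm]
      · simp [hw, hm]
  rw [Finset.sum_congr rfl fun w _ => h w]
  decide +kernel

theorem cnt_total {u : Fin 16} (hu : u ≠ 0) :
    ∑ w : Fin 64, F.cnt hg u w.1 = 16 * F.cnt hg 1 0 + 48 * F.cnt hg 1 (axRep.getD 1 0) := by
  rw [Finset.sum_congr rfl fun w _ => F.cnt_eq hg hu w, Finset.sum_ite, Finset.sum_const, Finset.sum_const,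
    (F.cnt_const hg hu).1, (F.cnt_const hg hu).2]
  have h1 := img_count u hu
  have h2 := Finset.card_filter_add_card_filter_not (s := (Finset.univ : Finset (Fin 64)))
    (fun w : Fin 64 => (imgMask u).testBit w.1 = true)
  rw [Finset.card_univ, Fintype.card_fin, h1] at h2
  rw [h1, show (Finset.univ.filter fun w : Fin 64 => ¬(imgMask u).testBit w.1 = true).card = 48 by omega]
  simp

theorem pt0_bijective :
    Set.BijOn (fun t : Fin 16 × Fin 64 × Bool => F.pt0 hg t.1 t.2.1.1 t.2.2) Set.univ F.bigA := by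
  classical
  have hmem : ∀ t : Fin 16 × Fin 64 × Bool, F.pt0 hg t.1 t.2.1.1 t.2.2 ∈ F.bigA := fun t =>
    mul_mem (F.planeSub_le_bigA (mul_mem (F.zb_planeSub _) (F.sW_planeSub _))) (F.e0_mem hg _)
  have hinj : Function.Injective fun t : Fin 16 × Fin 64 × Bool => F.pt0 hg t.1 t.2.1.1 t.2.2 := by
    rintro ⟨u, w, b⟩ ⟨u', w', b'⟩ e
    have hact : ∀ (u : Fin 16) (w : ℕ) (b : Bool), F.ActsAs (F.pt0 hg u w b) u := fun u w b => by
      have h1 : F.ActsAs (F.zb b * F.sW w) 0 :=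
        F.actsAs_zero.2 (mul_mem (F.zb_planeSub b) (F.sW_planeSub w)).1
      have := F.actsAs_mul h1 (F.e0_acts hg u)
      rwa [uAdd_facts.2.1] at this
    have e' : F.pt0 hg u w.1 b = F.pt0 hg u' w'.1 b' := e
    obtain rfl : u = u' := F.actsAs_unique (hact u w.1 b) (e' ▸ hact u' w'.1 b')
    obtain ⟨rfl, rfl⟩ := F.planeSub_coord (mul_right_cancel e')
    rfl
  refine ⟨fun t _ => hmem t, hinj.injOn, fun x hx => ?_⟩
  have hb : Function.Bijective fun t : Fin 16 × Fin 64 × Bool => (⟨_, hmem t⟩ : ↥F.bigA) :=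
    (Nat.bijective_iff_injective_and_card _).2 ⟨fun s t e => hinj (congrArg Subtype.val e), by
      rw [(F.bigA_counts hg).1, Nat.card_prod, Nat.card_prod, Nat.card_fin, Nat.card_fin,
        Nat.card_eq_fintype_card, Fintype.card_bool]; norm_num⟩
  obtain ⟨t, ht⟩ := hb.2 ⟨x, hx⟩
  exact ⟨t, trivial, congrArg Subtype.val ht⟩

/-- The two counts. -/
theorem cnt_values : F.cnt hg 1 0 = 1 ∧ F.cnt hg 1 (axRep.getD 1 0) = 0 := by
  classical
  set n0 := F.cnt hg 1 0 with hn0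
  set n1 := F.cnt hg 1 (axRep.getD 1 0) with hn1
  have hb := F.pt0_bijective hg
  -- the number of conjugates
  have hN : Nat.card {a : G // a ∈ F.bigG ∧ IsConj z a} + (37 + 15 * (16 * n0 + 48 * n1)) = 2048 := by
    let f : {t : Fin 16 × Fin 64 × Bool // ¬ NConj (F.pt0 hg t.1 t.2.1.1 t.2.2)} →
        {a : G // a ∈ F.bigG ∧ IsConj z a} := fun t =>
      ⟨(F.pt0 hg t.1.1 t.1.2.1.1 t.1.2.2 : CC), ⟨_, hb.mapsTo (Set.mem_univ _), rfl⟩, not_not.1 t.2⟩
    have hf : Function.Bijective f := by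
      constructor
      · intro s t e
        exact Subtype.ext (hb.injOn (Set.mem_univ _) (Set.mem_univ _)
          (Subtype.ext (congrArg (fun a : {a : G // a ∈ F.bigG ∧ IsConj z a} => a.1) e)))
      · rintro ⟨a, ⟨x, hx, rfl⟩, hc⟩
        obtain ⟨t, -, ht⟩ := hb.surjOn hx
        exact ⟨⟨t, fun hn => hn (by rw [show F.pt0 hg t.1 t.2.1.1 t.2.2 = x from ht]; exact hc)⟩,
          Subtype.ext (congrArg (fun y : CC => (y : G)) ht)⟩
    have hsum : (Finset.univ.filter fun t : Fin 16 × Fin 64 × Bool => NConj (F.pt0 hg t.1 t.2.1.1 t.2.2)).card =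
        37 + 15 * (16 * n0 + 48 * n1) := by
      rw [Finset.card_filter, Fintype.sum_prod_type, ← Finset.add_sum_erase _ _ (Finset.mem_univ (0 : Fin 16))]
      have hu : ∀ u : Fin 16, (∑ p : Fin 64 × Bool, if NConj (F.pt0 hg u p.1.1 p.2) then 1 else 0) =
          ∑ w : Fin 64, F.cnt hg u w.1 := fun u => by
        rw [Fintype.sum_prod_type]
        exact Finset.sum_congr rfl fun w _ => (Finset.card_filter _ _).symm
      simp only [hu, F.cnt_plane hg]
      rw [Finset.sum_congr rfl fun u hu => F.cnt_total hg (Finset.ne_of_mem_erase hu), Finset.sum_const,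
        Finset.card_erase_of_mem (Finset.mem_univ _), Finset.card_univ, Fintype.card_fin, smul_eq_mul]
    rw [← Nat.card_congr (Equiv.ofBijective f hf), Nat.card_eq_fintype_card, Fintype.card_subtype, ← hsum,
      add_comm, Finset.card_filter_add_card_filter_not, Finset.card_univ, Fintype.card_prod, Fintype.card_prod,
      Fintype.card_fin, Fintype.card_fin, Fintype.card_bool]
  set N := Nat.card {a : G // a ∈ F.bigG ∧ IsConj z a}
  have hbad : ∀ p ∈ [2011, 1291, 571, 1051, 331, 1531, 811, 13], ¬ p ∣ N := by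
    intro p hp hdvd
    have key : ∀ p ∈ [2011, 1291, 571, 1051, 331, 1531, 811, 13],
        p.Prime ∧ p ≠ 2 ∧ ∀ i : Fin 11, ¬ p ∣ 2 ^ (i.1 + 1) - 1 := by decide +kernel
    obtain ⟨h1, h2, h3⟩ := key p hp
    obtain ⟨i, hi⟩ := F.prime_bigN hg h1 h2 ((F.card_bigN hg).symm ▸ dvd_mul_of_dvd_left hdvd _)
    exact h3 i hi
  have h0 := F.cnt_le hg 1 0
  have h1 := F.cnt_le hg 1 (axRep.getD 1 0)
  rw [← hn0] at h0
  rw [← hn1] at h1
  have b1 := hbad 2011 (by simp)
  have b2 := hbad 1291 (by simp)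
  have b3 := hbad 571 (by simp)
  have b4 := hbad 1051 (by simp)
  have b5 := hbad 331 (by simp)
  have b6 := hbad 1531 (by simp)
  have b7 := hbad 811 (by simp)
  have b8 := hbad 13 (by simp)
  have hNeq : N = 2011 - 240 * n0 - 720 * n1 := by omega
  rw [hNeq] at b1 b2 b3 b4 b5 b6 b7 b8
  interval_cases n0 <;> interval_cases n1 <;> omega

end Coord

end CfsgLib.ThreeTrans.LargeFischer
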