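import Cfsg.Agent.Lib.ThreeTrans.LargeFischer.Plane
import Cfsg.Agent.Lib.ThreeTrans.LargeFischer.AxisData

/-!
The model of the Thompson subgroup: binary coordinates and the candidates for the class of non-conjugates of the
central involution (owner: helper28).
-/

set_option autoImplicit false
set_option maxRecDepth 100000
set_option maxHeartbeats 1000000
set_option Elab.async false

namespace CfsgLib.ThreeTrans.LargeFischer

open Matrix Cfsg
open CfsgLib.Recog.SporBound.Fi22U6 (F4)
open CfsgLib.Sporadic.U43Triple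

/-- The vector of the plane with a given index. -/
def wOf (w : ℕ) : V6 := wVec (F4.ofNat4 (w % 4)) (F4.ofNat4 (w / 4 % 4)) (F4.ofNat4 (w / 16 % 4))

/-- Multiplication of a digit by the primitive element. -/
def rotD (d : ℕ) : ℕ := (F4.om * F4.ofNat4 d).num

/-- Multiplication of an index by the primitive element. -/
def rotW (w : ℕ) : ℕ := rotD (w % 4) + 4 * rotD (w / 4 % 4) + 16 * rotD (w / 16 % 4)

theorem wOf_add : ∀ a b : Fin 64, wOf (a.1 ^^^ b.1) = wOf a.1 + wOf b.1 := by decide +kernel

theorem wOf_eq_zero : ∀ a : Fin 64, wOf a.1 = 0 → a = 0 := by decide +kernel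

theorem wOf_zero : wOf 0 = 0 := by decide +kernel

theorem wOf_surj : ∀ a b c : F4, ∃ w : Fin 64, wOf w.1 = wVec a b c := by decide +kernel

theorem wOf_rot : ∀ w : Fin 64, wOf (rotW w.1) = F4.om • wOf w.1 ∧ rotW w.1 < 64 := by decide +kernel

theorem wOf_mem (w : ℕ) : InW (wOf w) := inW_wVec _ _ _

theorem exists_wOf {v : V6} (h : InW v) : ∃ w : Fin 64, wOf w.1 = v :=
  inW_cases (p := fun v => ∃ w : Fin 64, wOf w.1 = v) wOf_surj h

/-- Whether a field element is not fixed by the conjugation. -/
def trBit (a : F4) : Bool := decide (cj a ≠ a)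

/-- The Hermitian product written out. -/
def sesq (u v : V6) : F4 := ∑ i, u i * cj (v i)

/-- The quadratic function of one of the sixteen. -/
def quadBit (u : Fin 16) (v : V6) : Bool := decide (sesq v ((uaLit u + 1) *ᵥ v) = 1)

/-- The mask of the image. -/
def imgMask (u : Fin 16) : ℕ := axImgMask.getD u.1 0

/-- The mask of the signs. -/
def sgnMask (u : Fin 16) : ℕ := axSgnMask.getD u.1 0

theorem img_witness : ∀ u : Fin 16, (axImages.getD u.1 []).all (fun e => decide (e.1 < 64 ∧ e.2.2 < 4096 ∧
    (uaLit u + 1) *ᵥ vec6 e.2.2 = wOf e.1 ∧ quadBit u (vec6 e.2.2) = (sgnMask u).testBit e.1)) = true := by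
  decide +kernel

theorem img_listed : ∀ u : Fin 16, ∀ w : Fin 64,
    (imgMask u).testBit w.1 = (axImages.getD u.1 []).any (fun e => Nat.beq e.1 w.1) := by decide +kernel

theorem img_count : ∀ u : Fin 16, u ≠ 0 → (Finset.univ.filter fun w : Fin 64 => (imgMask u).testBit w.1).card = 16 := by
  decide +kernel

theorem img_closed : ∀ u : Fin 16, ∀ a b : Fin 64, (imgMask u).testBit a.1 = true → (imgMask u).testBit b.1 = true →
    (imgMask u).testBit (a.1 ^^^ b.1) = true := by decide +kernel

theorem img_gens : ∀ u : Fin 16, u ≠ 0 → ∀ i : Fin 6, ∀ a : F4, ∃ w : Fin 64, (imgMask u).testBit w.1 = true ∧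
    (uaLit u + 1) *ᵥ Pi.single i a = wOf w.1 := by decide +kernel

theorem img_zero_mem : ∀ u : Fin 16, u ≠ 0 → (imgMask u).testBit 0 = true := by decide +kernel

theorem img_complete {u : Fin 16} (hu : u ≠ 0) (v : V6) :
    ∃ w : Fin 64, (imgMask u).testBit w.1 = true ∧ (uaLit u + 1) *ᵥ v = wOf w.1 := by
  have key : ∀ s : Finset (Fin 6), ∃ w : Fin 64, (imgMask u).testBit w.1 = true ∧
      (uaLit u + 1) *ᵥ (∑ i ∈ s, Pi.single i (v i)) = wOf w.1 := by
    intro s
    induction s using Finset.induction_on with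
    | empty => exact ⟨0, img_zero_mem u hu, by rw [Finset.sum_empty, Matrix.mulVec_zero]; exact wOf_zero.symm⟩
    | insert i s hi ih =>
      obtain ⟨a, ha, ea⟩ := img_gens u hu i (v i)
      obtain ⟨b, hb, eb⟩ := ih
      exact ⟨⟨a.1 ^^^ b.1, Nat.xor_lt_two_pow (n := 6) a.2 b.2⟩, img_closed u a b ha hb,
        by rw [Finset.sum_insert hi, Matrix.mulVec_add, ea, eb]; exact (wOf_add a b).symm⟩
  have h := key Finset.univ
  rwa [Finset.univ_sum_single] at h

/-- Representatives of the four cosets of the image. -/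
def clsRep (u : Fin 16) (k : Fin 4) : ℕ :=
  if k = 0 then 0 else if k = 1 then axRep.getD u.1 0 else if k = 2 then rotW (axRep.getD u.1 0)
    else rotW (rotW (axRep.getD u.1 0))

theorem clsRep_lt : ∀ u k, clsRep u k < 64 := by decide +kernel

theorem cls_exists : ∀ u : Fin 16, u ≠ 0 → ∀ w : Fin 64, ∃ k, (imgMask u).testBit (w.1 ^^^ clsRep u k) = true := by
  decide +kernel

theorem cls_unique : ∀ u : Fin 16, u ≠ 0 → ∀ w : Fin 64, ∀ k l : Fin 4,
    (imgMask u).testBit (w.1 ^^^ clsRep u k) = true → (imgMask u).testBit (w.1 ^^^ clsRep u l) = true → k = l := by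
  decide +kernel

theorem pts_mask : ∀ w : Fin 64, axPtMask.testBit w.1 = true ↔ w ≠ 0 ∧ Om 1 (wOf w.1) := by decide +kernel

theorem pts_count : (Finset.univ.filter fun w : Fin 64 => axPtMask.testBit w.1).card = 18 := by decide +kernel

/-- The image of a label under a generator of the stabiliser. -/
def selImg (k : Fin 3) (u : Fin 16) : Fin 16 := idx16 (planeConj.getD k.1 []) u

end CfsgLib.ThreeTrans.LargeFischer
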