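import Cfsg.Agent.Lib.ThreeTrans.LargeFischer.PlaneLocal
import Cfsg.Agent.Lib.ThreeTrans.LargeFischer.AxisModel

/-!
Lifting the binary coordinates: an element of order three acting as a scalar, the sections it determines and the
action of `Q` on the Thompson subgroup (owner: helper28).
-/

set_option autoImplicit false
set_option maxHeartbeats 1000000
set_option maxRecDepth 100000

namespace CfsgLib.ThreeTrans.LargeFischer

open Matrix Cfsg
open CfsgLib.Recog.SporBound.Fi22U6 (F4)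
open CfsgLib.Sporadic.U43Triple

/-! ### The quadratic functions -/

theorem om_facts : F4.om * F4.om + F4.om = 1 ∧ F4.om * cj F4.om = 1 ∧ F4.om + 1 ≠ 0 ∧ F4.om ≠ 0 := by
  decide +kernel

theorem cj_tr : ∀ x : F4, cj (x + cj x) = x + cj x ∧ decide (x + cj x = 1) = trBit x := by decide +kernel

theorem dec_xor : ∀ a b : F4, cj a = a → cj b = b → decide (a + b = 1) = xor (decide (a = 1)) (decide (b = 1)) := by
  decide +kernel

theorem uAdd_facts : (∀ u, uAdd u u = 0) ∧ (∀ u, uAdd 0 u = u) ∧ ∀ a b : Fin 16, (uAdd a b).1 = a.1 ^^^ b.1 := by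
  refine ⟨?_, ?_, ?_⟩ <;> decide +kernel

theorem hf_add_right (u v w : V6) : hf u (v + w) = hf u v + hf u w := by
  simp only [hf_eq, Pi.add_apply, cj_add, mul_add, Finset.sum_add_distrib]

theorem hf_add_left (u v w : V6) : hf (u + v) w = hf u w + hf v w := by
  simp only [hf_eq, Pi.add_apply, add_mul, Finset.sum_add_distrib]

theorem hf_symm' (u v : V6) : hf v u = cj (hf u v) := by
  have h : ∀ f : Fin 6 → F4, cj (∑ i, f i) = ∑ i, cj (f i) := fun f =>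
    map_sum (AddMonoidHom.mk' cj cj_add) f _
  rw [hf_eq, hf_eq, h]
  exact Finset.sum_congr rfl fun i _ => by rw [cj_mul, cj_cj, mul_comm]

theorem hf_smul_om (u v : V6) : hf (F4.om • u) (F4.om • v) = hf u v := by
  simp only [hf_eq, Pi.smul_apply, smul_eq_mul, cj_mul]
  refine Finset.sum_congr rfl fun i _ => ?_
  rw [mul_mul_mul_comm, om_facts.2.1, one_mul]

theorem ua_swap (n : Fin 16) (u v : V6) : hf u (uaLit n *ᵥ v) = hf (uaLit n *ᵥ u) v := by
  have h := hf_mulVec (star_mul_self (uaElt n)) u (uaLit n *ᵥ v)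
  rw [mat_uaElt, Matrix.mulVec_mulVec, uaLit_mul, uAdd_facts.1, uaLit_zero, Matrix.one_mulVec] at h
  exact h.symm

theorem hf_half (n : Fin 16) (u v : V6) :
    hf v ((uaLit n + 1) *ᵥ u) = cj (hf u ((uaLit n + 1) *ᵥ v)) := by
  rw [← hf_symm', Matrix.add_mulVec, Matrix.one_mulVec, Matrix.add_mulVec, Matrix.one_mulVec, hf_add_right,
    hf_add_left, ua_swap]

theorem sesq_eq (u v : V6) : sesq u v = hf u v := (hf_eq u v).symm

theorem quad_real (n : Fin 16) (v : V6) :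
    cj (hf v ((uaLit n + 1) *ᵥ v)) = hf v ((uaLit n + 1) *ᵥ v) := (hf_half n v v).symm

theorem quad_add (n : Fin 16) (v v' : V6) : quadBit n (v + v') =
    xor (xor (quadBit n v) (quadBit n v')) (trBit (hf v ((uaLit n + 1) *ᵥ v'))) := by
  simp only [quadBit, sesq_eq]
  rw [Matrix.mulVec_add, hf_add_right, hf_add_left, hf_add_left, hf_half n v v']
  set a := hf v ((uaLit n + 1) *ᵥ v) with ha
  set b := hf v' ((uaLit n + 1) *ᵥ v') with hb
  set x := hf v ((uaLit n + 1) *ᵥ v')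
  have ha' : cj a = a := quad_real n v
  have hb' : cj b = b := quad_real n v'
  obtain ⟨hx, hxt⟩ := cj_tr x
  rw [show a + cj x + (x + b) = a + b + (x + cj x) by abel,
    dec_xor _ _ (by rw [cj_add, ha', hb']) hx, dec_xor _ _ ha' hb', hxt]

theorem quad_om (n : Fin 16) (v : V6) : quadBit n (F4.om • v) = quadBit n v := by
  simp only [quadBit, sesq_eq, Matrix.mulVec_smul, hf_smul_om]

theorem om_half (v : V6) : F4.om • (F4.om • v) + F4.om • v = v := by
  rw [smul_smul, ← add_smul, om_facts.1, one_smul]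

/-- An additive invariant function vanishes. -/
theorem invariant_zero {g : V6 → Bool} (hadd : ∀ v v', g (v + v') = xor (g v) (g v'))
    (hom : ∀ v, g (F4.om • v) = g v) (v : V6) : g v = false := by
  have h := hadd (F4.om • (F4.om • v)) (F4.om • v)
  rwa [om_half, hom, hom, Bool.xor_self] at h

namespace Coord

variable {G : Type*} [Group G] {z : G} {Q : Subgroup G} (F : Coord z Q)

set_option quotPrecheck false in
local notation "CC" => ↥(Subgroup.centralizer ({z} : Set G))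

/-- An element of `Q` in the centralizer. -/
def inQ : ↥Q →* CC := Subgroup.inclusion F.large.le_centralizer

theorem coe_inQ (q : ↥Q) : ((F.inQ q : CC) : G) = q := rfl

theorem act_inQ (q : ↥Q) : F.act (F.inQ q) = 1 := (F.act_eq_one _).2 q.2

theorem inQ_planeSub {q : ↥Q} : F.inQ q ∈ F.planeSub ↔ InW (F.ψ q) := ⟨fun ⟨_, h⟩ => h, fun h => ⟨q.2, h⟩⟩

theorem planeSub_comm {a b : CC} (ha : a ∈ F.planeSub) (hb : b ∈ F.planeSub) : a * b = b * a :=
  Subtype.ext (F.mem_bigA.1 (F.planeSub_le_bigA ha) b hb).eq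

/-- The central bit. -/
@[nolint unusedArguments]
def zb (_F : Coord z Q) (b : Bool) : CC := if b then zC else 1

theorem zb_xor : ∀ a b, F.zb (xor a b) = F.zb a * F.zb b := by
  have hzz : (zC : CC) * zC = 1 := Subtype.ext F.large.mul_self_z
  intro a b
  cases a <;> cases b <;> simp [zb, hzz]

theorem zb_comm (b : Bool) (x : CC) : F.zb b * x = x * F.zb b := by
  cases b
  · simp [zb]
  · exact Subtype.ext (mem_C_commute x).eq.symm

theorem zb_planeSub (b : Bool) : F.zb b ∈ F.planeSub := by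
  cases b
  · exact one_mem _
  · exact F.zC_mem

theorem zb_injective : Function.Injective F.zb := by
  intro a b h
  cases a <;> cases b
  · rfl
  · exact absurd (congrArg Subtype.val h).symm F.large.z_ne_one
  · exact absurd (congrArg Subtype.val h) F.large.z_ne_one
  · rfl

theorem eq_zb_mul {a b : ↥Q} (h : F.ψ a = F.ψ b) : ∃ c, F.inQ b = F.zb c * F.inQ a := by
  rcases F.eq_or_of_eq h with e | e
  · exact ⟨false, by simpa [zb] using (Subtype.ext e : F.inQ b = F.inQ a)⟩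
  · exact ⟨true, Subtype.ext e⟩

theorem conj_inQ (c : CC) (q : ↥Q) :
    ∃ r : ↥Q, F.inQ r = c * F.inQ q * c⁻¹ ∧ F.ψ r = F.act c (F.ψ q) :=
  ⟨⟨(c : G) * q * (c : G)⁻¹, F.large.conj_mem (mem_C_commute c) q.2⟩, rfl,
    (F.act_conj c q ⟨_, F.large.conj_mem (mem_C_commute c) q.2⟩ rfl).symm⟩

/-- Conjugation inside `Q`. -/
theorem conj_in_Q (q s : ↥Q) :
    F.inQ q * F.inQ s * (F.inQ q)⁻¹ = F.zb (trBit (hf (F.ψ q) (F.ψ s))) * F.inQ s := by
  have hiff := F.commute_iff q s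
  by_cases h : cj (hf (F.ψ q) (F.ψ s)) = hf (F.ψ q) (F.ψ s)
  · rw [show trBit (hf (F.ψ q) (F.ψ s)) = false from decide_eq_false (not_not.2 h), zb, if_neg (by simp), one_mul]
    exact Subtype.ext (by rw [Subgroup.coe_mul, Subgroup.coe_mul, Subgroup.coe_inv, F.coe_inQ, F.coe_inQ,
      (hiff.2 h).eq, mul_inv_cancel_right])
  · rw [show trBit (hf (F.ψ q) (F.ψ s)) = true from decide_eq_true h]
    obtain ⟨r, hr, hψ⟩ := F.conj_inQ (F.inQ q) s
    rw [F.act_inQ] at hψ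
    obtain ⟨c, hc⟩ := F.eq_zb_mul hψ.symm
    cases c
    · refine absurd (hiff.2 ?_) (fun hh => h (hiff.1 hh))
      have h1 : F.inQ q * F.inQ s * (F.inQ q)⁻¹ = F.inQ s := by rw [← hr, hc, zb, if_neg (by simp), one_mul]
      exact hiff.1 (congrArg Subtype.val (mul_inv_eq_iff_eq_mul.1 h1) :)
    · rw [← hr, hc]

/-! ### The element of order three -/

theorem exists_jC : ∃ j : CC, j ^ 3 = 1 ∧ ∀ v, F.act j v = F4.om • v := by
  obtain ⟨c, -, hc⟩ := F.lift _ (scal_mem F4.om om_facts.2.2.2)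
  simp only [mat_scal] at hc
  have h3 : F.act (c ^ 3) = 1 := Equiv.ext fun v => by
    rw [map_pow, pow_succ, pow_two, Equiv.Perm.mul_apply, Equiv.Perm.mul_apply, hc, hc, hc, smul_smul, smul_smul,
      show F4.om * F4.om * F4.om = 1 by decide +kernel, one_smul]
    rfl
  let q : ↥Q := ⟨_, (F.act_eq_one _).1 h3⟩
  have h4 : ((q : G) * q) * ((q : G) * q) = 1 := by
    have h2 : ((q * q : ↥Q) : G) ∈ Subgroup.zpowers z := (F.eq_zero _).1 (by rw [F.map_mul, v6_add_self])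
    rcases F.large.eq_or h2 with e | e <;> rw [Subgroup.coe_mul] at e <;> rw [e]
    · exact one_mul _
    · exact F.large.mul_self_z
  have h12 : (c ^ 3 * c ^ 3) * (c ^ 3 * c ^ 3) = 1 := Subtype.ext h4
  refine ⟨c ^ 4, ?_, fun v => ?_⟩
  · rw [← h12, ← pow_mul, ← pow_add, ← pow_add]
  · rw [show c ^ 4 = c * c ^ 3 from pow_succ' c 3, _root_.map_mul, h3, mul_one, hc]

/-- An element of order three acting as a primitive scalar. -/
noncomputable def jC : CC := F.exists_jC.choose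

theorem jC_cube : F.jC ^ 3 = 1 := F.exists_jC.choose_spec.1

theorem act_jC (v : V6) : F.act F.jC v = F4.om • v := F.exists_jC.choose_spec.2 v

theorem jC_stabC : F.jC ∈ F.stabC := fun v => by
  rw [act_jC]
  refine ⟨fun h => ?_, inW_smul _⟩
  have := inW_smul F4.om' h
  rwa [smul_smul, show F4.om' * F4.om = 1 by decide +kernel, one_smul] at this

theorem jC_fix_planeSub {x : CC} (hx : x ∈ F.planeSub) (hj : F.jC * x = x * F.jC) : ∃ b, x = F.zb b := by
  obtain ⟨hq, -⟩ := hx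
  obtain ⟨r, hr, hψ⟩ := F.conj_inQ F.jC ⟨x, hq⟩
  have e : r = ⟨x, hq⟩ := by
    have h1 : F.inQ r = x := by rw [hr, show F.inQ ⟨x, hq⟩ = x from rfl, hj, mul_inv_cancel_right]
    exact Subtype.ext (congrArg (fun y : CC => (y : G)) h1 :)
  rw [e, act_jC] at hψ
  have h0 : F.ψ ⟨x, hq⟩ = 0 := funext fun i => by
    have key : ∀ a : F4, a = F4.om * a → a = 0 := by decide +kernel
    exact key _ (congrFun hψ i)
  rcases F.large.eq_or ((F.eq_zero _).1 h0) with h | h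
  · exact ⟨false, Subtype.ext h⟩
  · exact ⟨true, Subtype.ext h⟩

/-! ### The section over the plane -/

/-- The section over the plane. -/
noncomputable def sW (w : ℕ) : CC :=
  F.jC * F.inQ (F.surj (F4.om • wOf w)).choose * F.jC⁻¹ * (F.inQ (F.surj (F4.om • wOf w)).choose)⁻¹

theorem sW_eq {q : ↥Q} {w : ℕ} (h : F.ψ q = F4.om • wOf w) :
    F.sW w = F.jC * F.inQ q * F.jC⁻¹ * (F.inQ q)⁻¹ := by
  obtain ⟨c, hc⟩ := F.eq_zb_mul (h.trans (F.surj (F4.om • wOf w)).choose_spec.symm)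
  rw [sW, hc, F.zb_comm c]
  calc F.jC * (F.inQ q * F.zb c) * F.jC⁻¹ * (F.inQ q * F.zb c)⁻¹
      = F.jC * F.inQ q * (F.zb c * F.jC⁻¹ * (F.zb c)⁻¹) * (F.inQ q)⁻¹ := by group
    _ = _ := by rw [F.zb_comm, mul_inv_cancel_right]

theorem sW_spec (w : ℕ) : ∃ s : ↥Q, F.inQ s = F.sW w ∧ F.ψ s = wOf w := by
  obtain ⟨q, hq⟩ := F.surj (F4.om • wOf w)
  obtain ⟨r, hr, hψ⟩ := F.conj_inQ F.jC q
  refine ⟨r * q⁻¹, by rw [_root_.map_mul, map_inv, hr, F.sW_eq hq], ?_⟩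
  rw [F.map_mul, F.map_inv', hψ, act_jC, hq, om_half]

theorem sW_planeSub (w : ℕ) : F.sW w ∈ F.planeSub := by
  obtain ⟨s, hs, hψ⟩ := F.sW_spec w
  exact hs ▸ F.inQ_planeSub.2 (hψ ▸ wOf_mem w)

theorem sW_zero : F.sW 0 = 1 := by
  rw [F.sW_eq (q := 1) (by rw [F.map_one, wOf_zero, smul_zero])]
  simp

theorem sW_add (a b : Fin 64) : F.sW (a.1 ^^^ b.1) = F.sW a.1 * F.sW b.1 := by
  obtain ⟨p, hp⟩ := F.surj (F4.om • wOf a.1)
  obtain ⟨q, hq⟩ := F.surj (F4.om • wOf b.1)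
  have hmem : (F.inQ p)⁻¹ ∈ F.planeSub := inv_mem (F.inQ_planeSub.2 (hp ▸ inW_smul _ (wOf_mem _)))
  rw [F.sW_eq hp, F.sW_eq (q := p * q) (by rw [F.map_mul, hp, hq, wOf_add, smul_add]), _root_.map_mul]
  have hc := F.planeSub_comm hmem (F.sW_planeSub b.1)
  rw [F.sW_eq hq] at hc ⊢
  rw [mul_assoc (F.jC * F.inQ p * F.jC⁻¹), hc]
  group

theorem sW_rot (w : Fin 64) : F.jC * F.sW w.1 * F.jC⁻¹ = F.sW (rotW w.1) := by
  obtain ⟨q, hq⟩ := F.surj (F4.om • wOf w.1)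
  obtain ⟨r, hr, hψ⟩ := F.conj_inQ F.jC q
  rw [F.sW_eq hq, F.sW_eq (q := r) (by rw [hψ, act_jC, hq, (wOf_rot w).1]), hr]
  group

theorem planeSub_cases {x : CC} (hx : x ∈ F.planeSub) : ∃ (b : Bool) (w : Fin 64), x = F.zb b * F.sW w.1 := by
  obtain ⟨hq, hW⟩ := hx
  obtain ⟨w, hw⟩ := exists_wOf hW
  obtain ⟨s, hs, hψ⟩ := F.sW_spec w.1
  obtain ⟨b, hb⟩ := F.eq_zb_mul (a := s) (b := ⟨x, hq⟩) (hψ.trans hw)
  exact ⟨b, w, by rw [← hs, ← hb]; rfl⟩

theorem planeSub_coord {b b' : Bool} {w w' : Fin 64} (h : F.zb b * F.sW w.1 = F.zb b' * F.sW w'.1) :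
    b = b' ∧ w = w' := by
  obtain ⟨s, hs, hψ⟩ := F.sW_spec w.1
  obtain ⟨s', hs', hψ'⟩ := F.sW_spec w'.1
  have hw : w = w' := by
    have hz : ∀ c, ∀ r : ↥Q, F.zb c * F.inQ r ∈ F.planeSub → ∀ x : ↥Q, F.inQ x = F.zb c * F.inQ r → F.ψ x = F.ψ r := by
      intro c r _ x hx
      cases c
      · rw [show x = r from Subtype.ext (congrArg Subtype.val (hx.trans (one_mul _)) :)]
      · have e : x = ⟨z, F.large.z_mem⟩ * r := Subtype.ext (congrArg Subtype.val hx :)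
        rw [e, F.map_mul, (F.eq_zero _).2 (Subgroup.mem_zpowers z), zero_add]
    obtain ⟨x, hx⟩ : ∃ x : ↥Q, F.inQ x = F.zb b * F.inQ s := by
      obtain ⟨hq, -⟩ := mul_mem (F.zb_planeSub b) (F.sW_planeSub w.1)
      exact ⟨⟨_, hq⟩, by rw [hs]; rfl⟩
    have h1 := hz b s (hs.symm ▸ mul_mem (F.zb_planeSub b) (F.sW_planeSub w.1)) x hx
    have h2 := hz b' s' (hs'.symm ▸ mul_mem (F.zb_planeSub b') (F.sW_planeSub w'.1)) x (by rw [hx, hs, h, hs'])
    have h3 : wOf (w.1 ^^^ w'.1) = 0 := by rw [wOf_add, ← hψ, ← hψ', ← h1, ← h2, v6_add_self]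
    exact Fin.ext (xor_eq_zero_iff.1 (congrArg Fin.val (wOf_eq_zero ⟨_, Nat.xor_lt_two_pow (n := 6) w.2 w'.2⟩ h3)))
  subst hw
  exact ⟨F.zb_injective (mul_right_cancel h), rfl⟩

/-! ### The fixed lifts and the action of `Q` -/

theorem bigA_inf' {d : CC} (hd : d ∈ F.bigA) (h : F.act d = 1) : d ∈ F.planeSub :=
  F.bigA_inf hd ((F.act_eq_one _).1 h)

theorem fixed_unique {e e' : CC} {u : Fin 16} (he : e ∈ F.bigA) (he' : e' ∈ F.bigA) (h : F.ActsAs e u)
    (h' : F.ActsAs e' u) (hj : F.jC * e = e * F.jC) (hj' : F.jC * e' = e' * F.jC) : ∃ b, e' = F.zb b * e := by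
  have h1 : e' * e⁻¹ ∈ F.planeSub := F.bigA_inf' (mul_mem he' (inv_mem he)) (Equiv.ext fun v => by
    obtain ⟨x, rfl⟩ : ∃ x, F.act e x = v := (F.act e).surjective v
    rw [← Equiv.Perm.mul_apply, ← _root_.map_mul, inv_mul_cancel_right, h', h]
    rfl)
  obtain ⟨b, hb⟩ := F.jC_fix_planeSub h1 (((Commute.mul_right hj' (Commute.inv_right hj))).eq)
  exact ⟨b, by rw [← hb, inv_mul_cancel_right]⟩

/-- The action of `Q` on a fixed lift. -/
theorem conj_fixed {e : CC} {u : Fin 16} (he : e ∈ F.bigA) (hu : F.ActsAs e u) (hj : F.jC * e = e * F.jC)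
    (q : ↥Q) {w : Fin 64} (hw : (uaLit u + 1) *ᵥ F.ψ q = wOf w.1) :
    F.inQ q * e * (F.inQ q)⁻¹ = F.zb (quadBit u (F.ψ q)) * F.sW w.1 * e := by
  classical
  -- every element of `Q` has a bit
  have hex : ∀ q : ↥Q, ∀ w : Fin 64, (uaLit u + 1) *ᵥ F.ψ q = wOf w.1 →
      ∃ b, F.inQ q * e * (F.inQ q)⁻¹ = F.zb b * F.sW w.1 * e := by
    intro q w hw
    obtain ⟨r, hr, hψ⟩ := F.conj_inQ e q⁻¹
    obtain ⟨s, hs, hs'⟩ := F.sW_spec w.1
    obtain ⟨b, hb⟩ := F.eq_zb_mul (a := s) (b := q * r) (by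
      rw [F.map_mul, hψ, hu, F.map_inv', mat_uaElt, hs', ← hw, Matrix.add_mulVec, Matrix.one_mulVec, add_comm])
    refine ⟨b, ?_⟩
    rw [← hs, ← hb, _root_.map_mul, hr, map_inv]
    group
  have hW : ∀ q : ↥Q, InW ((uaLit u + 1) *ᵥ F.ψ q) := fun q => by
    obtain ⟨r, hr, hψ⟩ := F.conj_inQ e q⁻¹
    have h1 : F.inQ (q * r) ∈ F.bigA := by
      rw [_root_.map_mul, hr, map_inv]
      refine (show F.inQ q * (e * (F.inQ q)⁻¹ * e⁻¹) = F.inQ q * e * (F.inQ q)⁻¹ * e⁻¹ by group) ▸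
        mul_mem (F.conj_bigA ?_ he) (inv_mem he)
      intro v; rw [F.act_inQ]; rfl
    obtain ⟨_, h2⟩ := F.bigA_inf h1 (q * r).2
    change InW (F.ψ (q * r)) at h2
    rw [F.map_mul, hψ, hu, F.map_inv', mat_uaElt] at h2
    rw [Matrix.add_mulVec, Matrix.one_mulVec, add_comm]
    exact h2
  choose img himg using fun v : V6 => exists_wOf (show InW ((uaLit u + 1) *ᵥ v) by
    obtain ⟨q, rfl⟩ := F.surj v; exact hW q)
  choose β hβ using fun v : V6 => hex (F.surj v).choose (img v) (by rw [(F.surj v).choose_spec]; exact (himg v).symm)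
  have hval : ∀ (q : ↥Q) (w : Fin 64), (uaLit u + 1) *ᵥ F.ψ q = wOf w.1 →
      F.inQ q * e * (F.inQ q)⁻¹ = F.zb (β (F.ψ q)) * F.sW w.1 * e := by
    intro q w hw
    have hwi : img (F.ψ q) = w := by
      have h3 : wOf ((img (F.ψ q)).1 ^^^ w.1) = 0 := by rw [wOf_add, himg, hw, v6_add_self]
      exact Fin.ext (xor_eq_zero_iff.1 (congrArg Fin.val (wOf_eq_zero ⟨_, Nat.xor_lt_two_pow (n := 6) (img _).2 w.2⟩ h3)))
    obtain ⟨c, hc⟩ := F.eq_zb_mul (F.surj (F.ψ q)).choose_spec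
    rw [hc, _root_.mul_inv_rev, show F.zb c * F.inQ (F.surj (F.ψ q)).choose * e *
      ((F.inQ (F.surj (F.ψ q)).choose)⁻¹ * (F.zb c)⁻¹) = F.zb c * (F.inQ (F.surj (F.ψ q)).choose * e *
      (F.inQ (F.surj (F.ψ q)).choose)⁻¹) * (F.zb c)⁻¹ by group, hβ, hwi, F.zb_comm, mul_inv_cancel_right]
  have hadd : ∀ v v', β (v + v') = xor (xor (β v) (β v')) (trBit (hf v ((uaLit u + 1) *ᵥ v'))) := by
    intro v v'
    obtain ⟨p, rfl⟩ := F.surj v
    obtain ⟨r, rfl⟩ := F.surj v'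
    set a := img (F.ψ p)
    set b := img (F.ψ r)
    have hsum : (uaLit u + 1) *ᵥ F.ψ (p * r) = wOf (a.1 ^^^ b.1) := by
      rw [F.map_mul, Matrix.mulVec_add, wOf_add, himg, himg]
    have h1 := hval (p * r) ⟨_, Nat.xor_lt_two_pow (n := 6) a.2 b.2⟩ hsum
    have hpa := hval p a (himg _).symm
    have hrb := hval r b (himg _).symm
    obtain ⟨s, hs, hs'⟩ := F.sW_spec b.1
    have hps := F.conj_in_Q p s
    rw [hs, hs', show wOf b.1 = (uaLit u + 1) *ᵥ F.ψ r from himg _] at hps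
    have h2 : F.inQ (p * r) * e * (F.inQ (p * r))⁻¹ =
        F.zb (xor (xor (β (F.ψ p)) (β (F.ψ r))) (trBit (hf (F.ψ p) ((uaLit u + 1) *ᵥ F.ψ r)))) *
          F.sW (a.1 ^^^ b.1) * e := by
      rw [_root_.map_mul, _root_.mul_inv_rev, show F.inQ p * F.inQ r * e * ((F.inQ r)⁻¹ * (F.inQ p)⁻¹) =
        F.inQ p * (F.inQ r * e * (F.inQ r)⁻¹) * (F.inQ p)⁻¹ by group, hrb,
        show F.inQ p * (F.zb (β (F.ψ r)) * F.sW b.1 * e) * (F.inQ p)⁻¹ = F.inQ p * F.zb (β (F.ψ r)) *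
          (F.inQ p)⁻¹ * (F.inQ p * F.sW b.1 * (F.inQ p)⁻¹) * (F.inQ p * e * (F.inQ p)⁻¹) by group,
        ← F.zb_comm, mul_inv_cancel_right, hpa, hps, F.zb_xor, F.zb_xor, F.sW_add,
        F.planeSub_comm (F.sW_planeSub a.1) (F.sW_planeSub b.1)]
      simp only [mul_assoc]
      rw [← mul_assoc (F.sW b.1), ← F.zb_comm, mul_assoc, ← mul_assoc (F.zb (trBit _)), ← F.zb_comm (β (F.ψ p))]
      simp only [mul_assoc]
      rw [← mul_assoc (F.zb (β (F.ψ r))), ← F.zb_comm (β (F.ψ p))]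
      simp only [mul_assoc]
    rw [← F.map_mul]
    exact F.zb_injective (mul_right_cancel (mul_right_cancel (h1.symm.trans h2)))
  have hom : ∀ v, β (F4.om • v) = β v := by
    intro v
    obtain ⟨p, rfl⟩ := F.surj v
    obtain ⟨r, hr, hψ⟩ := F.conj_inQ F.jC p
    rw [act_jC] at hψ
    have hwr : (uaLit u + 1) *ᵥ F.ψ r = wOf (rotW (img (F.ψ p)).1) := by
      rw [hψ, Matrix.mulVec_smul, ← himg, (wOf_rot _).1]
    have h1 := hval r ⟨_, (wOf_rot (img (F.ψ p))).2⟩ hwr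
    have h2 : F.inQ r * e * (F.inQ r)⁻¹ = F.zb (β (F.ψ p)) * F.sW (rotW (img (F.ψ p)).1) * e := by
      have hje : F.jC⁻¹ * e * F.jC = e := by rw [mul_assoc, ← hj, inv_mul_cancel_left]
      rw [hr, show F.jC * F.inQ p * F.jC⁻¹ * e * (F.jC * F.inQ p * F.jC⁻¹)⁻¹ =
        F.jC * (F.inQ p * (F.jC⁻¹ * e * F.jC) * (F.inQ p)⁻¹) * F.jC⁻¹ by group, hje, hval p _ (himg _).symm,
        show F.jC * (F.zb (β (F.ψ p)) * F.sW (img (F.ψ p)).1 * e) * F.jC⁻¹ = F.jC * F.zb (β (F.ψ p)) * F.jC⁻¹ *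
          (F.jC * F.sW (img (F.ψ p)).1 * F.jC⁻¹) * (F.jC * e * F.jC⁻¹) by group, ← F.zb_comm, mul_inv_cancel_right,
        F.sW_rot, hj, mul_inv_cancel_right]
    rw [← hψ]
    exact F.zb_injective (mul_right_cancel (mul_right_cancel (h1.symm.trans h2)))
  have hg : xor (β (F.ψ q)) (quadBit u (F.ψ q)) = false :=
    invariant_zero (g := fun v => xor (β v) (quadBit u v))
      (fun v v' => by rw [hadd, quad_add]; cases β v <;> cases β v' <;> cases quadBit u v <;> cases quadBit u v' <;> cases trBit _ <;> rfl)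
      (fun v => by rw [hom, quad_om]) _
  rw [hval q w hw]
  congr 3
  revert hg
  cases β (F.ψ q) <;> cases quadBit u (F.ψ q) <;> simp

/-- A lift of an element of the stabiliser commuting with the element of order three. -/
theorem exists_lift_comm {t : CfsgLib.Sporadic.U43Triple.G} (ht : t ∈ stabW) :
    ∃ c ∈ F.stabC, (∀ v, F.act c v = mat t *ᵥ v) ∧ F.jC * c = c * F.jC := by
  obtain ⟨c, hc, hcv⟩ := F.lift_stabC ht
  have hx : ((c * F.jC * c⁻¹ * F.jC⁻¹ : CC) : G) ∈ Q := (F.act_eq_one _).1 (by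
    have hcj : F.act c * F.act F.jC = F.act F.jC * F.act c := Equiv.ext fun v => by
      rw [Equiv.Perm.mul_apply, Equiv.Perm.mul_apply, act_jC, act_jC, hcv, hcv, Matrix.mulVec_smul]
    rw [_root_.map_mul, _root_.map_mul, _root_.map_mul, map_inv, map_inv, hcj, mul_inv_cancel_right, mul_inv_cancel])
  obtain ⟨r, hr⟩ := F.surj (F4.om • F.ψ ⟨_, hx⟩)
  obtain ⟨s, hs, hψ⟩ := F.conj_inQ F.jC r⁻¹
  obtain ⟨b, hb⟩ := F.eq_zb_mul (a := 1) (b := r * (⟨_, hx⟩ * s)) (by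
    rw [F.map_one, F.map_mul, F.map_mul, hψ, act_jC, F.map_inv', hr, add_left_comm, add_comm (F4.om • _), om_half,
      v6_add_self])
  rw [_root_.map_mul, _root_.map_mul, hs, map_inv, _root_.map_one, mul_one,
    show F.inQ ⟨_, hx⟩ = c * F.jC * c⁻¹ * F.jC⁻¹ from rfl] at hb
  have he : F.inQ r * c * F.jC * (F.inQ r * c)⁻¹ = F.zb b * F.jC := by
    rw [← hb]; group
  have hb0 : b = false := by
    cases b
    · rfl
    have h3 := congrArg (fun x => x ^ 3) he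
    rw [conj_pow, F.jC_cube, mul_one, mul_inv_cancel, Commute.mul_pow (F.zb_comm _ _), F.jC_cube, mul_one,
      pow_succ, pow_two, ← F.zb_xor, ← F.zb_xor] at h3
    exact absurd (F.zb_injective (a₁ := true) (a₂ := false) h3.symm) (by decide)
  refine ⟨F.inQ r * c, mul_mem (fun v => by rw [F.act_inQ]; rfl) hc, fun v => ?_, ?_⟩
  · rw [_root_.map_mul, F.act_inQ, one_mul, hcv]
  · rw [hb0, zb, if_neg (by simp), one_mul] at he
    exact (mul_inv_eq_iff_eq_mul.1 he).symm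

variable [Finite G] (hg : ∃ g : G, g * z * g⁻¹ ∈ Q ∧ g * z * g⁻¹ ≠ z)
include hg

theorem exists_fixed (u : Fin 16) : ∃ e ∈ F.bigA, F.ActsAs e u ∧ F.jC * e = e * F.jC := by
  obtain ⟨d, hd, hu⟩ := (F.bigA_counts hg).2 u
  let φ : CC → CC := fun x => F.jC * x * F.jC⁻¹
  have hφ : ∀ x, x ∈ F.bigA → F.ActsAs x u → φ x ∈ F.bigA ∧ F.ActsAs (φ x) u := fun x hx hxu =>
    ⟨F.conj_bigA F.jC_stabC hx, fun v => by
      obtain ⟨y, rfl⟩ : ∃ y, F.act F.jC y = v := (F.act F.jC).surjective v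
      rw [← Equiv.Perm.mul_apply, ← _root_.map_mul, inv_mul_cancel_right, _root_.map_mul, Equiv.Perm.mul_apply,
        hxu, act_jC, act_jC, Matrix.mulVec_smul]⟩
  obtain ⟨h1, h1'⟩ := hφ d hd hu
  obtain ⟨h2, h2'⟩ := hφ _ h1 h1'
  have h3 : φ (φ (φ d)) = d := by
    show F.jC * (F.jC * (F.jC * d * F.jC⁻¹) * F.jC⁻¹) * F.jC⁻¹ = d
    calc _ = F.jC * F.jC * F.jC * d * (F.jC * F.jC * F.jC)⁻¹ := by group
      _ = d := by rw [← pow_two, ← pow_succ, F.jC_cube]; simp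
  refine ⟨d * φ d * φ (φ d), mul_mem (mul_mem hd h1) h2, ?_, ?_⟩
  · have := F.actsAs_mul (F.actsAs_mul hu h1') h2'
    rwa [uAdd_facts.1, uAdd_facts.2.1] at this
  · refine mul_inv_eq_iff_eq_mul.1 ?_
    calc F.jC * (d * φ d * φ (φ d)) * F.jC⁻¹ = φ d * φ (φ d) * φ (φ (φ d)) := by simp only [φ]; group
      _ = d * (φ d * φ (φ d)) := by rw [h3]; exact F.bigA_comm hg (mul_mem h1 h2) hd
      _ = _ := (mul_assoc _ _ _).symm

end Coord

end CfsgLib.ThreeTrans.LargeFischer
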