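import Cfsg.Agent.Lib.ThreeTrans.LargeFischer.AxisClass
import Cfsg.Agent.Lib.Schur.Perfect
import Cfsg.Agent.Lib.Sporadic.U43Triple.Normal

/-!
The centralizer of an element of order three acting as a scalar: a perfect sixfold central cover of the
unitary group (owner: helper10).
-/

set_option autoImplicit false
set_option maxHeartbeats 1000000
set_option maxRecDepth 100000

namespace CfsgLib.ThreeTrans.LargeFischer

open Matrix Cfsg
open CfsgLib.Recog.SporBound.Fi22U6 (F4)
open CfsgLib.Sporadic.U43Triple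
open CfsgLib.Known.U43Mult (Mdl mdl_spec)
open scoped commutatorElement

/-- The even permutation turning the two blocks. -/
def cycAB : Equiv.Perm (Fin 6) := cycA * cycB

theorem sixDiag_ok : DiagOK ![1, F4.om', F4.om, 1, F4.om', F4.om] := by decide +kernel

theorem cycAB_even : cycAB ∈ alternatingGroup (Fin 6) :=
  Equiv.Perm.mem_alternatingGroup.2 (by decide +kernel)

/-- The scalar of order three is a commutator in the triple cover. -/
theorem scal_comm_eq :
    permHom cycAB * dElt _ sixDiag_ok * (permHom cycAB)⁻¹ * (dElt _ sixDiag_ok)⁻¹ =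
      scal F4.om om_facts.2.2.2 := by
  refine mat_injective ?_
  rw [mat_mul, mat_mul, mat_mul, mat_inv, mat_inv, mat_permHom, scal, mat_dElt, mat_dElt]
  decide +kernel

theorem mdl_commutator : commutator Mdl = ⊤ := by
  haveI := mdl_spec.1
  refine (Subgroup.Normal.eq_bot_or_eq_top (inferInstance : (commutator Mdl).Normal)).resolve_left fun h => ?_
  have hcomm : ∀ x y : Mdl, x * y = y * x := fun x y => by
    refine commutatorElement_eq_one_iff_mul_comm.1 ?_
    have : ⁅x, y⁆ ∈ commutator Mdl := Subgroup.commutator_mem_commutator (Subgroup.mem_top x) (Subgroup.mem_top y)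
    rwa [h, Subgroup.mem_bot] at this
  haveI : Finite Mdl := Nat.finite_of_card_ne_zero (by rw [mdl_spec.2]; norm_num)
  letI : CommGroup Mdl := { (inferInstance : Group Mdl) with mul_comm := hcomm }
  have := (IsSimpleGroup.prime_card (α := Mdl))
  rw [mdl_spec.2] at this
  norm_num at this

namespace Coord

variable {G : Type*} [Group G] {z : G} {Q : Subgroup G} (F : Coord z Q)

set_option quotPrecheck false in
local notation "CC" => ↥(Subgroup.centralizer ({z} : Set G))

/-- The centralizer of the element of order three. -/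
noncomputable def centJ : Subgroup CC := Subgroup.centralizer ({F.jC} : Set CC)

theorem mem_centJ {c : CC} : c ∈ F.centJ ↔ F.jC * c = c * F.jC := by
  rw [centJ, mem_centralizer_singleton_iff']
  exact eq_comm

theorem jC_mem_centJ : F.jC ∈ F.centJ := F.mem_centJ.2 rfl

theorem zC_mem_centJ : (zC : CC) ∈ F.centJ :=
  F.mem_centJ.2 (Subtype.ext (mem_C_commute F.jC).eq)

theorem actsAs_conj {c e : CC} {u w : Fin 16} {t : CfsgLib.Sporadic.U43Triple.G}
    (hc : ∀ v, F.act c v = mat t *ᵥ v) (he : F.ActsAs e u) (h : t * uaElt u = uaElt w * t) :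
    F.ActsAs (c * e * c⁻¹) w := fun v => by
  obtain ⟨y, rfl⟩ : ∃ y, F.act c y = v := (F.act c).surjective v
  rw [← Equiv.Perm.mul_apply, ← _root_.map_mul, inv_mul_cancel_right, _root_.map_mul, Equiv.Perm.mul_apply,
    he, hc, hc, Matrix.mulVec_mulVec, Matrix.mulVec_mulVec, ← mat_mul, ← mat_mul, h]

/-- An element of order three acting as the scalar is conjugate to the chosen one under `Q`. -/
theorem exists_conj_jC {y : CC} (h3 : y ^ 3 = 1) (hy : ∀ v, F.act y v = F4.om • v) :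
    ∃ r : ↥Q, F.inQ r * y * (F.inQ r)⁻¹ = F.jC := by
  have hx : ((y * F.jC⁻¹ : CC) : G) ∈ Q := (F.act_eq_one _).1 (by
    rw [_root_.map_mul, map_inv, show F.act y = F.act F.jC from Equiv.ext fun v => by rw [hy, act_jC],
      mul_inv_cancel])
  obtain ⟨r, hr⟩ := F.surj (F4.om • F.ψ ⟨_, hx⟩)
  obtain ⟨s, hs, hψ⟩ := F.conj_inQ F.jC r⁻¹
  obtain ⟨b, hb⟩ := F.eq_zb_mul (a := 1) (b := r * (⟨_, hx⟩ * s)) (by
    rw [F.map_one, F.map_mul, F.map_mul, hψ, act_jC, F.map_inv', hr, add_left_comm, add_comm (F4.om • _), om_half,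
      v6_add_self])
  rw [_root_.map_mul, _root_.map_mul, hs, map_inv, _root_.map_one, mul_one,
    show F.inQ ⟨_, hx⟩ = y * F.jC⁻¹ from rfl] at hb
  have he : F.inQ r * y * (F.inQ r)⁻¹ = F.zb b * F.jC := by
    rw [← hb]; group
  have hb0 : b = false := by
    cases b
    · rfl
    have h4 := congrArg (fun x => x ^ 3) he
    rw [conj_pow, h3, mul_one, mul_inv_cancel, Commute.mul_pow (F.zb_comm _ _), F.jC_cube, mul_one,
      pow_succ, pow_two, ← F.zb_xor, ← F.zb_xor] at h4
    exact absurd (F.zb_injective (a₁ := true) (a₂ := false) h4.symm) (by decide)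
  exact ⟨r, by rw [he, hb0, zb, if_neg (by simp), one_mul]⟩

/-- An element of `Q` commuting with the element of order three is central. -/
theorem centJ_inf {c : CC} (hc : c ∈ F.centJ) (h1 : F.act c = 1) : ∃ b, c = F.zb b := by
  have hq : (c : G) ∈ Q := (F.act_eq_one _).1 h1
  obtain ⟨r, hr, hψ⟩ := F.conj_inQ F.jC ⟨c, hq⟩
  have e : r = ⟨c, hq⟩ := by
    have h2 : F.inQ r = c := by
      rw [hr, show F.inQ ⟨c, hq⟩ = c from rfl, F.mem_centJ.1 hc, mul_inv_cancel_right]
    exact Subtype.ext (congrArg (fun y : CC => (y : G)) h2 :)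
  rw [e, act_jC] at hψ
  have h0 : F.ψ ⟨c, hq⟩ = 0 := funext fun i => by
    have key : ∀ a : F4, a = F4.om * a → a = 0 := by decide +kernel
    exact key _ (congrFun hψ i)
  rcases F.large.eq_or ((F.eq_zero _).1 h0) with h | h
  · exact ⟨false, Subtype.ext h⟩
  · exact ⟨true, Subtype.ext h⟩

variable [Finite G] (hg : ∃ g : G, g * z * g⁻¹ ∈ Q ∧ g * z * g⁻¹ ≠ z)
include hg

theorem centJ_le : F.centJ ≤ F.M := fun c hc => by
  by_contra hM
  obtain ⟨t, -, ht⟩ := F.outer_form hg c hM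
  obtain ⟨y, hy⟩ := (F.act c).surjective (bW 0)
  have h1 : F.act c (F4.om • y) = F4.om' • F.act c y := by
    rw [ht, ht, outV_om_smul, Matrix.mulVec_smul]
  have h2 : F.act c (F4.om • y) = F4.om • F.act c y := by
    rw [← F.act_jC, ← F.act_jC, ← Equiv.Perm.mul_apply, ← Equiv.Perm.mul_apply, ← _root_.map_mul,
      ← _root_.map_mul, F.mem_centJ.1 hc]
  rw [h1, hy] at h2
  have h3 := congrFun h2 0
  revert h3
  decide +kernel

theorem exists_img (c : ↥F.centJ) : ∃ t : ↥triple, ∀ v, F.act c v = mat t.1 *ᵥ v := by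
  obtain ⟨t, ht, e⟩ := F.act_M _ (F.centJ_le hg c.2)
  exact ⟨⟨t, ht⟩, e⟩

/-- The map to the triple cover. -/
noncomputable def centHom : ↥F.centJ →* ↥triple :=
  MonoidHom.mk' (fun c => (F.exists_img hg c).choose) fun a b => Subtype.ext (mulVec_ext fun v => by
    rw [← (F.exists_img hg (a * b)).choose_spec, Subgroup.coe_mul, _root_.map_mul, Equiv.Perm.mul_apply,
      (F.exists_img hg b).choose_spec, (F.exists_img hg a).choose_spec, Subgroup.coe_mul, mat_mul,
      Matrix.mulVec_mulVec])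

theorem centHom_spec (c : ↥F.centJ) (v : V6) : F.act c v = mat (F.centHom hg c).1 *ᵥ v :=
  (F.exists_img hg c).choose_spec v

theorem centHom_surjective : Function.Surjective (F.centHom hg) := fun t => by
  obtain ⟨c, -, hc⟩ := F.lift t.1 t.2
  obtain ⟨r, hr⟩ := F.exists_conj_jC (y := c * F.jC * c⁻¹) (by rw [conj_pow, F.jC_cube, mul_one, mul_inv_cancel])
    (fun v => by
      obtain ⟨y, rfl⟩ : ∃ y, F.act c y = v := (F.act c).surjective v
      rw [← Equiv.Perm.mul_apply, ← _root_.map_mul, inv_mul_cancel_right, _root_.map_mul, Equiv.Perm.mul_apply,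
        act_jC, hc, hc, Matrix.mulVec_smul])
  have hmem : F.inQ r * c ∈ F.centJ := F.mem_centJ.2 (by
    rw [show F.inQ r * (c * F.jC * c⁻¹) * (F.inQ r)⁻¹ = F.inQ r * c * F.jC * (F.inQ r * c)⁻¹ by group] at hr
    exact (mul_inv_eq_iff_eq_mul.1 hr).symm)
  refine ⟨⟨_, hmem⟩, Subtype.ext (mulVec_ext fun v => ?_)⟩
  rw [← F.centHom_spec hg]
  show F.act (F.inQ r * c) v = _
  rw [_root_.map_mul, F.act_inQ, one_mul, hc]

theorem mem_centHom_ker {c : ↥F.centJ} : c ∈ (F.centHom hg).ker ↔ ∃ b, (c : CC) = F.zb b := by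
  rw [MonoidHom.mem_ker]
  constructor
  · intro h
    refine F.centJ_inf c.2 (Equiv.ext fun v => ?_)
    rw [F.centHom_spec hg, h, Subgroup.coe_one, mat_one, Matrix.one_mulVec]
    rfl
  · rintro ⟨b, hb⟩
    refine Subtype.ext (mulVec_ext fun v => ?_)
    rw [← F.centHom_spec hg, hb, (F.act_eq_one _).2 (F.zb_planeSub b).1, Subgroup.coe_one, mat_one, Matrix.one_mulVec]
    rfl

omit hg [Finite G] in
theorem zb_centJ (b : Bool) : F.zb b ∈ F.centJ := F.mem_centJ.2 (F.zb_comm b _).symm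

theorem card_centHom_ker : Nat.card ↥(F.centHom hg).ker = 2 := by
  let f : Bool → ↥(F.centHom hg).ker := fun b => ⟨⟨F.zb b, F.zb_centJ b⟩, (F.mem_centHom_ker hg).2 ⟨b, rfl⟩⟩
  have hf : Function.Bijective f := by
    constructor
    · intro a b e
      exact F.zb_injective (congrArg (fun x : ↥(F.centHom hg).ker => x.1.1) e)
    · rintro ⟨c, hc⟩
      obtain ⟨b, hb⟩ := (F.mem_centHom_ker hg).1 hc
      exact ⟨b, Subtype.ext (Subtype.ext hb.symm)⟩
  rw [← Nat.card_congr (Equiv.ofBijective f hf), Nat.card_eq_fintype_card, Fintype.card_bool]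

theorem centHom_jC : (F.centHom hg ⟨F.jC, F.jC_mem_centJ⟩).1 = scal F4.om om_facts.2.2.2 :=
  mulVec_ext fun v => by rw [← F.centHom_spec hg, mat_scal]; exact F.act_jC v

/-- The projection onto the simple quotient. -/
noncomputable def centProj : ↥F.centJ →* Mdl := rho.comp (F.centHom hg)

theorem centProj_surjective : Function.Surjective (F.centProj hg) :=
  rho_surjective.comp (F.centHom_surjective hg)

theorem centProj_ker_eq : (F.centProj hg).ker = Subgroup.center ↥F.centJ := by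
  have hker : (F.centProj hg).ker = rho.ker.comap (F.centHom hg) := rfl
  refine le_antisymm (fun c hc => ?_) (fun c hc => ?_)
  · obtain ⟨a, ha⟩ := rho_eq_one_iff.1 (MonoidHom.mem_ker.1 hc)
    have hact : ∀ v, F.act c v = a • v := fun v => by
      rw [F.centHom_spec hg, ha, Matrix.smul_mulVec, Matrix.one_mulVec]
    obtain ⟨i, hi⟩ : ∃ i : ℕ, F.act c = F.act (F.jC ^ i) := by
      have h0 : a ≠ 0 := fun h => by
        obtain ⟨y, hy⟩ := (F.act c).surjective (bW 0)
        rw [hact, h, zero_smul] at hy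
        exact (show bW 0 ≠ 0 by decide +kernel) hy.symm
      rcases four_cases' a with rfl | rfl | rfl | rfl
      · exact absurd rfl h0
      · exact ⟨0, Equiv.ext fun v => by rw [hact, one_smul, pow_zero, _root_.map_one]; rfl⟩
      · exact ⟨1, Equiv.ext fun v => by rw [hact, pow_one, act_jC]⟩
      · refine ⟨2, Equiv.ext fun v => ?_⟩
        rw [hact, pow_two, _root_.map_mul, Equiv.Perm.mul_apply, act_jC, act_jC, smul_smul]
        congr 1
    obtain ⟨b, hb⟩ := F.centJ_inf (c := (F.jC ^ i)⁻¹ * (c : CC))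
      (mul_mem (inv_mem (pow_mem F.jC_mem_centJ i)) c.2) (by rw [_root_.map_mul, map_inv, hi, inv_mul_cancel])
    refine Subgroup.mem_center_iff.2 fun x => Subtype.ext ?_
    show (x : CC) * c = c * x
    have e : (c : CC) = F.jC ^ i * F.zb b := by rw [← hb, mul_inv_cancel_left]
    rw [e]
    exact (Commute.mul_right (Commute.pow_right (F.mem_centJ.1 x.2).symm i) (F.zb_comm b _).symm).eq
  · rw [hker, Subgroup.mem_comap, ← center_triple, Subgroup.mem_center_iff]
    intro t
    obtain ⟨x, rfl⟩ := F.centHom_surjective hg t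
    rw [← _root_.map_mul, ← _root_.map_mul, Subgroup.mem_center_iff.1 hc x]

theorem card_center_centJ : Nat.card ↥(Subgroup.center ↥F.centJ) = 6 := by
  rw [← F.centProj_ker_eq hg, show (F.centProj hg).ker = rho.ker.comap (F.centHom hg) from rfl,
    card_comap _ (F.centHom_surjective hg), F.card_centHom_ker hg, card_ker]

theorem isCyclic_center_centJ : IsCyclic ↥(Subgroup.center ↥F.centJ) := by
  have hz2 : orderOf (zC : CC) = 2 := by
    rw [← Subgroup.orderOf_coe]; exact F.large.hz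
  have hj3 : orderOf F.jC = 3 := by
    haveI : Fact (Nat.Prime 3) := ⟨Nat.prime_three⟩
    refine orderOf_eq_prime F.jC_cube fun h => ?_
    have := F.act_jC (bW 0)
    rw [h, _root_.map_one] at this
    revert this
    decide +kernel
  have hc : ∀ x : ↥F.centJ, Commute (x : CC) ((zC : CC) * F.jC) := fun x =>
    Commute.mul_right (Subtype.ext (mem_C_commute x.1).eq) (F.mem_centJ.1 x.2).symm
  let w : ↥(Subgroup.center ↥F.centJ) := ⟨⟨(zC : CC) * F.jC, mul_mem F.zC_mem_centJ F.jC_mem_centJ⟩,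
    Subgroup.mem_center_iff.2 fun x => Subtype.ext (hc x).eq⟩
  refine isCyclic_of_orderOf_eq_card w ?_
  rw [F.card_center_centJ hg]
  show orderOf w = 6
  rw [← Subgroup.orderOf_coe, ← Subgroup.orderOf_coe]
  show orderOf ((zC : CC) * F.jC) = 6
  rw [Commute.orderOf_mul_eq_mul_orderOf_of_coprime
    (show Commute (zC : CC) F.jC from Subtype.ext (mem_C_commute F.jC).eq.symm) (by rw [hz2, hj3]; norm_num),
    hz2, hj3]

theorem conj_eD (k : Fin 3) (u : Fin 16) (hu : u ≠ 0) :
    ∃ c : ↥F.centJ, (c : CC) * F.eD hg u * (c : CC)⁻¹ = F.eD hg (selImg k u) := by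
  obtain ⟨c, hcS, hcv, hcj⟩ := F.exists_lift_comm (selElt_mem k)
  refine ⟨⟨c, F.mem_centJ.2 hcj⟩, ?_⟩
  show c * F.eD hg u * c⁻¹ = _
  obtain ⟨d, hd⟩ := F.fixed_unique (F.eD_mem hg (selImg k u)) (F.conj_bigA hcS (F.eD_mem hg u))
    (F.eD_acts hg (selImg k u)) (F.actsAs_conj hcv (F.eD_acts hg u) (selElt_conj k u)) (F.eD_comm hg _)
    ((Commute.mul_right (Commute.mul_right hcj (F.eD_comm hg u)) (Commute.inv_right hcj)).eq)
  have h : NConj (F.zb d * F.eD hg (selImg k u)) := by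
    rw [← hd, nconj_conj]
    have := (F.eD_class hg hu false).2 rfl
    rwa [zb, if_neg (by simp), one_mul] at this
  rw [hd, (F.eD_class hg (sel_nonzero k u hu) d).1 h, zb, if_neg (by simp), one_mul]

/-- The central involution is a product of three commutators. -/
theorem zC_mem_commutator : (⟨zC, F.zC_mem_centJ⟩ : ↥F.centJ) ∈ commutator ↥F.centJ := by
  have he : ∀ u, F.eD hg u ∈ F.centJ := fun u => F.mem_centJ.2 (F.eD_comm hg u)
  have hcom : ∀ (k : Fin 3) (u : Fin 16), u ≠ 0 →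
      (⟨F.eD hg (selImg k u) * F.eD hg u, mul_mem (he _) (he _)⟩ : ↥F.centJ) ∈ commutator ↥F.centJ := by
    intro k u hu
    obtain ⟨c, hc⟩ := F.conj_eD hg k u hu
    have h : ⁅c, (⟨F.eD hg u, he u⟩ : ↥F.centJ)⁆ ∈ commutator ↥F.centJ :=
      Subgroup.commutator_mem_commutator (Subgroup.mem_top _) (Subgroup.mem_top _)
    convert h using 1
    refine Subtype.ext ?_
    show _ = (c : CC) * F.eD hg u * (c : CC)⁻¹ * (F.eD hg u)⁻¹
    rw [hc, inv_eq_of_mul_eq_one_left (F.bigA_sq hg (F.eD_mem hg u))]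
  have h := mul_mem (mul_mem (hcom 0 1 (by decide)) (hcom 1 2 (by decide))) (hcom 2 2 (by decide))
  convert h using 1
  refine Subtype.ext ?_
  show (zC : CC) = F.eD hg (selImg 0 1) * F.eD hg 1 * (F.eD hg (selImg 1 2) * F.eD hg 2) *
    (F.eD hg (selImg 2 2) * F.eD hg 2)
  have s0 : selImg 0 1 = 2 := by decide +kernel
  have s1 : selImg 1 2 = 4 := by decide +kernel
  have s2 : selImg 2 2 = 7 := by decide +kernel
  have g7 : gamBit axGamma (7 : Fin 16).1 = true := by decide +kernel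
  have e7 : F.eD hg 7 = zC * F.eb hg 7 := by rw [F.eD_eq hg, F.code0_eq hg, g7]; rfl
  rw [s0, s1, s2, e7, F.eb_bit hg 1 (by simp), F.eb_bit hg 2 (by simp), F.eb_bit hg 4 (by simp)]
  have hzz : ∀ x : CC, x * zC = zC * x := fun x => Subtype.ext (mem_C_commute x).eq
  rw [mul_assoc (zC : CC), ← F.eb_add, ← F.eb_add, ← F.eb_add, ← F.eb_add, ← mul_assoc, hzz, mul_assoc, ← F.eb_add,
    show uAdd (uAdd (uAdd 2 1) (uAdd 4 2)) (uAdd 7 2) = 0 by decide +kernel, F.eb_zero hg, mul_one]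

theorem jC_mem_commutator : (⟨F.jC, F.jC_mem_centJ⟩ : ↥F.centJ) ∈ commutator ↥F.centJ := by
  obtain ⟨a, ha⟩ := F.centHom_surjective hg ⟨_, permHom_even cycAB_even⟩
  obtain ⟨b, hb⟩ := F.centHom_surjective hg ⟨_, diag_le_triple (dElt_mem _ sixDiag_ok)⟩
  have h : ⁅a, b⁆ ∈ commutator ↥F.centJ :=
    Subgroup.commutator_mem_commutator (Subgroup.mem_top _) (Subgroup.mem_top _)
  have hk : ⁅a, b⁆⁻¹ * ⟨F.jC, F.jC_mem_centJ⟩ ∈ (F.centHom hg).ker := by
    rw [MonoidHom.mem_ker, _root_.map_mul, map_inv, inv_mul_eq_one]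
    refine Subtype.ext ?_
    rw [F.centHom_jC hg, ← scal_comm_eq, commutatorElement_def]
    simp only [_root_.map_mul, map_inv, ha, hb]
    rfl
  obtain ⟨c, hc⟩ := (F.mem_centHom_ker hg).1 hk
  have h2 : ⁅a, b⁆⁻¹ * ⟨F.jC, F.jC_mem_centJ⟩ ∈ commutator ↥F.centJ := by
    cases c
    · rw [show ⁅a, b⁆⁻¹ * ⟨F.jC, F.jC_mem_centJ⟩ = 1 from Subtype.ext hc]
      exact one_mem _
    · rw [show ⁅a, b⁆⁻¹ * ⟨F.jC, F.jC_mem_centJ⟩ = ⟨zC, F.zC_mem_centJ⟩ from Subtype.ext hc]
      exact F.zC_mem_commutator hg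
  have h3 := mul_mem h h2
  rwa [mul_inv_cancel_left] at h3

theorem commutator_centJ : commutator ↥F.centJ = ⊤ := by
  refine CfsgLib.Schur.commutator_eq_top_of_central mdl_commutator (F.centProj hg) (F.centProj_surjective hg) ?_
  rw [F.centProj_ker_eq hg]
  haveI := F.isCyclic_center_centJ hg
  have hz : (⟨zC, F.zC_mem_centJ⟩ : ↥F.centJ) ∈ Subgroup.center ↥F.centJ :=
    Subgroup.mem_center_iff.2 fun x => Subtype.ext (Subtype.ext (mem_C_commute x.1).eq)
  have hj : (⟨F.jC, F.jC_mem_centJ⟩ : ↥F.centJ) ∈ Subgroup.center ↥F.centJ :=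
    Subgroup.mem_center_iff.2 fun x => Subtype.ext (F.mem_centJ.1 x.2).symm
  let H := commutator ↥F.centJ ⊓ Subgroup.center ↥F.centJ
  have h2 : 2 ∣ Nat.card ↥H := by
    have := Subgroup.orderOf_dvd_natCard H (x := ⟨zC, F.zC_mem_centJ⟩) ⟨F.zC_mem_commutator hg, hz⟩
    rwa [← Subgroup.orderOf_coe, ← Subgroup.orderOf_coe, show ((zC : CC) : G) = z from rfl, F.large.hz] at this
  have h3 : 3 ∣ Nat.card ↥H := by
    haveI : Fact (Nat.Prime 3) := ⟨Nat.prime_three⟩
    have := Subgroup.orderOf_dvd_natCard H (x := ⟨F.jC, F.jC_mem_centJ⟩) ⟨F.jC_mem_commutator hg, hj⟩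
    rwa [orderOf_eq_prime (p := 3) (Subtype.ext F.jC_cube) (fun h => by
      have h' := F.act_jC (bW 0)
      rw [show F.jC = 1 from congrArg Subtype.val h, _root_.map_one] at h'
      revert h'
      decide +kernel)] at this
  have h6 : 6 ≤ Nat.card ↥H :=
    Nat.le_of_dvd Nat.card_pos (Nat.Coprime.mul_dvd_of_dvd_of_dvd (by norm_num) h2 h3)
  exact (Subgroup.eq_of_le_of_card_ge (inf_le_right : H ≤ _) (by rw [F.card_center_centJ hg]; exact h6)).ge.trans
    inf_le_left

omit hg in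
/-- Turning an element of order three with normal product with `Q` into the scalar. -/
theorem exists_scalar (hg : ∃ g : G, g * z * g⁻¹ ∈ Q ∧ g * z * g⁻¹ ≠ z) (X : Subgroup CC) (hX : Nat.card X = 3)
    {Q' : Subgroup CC} (hQ' : ∀ c : CC, c ∈ Q' ↔ (c : G) ∈ Q) [Q'.Normal] (hN : (X ⊔ Q').Normal) :
    ∃ y : CC, X = Subgroup.zpowers y ∧ y ^ 3 = 1 ∧ ∀ v, F.act y v = F4.om • v := by
  haveI : Fact (Nat.Prime 3) := ⟨Nat.prime_three⟩
  obtain ⟨y₀, hy₀⟩ := exists_prime_orderOf_dvd_card' (G := ↥X) 3 (by rw [hX])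
  have ho : orderOf (y₀ : CC) = 3 := (Subgroup.orderOf_coe y₀).trans hy₀
  have hgen : ∀ y : CC, y ∈ X → orderOf y = 3 → X = Subgroup.zpowers y := fun y hy h =>
    (Subgroup.eq_of_le_of_card_ge (Subgroup.zpowers_le.2 hy) (by rw [hX, Nat.card_zpowers, h])).symm
  have hXeq := hgen _ y₀.2 ho
  have hy3 : (y₀ : CC) ^ 3 = 1 := by rw [← ho]; exact pow_orderOf_eq_one _
  have hyQ : (y₀ : CC) ∉ Q' := fun h => by
    have h1 := Subgroup.orderOf_dvd_natCard Q ((hQ' _).1 h)
    rw [Subgroup.orderOf_coe, ho, F.card] at h1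
    norm_num at h1
  have hXM : ∀ x ∈ X, x ∈ F.M := fun x hx => by
    by_contra hM
    have h3 : x ^ 3 = 1 := by
      have := Subgroup.orderOf_dvd_natCard X hx
      rw [hX] at this
      exact orderOf_dvd_iff_pow_eq_one.1 this
    have h2 : x * x ∈ F.M := (Subgroup.mul_mem_iff_of_index_two F.index).2 Iff.rfl
    refine hM ?_
    have h4 : x = (x * x)⁻¹ := eq_inv_of_mul_eq_one_left (by rw [← mul_assoc, ← pow_two, ← pow_succ, h3])
    rw [h4]
    exact inv_mem h2
  have hQM : ∀ q ∈ Q', q ∈ F.M := fun q hq => F.mem_M_of_mem hg ((hQ' q).1 hq)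
  have hex : ∀ m : ↥F.M, ∃ t : ↥triple, ∀ v, F.act m v = mat t.1 *ᵥ v := fun m => by
    obtain ⟨t, ht, e⟩ := F.act_M _ m.2
    exact ⟨⟨t, ht⟩, e⟩
  choose f hf using hex
  let χ : ↥F.M →* Mdl := rho.comp (MonoidHom.mk' f fun a b => Subtype.ext (mulVec_ext fun v => by
    rw [← hf, Subgroup.coe_mul, _root_.map_mul, Equiv.Perm.mul_apply, hf, hf, Subgroup.coe_mul, mat_mul,
      Matrix.mulVec_mulVec]))
  have hχ : Function.Surjective χ := fun t => by
    obtain ⟨u, rfl⟩ := rho_surjective t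
    obtain ⟨c, hc, e⟩ := F.lift u.1 u.2
    exact ⟨⟨c, hc⟩, congrArg rho (show f ⟨c, hc⟩ = u from Subtype.ext (mulVec_ext fun v => by rw [← hf, e]))⟩
  have hle : X ⊔ Q' ≤ F.M := sup_le hXM hQM
  let yM : ↥F.M := ⟨y₀, hXM _ y₀.2⟩
  let N : Subgroup Mdl := ((X ⊔ Q').subgroupOf F.M).map χ
  haveI : N.Normal := Subgroup.Normal.map (Subgroup.Normal.subgroupOf hN F.M) χ hχ
  have hN' : N ≤ Subgroup.zpowers (χ yM) := by
    rintro _ ⟨m, hm, rfl⟩
    obtain ⟨x, hx, q, hq, e⟩ := Subgroup.mem_sup_of_normal_right.1 (Subgroup.mem_subgroupOf.1 hm)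
    obtain ⟨i, hi⟩ := hXeq.le hx
    have em : m = yM ^ i * ⟨q, hQM q hq⟩ := Subtype.ext (by
      show (m : CC) = ((yM ^ i : ↥F.M) : CC) * q
      rw [Subgroup.coe_zpow, show (yM : CC) = y₀ from rfl, ← e, ← hi])
    have hq1 : χ ⟨q, hQM q hq⟩ = 1 := by
      have h1 : f ⟨q, hQM q hq⟩ = 1 := Subtype.ext (mulVec_ext fun v => by
        rw [← hf, (F.act_eq_one _).2 ((hQ' q).1 hq), Subgroup.coe_one, mat_one, Matrix.one_mulVec]
        rfl)
      show rho (f ⟨q, hQM q hq⟩) = 1
      rw [h1, _root_.map_one]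
    rw [em, _root_.map_mul, hq1, mul_one, map_zpow]
    exact Subgroup.zpow_mem_zpowers _ _
  have hy1 : χ yM = 1 := by
    haveI := mdl_spec.1
    rcases (inferInstance : N.Normal).eq_bot_or_eq_top with h | h
    · have : χ yM ∈ N := ⟨yM, Subgroup.mem_subgroupOf.2 (Subgroup.mem_sup_left y₀.2), rfl⟩
      rwa [h, Subgroup.mem_bot] at this
    · exfalso
      rw [h, top_le_iff] at hN'
      have h1 : Nat.card Mdl ∣ 3 := by
        rw [← Subgroup.card_top (G := Mdl), ← hN', Nat.card_zpowers]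
        refine orderOf_dvd_of_pow_eq_one ?_
        rw [← map_pow, show yM ^ 3 = 1 from Subtype.ext hy3, _root_.map_one]
      rw [mdl_spec.2] at h1
      norm_num at h1
  obtain ⟨a, ha⟩ := rho_eq_one_iff.1 (show rho (f yM) = 1 from hy1)
  have hact : ∀ v, F.act (y₀ : CC) v = a • v := fun v => by
    rw [show (y₀ : CC) = (yM : CC) from rfl, hf, ha, Matrix.smul_mulVec, Matrix.one_mulVec]
  rcases four_cases' a with rfl | rfl | rfl | rfl
  · exfalso
    obtain ⟨w, hw⟩ := (F.act (y₀ : CC)).surjective (bW 0)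
    rw [hact, zero_smul] at hw
    exact (show bW 0 ≠ 0 by decide +kernel) hw.symm
  · refine absurd ((hQ' _).2 ((F.act_eq_one _).1 (Equiv.ext fun v => ?_))) hyQ
    rw [hact, one_smul]; rfl
  · exact ⟨_, hXeq, hy3, hact⟩
  · refine ⟨(y₀ : CC) ^ 2, hgen _ (pow_mem y₀.2 2) ?_, ?_, fun v => ?_⟩
    · rw [Nat.Coprime.orderOf_pow (by rw [ho]; norm_num), ho]
    · rw [← pow_mul, pow_mul', hy3, one_pow]
    · rw [pow_two, _root_.map_mul, Equiv.Perm.mul_apply, hact, hact, smul_smul]
      congr 1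

end Coord

/-- Transporting the structure of a perfect central cover along an isomorphism. -/
theorem transfer_cover {S T K : Type*} [Group S] [Group T] [Group K] [IsSimpleGroup K] (e : S ≃* T)
    (hp : commutator T = ⊤) (σ : T →* K) (hσ : Function.Surjective σ) (hk : σ.ker = Subgroup.center T) :
    Cfsg.IsQuasisimple S ∧ Nonempty (↥(Subgroup.center S) ≃* ↥(Subgroup.center T)) ∧
      Nonempty (S ⧸ Subgroup.center S ≃* K) := by
  have hsurj : Function.Surjective (σ.comp e.toMonoidHom) := hσ.comp e.surjective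
  have hker : (σ.comp e.toMonoidHom).ker = Subgroup.center S := by
    ext x
    rw [MonoidHom.mem_ker, MonoidHom.comp_apply, ← MonoidHom.mem_ker, hk, Subgroup.mem_center_iff,
      Subgroup.mem_center_iff]
    refine ⟨fun h y => e.injective ?_, fun h y => ?_⟩
    · rw [_root_.map_mul, _root_.map_mul]; exact h (e y)
    · obtain ⟨w, rfl⟩ := e.surjective y
      show e w * e x = e x * e w
      rw [← _root_.map_mul, ← _root_.map_mul, h w]
  let q : S ⧸ Subgroup.center S ≃* K :=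
    (QuotientGroup.quotientMulEquivOfEq hker).symm.trans (QuotientGroup.quotientKerEquivOfSurjective _ hsurj)
  refine ⟨⟨Group.isPerfect_def.2 ?_, q.isSimpleGroup⟩, ⟨Subgroup.centerCongr e⟩, ⟨q⟩⟩
  refine Subgroup.map_injective (f := e.toMonoidHom) e.injective ?_
  rw [commutator_def, Subgroup.map_commutator, Subgroup.map_top_of_surjective _ e.surjective, ← commutator_def, hp]

end CfsgLib.ThreeTrans.LargeFischer
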