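import Mathlib

/-!
A tree on the 135 vectors of the small class orthogonal to the root (owner: helper28).
-/

set_option maxRecDepth 100000

namespace CfsgLib.ThreeTrans.LargeFischer

/-- the tree -/
def treePt : List (ℕ × ℕ × Fin 2) := [(2901, 80, 0), (320, 80, 1), (2064, 2901, 0), (3429, 2901, 1), (1280, 320, 0), (2709, 2064, 0), (96, 2064, 1), (2799, 3429, 0), (1461, 3429, 1), (2816, 1280, 0), (1040, 1280, 1), (144, 2709, 0), (2661, 2709, 1), (2922, 96, 0), (384, 96, 1), (3045, 2799, 0), (2991, 2799, 1), (1722, 1461, 0), (1749, 1461, 1), (832, 2816, 0), (3104, 2816, 1), (1365, 1040, 0), (3477, 144, 0), (576, 144, 1), (1647, 2661, 0), (2469, 2661, 1), (2080, 2922, 0), (3498, 2922, 1), (960, 384, 0), (1536, 384, 1), (1455, 3045, 0), (4005, 3045, 1), (3813, 2991, 0), (3759, 2991, 1), (3957, 1722, 0), (2778, 1722, 1), (640, 832, 0), (3328, 832, 1), (4074, 3104, 0), (176, 3104, 1), (3088, 3477, 0), (1653, 3477, 1), (3264, 576, 0), (2304, 576, 1), (2463, 1647, 1), (2415, 2469, 0), (1701, 2469, 1), (2730, 2080, 0), (160, 2080, 1), (3840, 960, 0), (704, 1536, 0), (1695, 1455, 1), (3765, 4005, 1),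 (2997, 3813, 1), (1509, 3759, 0), (2751, 3759, 1), (3450, 3957, 0), (3573, 3957, 1), (3039, 2778, 0), (2560, 640, 0), (1072, 3328, 1), (224, 4074, 0), (4026, 4074, 1), (3519, 176, 0), (4053, 3088, 0), (112, 3088, 1), (2490, 1653, 0), (2517, 1653, 1), (816, 3264, 1), (1216, 2304, 0), (1056, 2304, 1), (2394, 2463, 0), (3951, 1701, 0), (3120, 3840, 1), (3930, 1695, 0), (2655, 1695, 1), (1530, 3765, 0), (2805, 3765, 1), (3834, 2997, 0), (3567, 1509, 0), (1941, 1509, 1), (1914, 3573, 0), (2037, 3573, 1), (1434, 3039, 0), (1407, 1072, 0), (208, 1072, 1), (1770, 224, 0), (896, 224, 1), (1791, 3519, 1), (2943, 112, 0), (448, 112, 1), (2421, 2490, 0), (528, 2517, 0), (1893, 2517, 1), (2559, 816, 0), (784, 1216, 1), (1386, 1056, 0), (3999, 2394, 0), (4095, 3120, 0), (240, 3120, 1), (3423, 3930, 0), (1626, 2655, 0), (2010, 1530, 1), (3066, 2805, 0), (1983, 3567, 1), (272, 1941, 0), (3669, 1941, 1), (3546, 1914, 1), (2682, 2037, 0), (1503, 1407, 1), (2970, 1770, 1), (1088, 896, 0), (3584, 896, 1), (2096, 2943, 0), (2176, 448, 0), (1792, 448, 1), (2112, 528, 1), (2031, 1893, 0), (560, 2559, 0), (3136, 784,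 1), (3711, 3999, 1), (304, 1983, 0), (3807, 1983, 1), (1887, 3546, 0), (2538, 2682, 1), (3690, 2970, 1), (544, 2176, 1), (3200, 1792, 0), (288, 2112, 1), (2240, 560, 1), (1152, 3136, 0), (3738, 3807, 0), (1962, 2538, 1), (800, 3690, 0)]

/-- the set -/
def maskPt : ℕ := 0x8000040000200000040000208000000000208000040000000000000000000001040000208000000000208000040000008000040000200000000000000000000100208000040000008000040000200000040000208000000000000000000000010000000000000001000000000000000100000000000000010001000100010000040000208000000000208000040000008000040000200000000000000000000100208000040000008000040000200000040000208000000000000000000000018000040000200000040000208000000000208000040000000000000000000001000000000000000100000000000000010000000000000001000100010001000000208000040000008000040000200000040000208000000000000000000000018000040000200000040000208000000000208000040000000000000000000001040000208000000000208000040000008000040000200000000000000000000100000000000000010000000000000001000000000000000100010001000100000000000000000001000000000000000100000000000000010001000100010000000000000000000100000000000000010000000000000001000100010001000000000000000000010000000000000001000000000000000100010001000100000001000100010000000100010001000000010001000100000000000000000000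

end CfsgLib.ThreeTrans.LargeFischer
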