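import Cfsg.Agent.Lib.ThreeTrans.LargeFischer.Orbits
import Cfsg.Agent.Lib.ThreeTrans.LargeFischer.PtData

/-!
The stabiliser of a vector of the small class normalises no elementary subgroup of order more than four
(owner: helper28).
-/

set_option autoImplicit false
set_option maxRecDepth 100000
set_option maxHeartbeats 1000000
set_option Elab.async false

namespace CfsgLib.ThreeTrans.LargeFischer

open Matrix Cfsg Equiv
open CfsgLib.Recog.SporBound.Fi22U6 (F4)
open CfsgLib.Sporadic.U43Triple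

/-- The vectors of the small class orthogonal to the root and outside its line. -/
def PtA (v : V6) : Prop := Om 1 v ∧ hf v rootA = 0 ∧ ∀ a : F4, v ≠ a • rootA

instance : DecidablePred PtA := fun v =>
  decidable_of_iff (Om 1 v ∧ (∑ i, v i * cj (rootA i)) = 0 ∧ ∀ a : F4, v ≠ a • rootA) (by rw [PtA, hf_eq])

/-- The same on codes. -/
def kindPt (n : ℕ) : Bool := decide (PtA (vec6 n))

theorem ptKind0 : maskOf (fun i => kindPt (512 * 0 + i)) 512 = Nat.shiftRight maskPt (512 * 0) % 2 ^ 512 := by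
  decide +kernel

theorem ptKind1 : maskOf (fun i => kindPt (512 * 1 + i)) 512 = Nat.shiftRight maskPt (512 * 1) % 2 ^ 512 := by
  decide +kernel

theorem ptKind2 : maskOf (fun i => kindPt (512 * 2 + i)) 512 = Nat.shiftRight maskPt (512 * 2) % 2 ^ 512 := by
  decide +kernel

theorem ptKind3 : maskOf (fun i => kindPt (512 * 3 + i)) 512 = Nat.shiftRight maskPt (512 * 3) % 2 ^ 512 := by
  decide +kernel

theorem ptKind4 : maskOf (fun i => kindPt (512 * 4 + i)) 512 = Nat.shiftRight maskPt (512 * 4) % 2 ^ 512 := by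
  decide +kernel

theorem ptKind5 : maskOf (fun i => kindPt (512 * 5 + i)) 512 = Nat.shiftRight maskPt (512 * 5) % 2 ^ 512 := by
  decide +kernel

theorem ptKind6 : maskOf (fun i => kindPt (512 * 6 + i)) 512 = Nat.shiftRight maskPt (512 * 6) % 2 ^ 512 := by
  decide +kernel

theorem ptKind7 : maskOf (fun i => kindPt (512 * 7 + i)) 512 = Nat.shiftRight maskPt (512 * 7) % 2 ^ 512 := by
  decide +kernel

theorem pt_mask {n : ℕ} (h : n < 4096) : maskPt.testBit n = kindPt n := by
  obtain ⟨k, i, hi, rfl⟩ : ∃ k i, i < 512 ∧ n = 512 * k + i :=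
    ⟨n / 512, n % 512, Nat.mod_lt _ (by norm_num), (Nat.div_add_mod n 512).symm⟩
  have hk : k < 8 := by omega
  interval_cases k
  · exact testBit_piece (o := 512 * 0) ptKind0 i hi
  · exact testBit_piece (o := 512 * 1) ptKind1 i hi
  · exact testBit_piece (o := 512 * 2) ptKind2 i hi
  · exact testBit_piece (o := 512 * 3) ptKind3 i hi
  · exact testBit_piece (o := 512 * 4) ptKind4 i hi
  · exact testBit_piece (o := 512 * 5) ptKind5 i hi
  · exact testBit_piece (o := 512 * 6) ptKind6 i hi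
  · exact testBit_piece (o := 512 * 7) ptKind7 i hi

theorem pt_count : Nat.card {v : V6 // PtA v} = 135 := by
  rw [Nat.card_eq_fintype_card, Fintype.card_subtype]
  exact card_class (m := maskPt) (fun v => by rw [pt_mask (code_vec v).1, kindPt, (code_vec v).2, decide_eq_true_eq])
    (by decide +kernel)

/-- Two elements fixing the root. -/
def stabLit (k : Fin 2) : Mat := if k = 0 then genLit 3 * genLit 0 else genLit 1 * genLit 2

/-- The same elements. -/
def stabGen (k : Fin 2) : G :=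
  if k = 0 then genK (3 : Fin 4) * genK (0 : Fin 4) else genK (1 : Fin 4) * genK (2 : Fin 4)

theorem mat_stabGen (k : Fin 2) : mat (stabGen k) = stabLit k := by
  rw [stabGen, stabLit]
  split_ifs <;> rw [mat_mul, mat_gen, mat_gen]

theorem stabLit_root : ∀ k, stabLit k *ᵥ rootA = rootA := by decide +kernel

theorem stabGen_mem (k : Fin 2) : stabGen k ∈ triple := by
  rw [stabGen]
  split_ifs <;> exact mul_mem (gen_mem _) (gen_mem _)

/-- Running the tree. -/
def runPt : List (ℕ × ℕ × Fin 2) → ℕ → Option ℕ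
  | [], m => some m
  | (y, x, k) :: t, m =>
    if Nat.testBit m x && Nat.ble (Nat.succ y) 4096 && Nat.beq (code (stabLit k *ᵥ vec6 x)) y then
      runPt t (Nat.lor m (2 ^ y))
    else none

theorem runPt_eq : runPt treePt (2 ^ 80) = some maskPt := by decide +kernel

theorem reachPt {S : Set V6} (hS : ∀ k, ∀ v ∈ S, stabLit k *ᵥ v ∈ S) (l : List (ℕ × ℕ × Fin 2)) :
    ∀ m m', runPt l m = some m' → (∀ x, m.testBit x = true → vec6 x ∈ S) →
    ∀ x, m'.testBit x = true → vec6 x ∈ S := by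
  induction l with
  | nil => intro m m' h hm; simp only [runPt, Option.some.injEq] at h; exact h ▸ hm
  | cons a t ih =>
    obtain ⟨y, x, k⟩ := a
    intro m m' h hm
    rw [runPt] at h
    split_ifs at h with hc
    simp only [Bool.and_eq_true, Nat.ble_eq, Nat.beq_eq] at hc
    refine ih _ _ h fun w hw => ?_
    rw [show Nat.lor m (2 ^ y) = m ||| 2 ^ y from rfl, Nat.testBit_or, Bool.or_eq_true] at hw
    rcases hw with hw | hw
    · exact hm w hw
    · rw [Nat.testBit_two_pow, decide_eq_true_eq] at hw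
      rw [← hw, ← hc.2, (code_vec _).2]
      exact hS k _ (hm x hc.1.1)

theorem pt_closed {g : G} (hg : g ∈ triple) (hr : mat g *ᵥ rootA = rootA) {v : V6} (hv : PtA v) :
    PtA (mat g *ᵥ v) := by
  refine ⟨(om_iff hg v).2 hv.1, ?_, fun a e => hv.2.2 a ?_⟩
  · rw [← hr, hf_mulVec (star_mul_self g)]; exact hv.2.1
  · have : mat g *ᵥ v = mat g *ᵥ (a • rootA) := by rw [Matrix.mulVec_smul, hr, e]
    calc v = mat g⁻¹ *ᵥ (mat g *ᵥ v) := by rw [Matrix.mulVec_mulVec, ← mat_mul, inv_mul_cancel, mat_one, Matrix.one_mulVec]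
      _ = a • rootA := by rw [this, Matrix.mulVec_mulVec, ← mat_mul, inv_mul_cancel, mat_one, Matrix.one_mulVec]

/-- An elementary subgroup of the stabiliser invariant under it has order at most four. -/
theorem card_le_four (K : Subgroup G) (hK : K ≤ triple) (hsq : ∀ x ∈ K, x * x = 1)
    (hfix : ∀ x ∈ K, mat x *ᵥ rootA = rootA)
    (hnorm : ∀ t ∈ triple, mat t *ᵥ rootA = rootA → ∀ x ∈ K, t * x * t⁻¹ ∈ K) : Nat.card ↥K ≤ 4 := by
  haveI : Fact (Nat.Prime 2) := ⟨Nat.prime_two⟩
  letI : MulAction ↥K {v : V6 // PtA v} :=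
    { smul := fun x v => ⟨mat x.1 *ᵥ v.1, pt_closed (hK x.2) (hfix x.1 x.2) v.2⟩
      one_smul := fun v => Subtype.ext (by
        show mat (1 : G) *ᵥ v.1 = v.1
        rw [mat_one, Matrix.one_mulVec])
      mul_smul := fun x y v => Subtype.ext (by
        show mat (x.1 * y.1) *ᵥ v.1 = mat x.1 *ᵥ (mat y.1 *ᵥ v.1)
        rw [mat_mul, Matrix.mulVec_mulVec]) }
  have hp : IsPGroup 2 ↥K := fun x => ⟨1, by rw [pow_one, pow_two]; exact Subtype.ext (hsq x.1 x.2)⟩
  obtain ⟨v₀, hv₀⟩ := hp.nonempty_fixed_point_of_prime_not_dvd_card {v : V6 // PtA v} (by rw [pt_count]; norm_num)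
  let S : Set V6 := {v | ∀ x ∈ K, mat x *ᵥ v = v}
  have hSt : ∀ t ∈ triple, mat t *ᵥ rootA = rootA → ∀ v ∈ S, mat t *ᵥ v ∈ S := by
    intro t ht hr v hv x hx
    have hr' : mat t⁻¹ *ᵥ rootA = rootA := by
      nth_rw 1 [← hr]
      rw [Matrix.mulVec_mulVec, ← mat_mul, inv_mul_cancel, mat_one, Matrix.one_mulVec]
    have h1 := hv _ (hnorm t⁻¹ (inv_mem ht) hr' x hx)
    rw [inv_inv] at h1
    have h2 := congrArg (fun w => mat t *ᵥ w) h1
    simp only [Matrix.mulVec_mulVec, ← mat_mul] at h2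
    rwa [show t * (t⁻¹ * x * t) = x * t by group, mat_mul, ← Matrix.mulVec_mulVec] at h2
  have hSinv : ∀ (k : Fin 2), ∀ v ∈ S, stabLit k *ᵥ v ∈ S := fun k v hv => by
    rw [← mat_stabGen]; exact hSt _ (stabGen_mem k) (by rw [mat_stabGen, stabLit_root]) v hv
  -- the root of the tree is fixed
  have hroot : vec6 80 ∈ S := by
    have hc0 := code_vec v₀.1
    let U : Set V6 := {w | w ∈ S → vec6 80 ∈ S}
    have hU : ∀ k, ∀ w ∈ U, stabLit k *ᵥ w ∈ U := by
      intro k w hw hks
      refine hw ?_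
      have h := hSt _ (inv_mem (stabGen_mem k)) (by
        nth_rw 1 [← stabLit_root k]
        rw [← mat_stabGen, Matrix.mulVec_mulVec, ← mat_mul, inv_mul_cancel, mat_one, Matrix.one_mulVec]) _ hks
      rwa [← mat_stabGen, Matrix.mulVec_mulVec, ← mat_mul, inv_mul_cancel, mat_one, Matrix.one_mulVec] at h
    have := reachPt hU treePt _ _ runPt_eq (fun x hx => by
      rw [Nat.testBit_two_pow, decide_eq_true_eq] at hx
      subst hx
      exact id) (code v₀.1) (by rw [pt_mask hc0.1, kindPt, hc0.2]; exact decide_eq_true v₀.2)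
    rw [hc0.2] at this
    exact this fun x hx => congrArg Subtype.val (hv₀ ⟨x, hx⟩)
  have hall : ∀ v, PtA v → v ∈ S := fun v hv => by
    have := reachPt hSinv treePt _ _ runPt_eq (fun x hx => by
      rw [Nat.testBit_two_pow, decide_eq_true_eq] at hx
      exact hx ▸ hroot) (code v) (by rw [pt_mask (code_vec v).1, kindPt, (code_vec v).2]; exact decide_eq_true hv)
    rwa [(code_vec v).2] at this
  have hpts : PtA ![0, 0, 1, 1, 0, 0] ∧ PtA ![0, 0, 1, F4.om, 0, 0] ∧ PtA ![0, 0, 0, 0, 1, 1] ∧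
      PtA ![0, 0, 0, 0, 1, F4.om] := by decide +kernel
  -- the elements are determined by one entry
  have hdet : ∀ x ∈ K, ∀ y ∈ K, mat x 0 0 = mat y 0 0 → x = y := by
    intro x hx y hy e
    refine mat_injective (Matrix.toLin'.injective (LinearMap.ext fun v => ?_))
    simp only [Matrix.toLin'_apply]
    have hS : ∀ w ∈ S, mat x *ᵥ w = mat y *ᵥ w := fun w hw => by rw [hw x hx, hw y hy]
    have hr : mat x *ᵥ rootA = mat y *ᵥ rootA := by rw [hfix x hx, hfix y hy]
    have hcomb : ∀ {w}, (∃ a b c d e' : F4, w = a • ![0, 0, 1, 1, 0, 0] + b • ![0, 0, 1, F4.om, 0, 0] +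
        c • ![0, 0, 0, 0, 1, 1] + d • ![0, 0, 0, 0, 1, F4.om] + e' • rootA) → mat x *ᵥ w = mat y *ᵥ w := by
      rintro w ⟨a, b, c, d, e', rfl⟩
      simp only [Matrix.mulVec_add, Matrix.mulVec_smul]
      rw [hS _ (hall _ hpts.1), hS _ (hall _ hpts.2.1), hS _ (hall _ hpts.2.2.1), hS _ (hall _ hpts.2.2.2), hr]
    have hbasis : ∀ i : Fin 6, i ≠ 0 → i ≠ 1 → ∃ a b c d e' : F4, (Pi.single i 1 : V6) =
        a • ![0, 0, 1, 1, 0, 0] + b • ![0, 0, 1, F4.om, 0, 0] + c • ![0, 0, 0, 0, 1, 1] +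
        d • ![0, 0, 0, 0, 1, F4.om] + e' • rootA := by
      intro i h0 h1
      have hd : ∀ i : Fin 6, i ≠ 0 → i ≠ 1 → ∃ a b c d : F4, ∀ j, (if j = i then (1 : F4) else 0) =
          (a • ![0, 0, 1, 1, 0, 0] + b • ![0, 0, 1, F4.om, 0, 0] + c • ![0, 0, 0, 0, 1, 1] +
          d • ![0, 0, 0, 0, 1, F4.om] : V6) j := by decide +kernel
      obtain ⟨a, b, c, d, e1⟩ := hd i h0 h1
      exact ⟨a, b, c, d, 0, funext fun j => by rw [Pi.single_apply, e1 j, zero_smul, add_zero]⟩
    have hcol : ∀ i : Fin 6, i ≠ 0 → i ≠ 1 → ∀ z ∈ K, mat z *ᵥ Pi.single i 1 = Pi.single i 1 := by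
      intro i h0 h1 z hz
      obtain ⟨a, b, c, d, e', e1⟩ := hbasis i h0 h1
      rw [e1]
      simp only [Matrix.mulVec_add, Matrix.mulVec_smul]
      rw [hall _ hpts.1 z hz, hall _ hpts.2.1 z hz, hall _ hpts.2.2.1 z hz, hall _ hpts.2.2.2 z hz, hfix z hz]
    -- the first column
    have hfirst : ∀ z ∈ K, (∀ i : Fin 6, i ≠ 0 → i ≠ 1 → mat z i 0 = 0) ∧ mat z 0 0 + mat z 1 0 = 1 := by
      intro z hz
      have hu := hf_mulVec (star_mul_self z)
      refine ⟨fun i h0 h1 => ?_, ?_⟩
      · have := hu (Pi.single 0 1) (Pi.single i 1)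
        rw [hcol i h0 h1 z hz, hf_eq, hf_eq] at this
        simp [Pi.single_apply, cj, h0, Ne.symm h0] at this
        exact this
      · have := hu (Pi.single 0 1) rootA
        rw [hfix z hz, hf_eq, hf_eq] at this
        simp [Pi.single_apply, Fin.sum_univ_six, rootA, cj] at this
        exact this
    have h0 : mat x *ᵥ Pi.single 0 1 = mat y *ᵥ Pi.single 0 1 := by
      simp only [Matrix.mulVec_single_one]
      funext i
      show mat x i 0 = mat y i 0
      by_cases hi0 : i = 0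
      · subst hi0; exact e
      by_cases hi1 : i = 1
      · subst hi1
        have := (hfirst x hx).2.trans (hfirst y hy).2.symm
        rw [e] at this
        exact add_left_cancel this
      rw [(hfirst x hx).1 i hi0 hi1, (hfirst y hy).1 i hi0 hi1]
    have h1 : mat x *ᵥ Pi.single 1 1 = mat y *ᵥ Pi.single 1 1 := by
      have e1 : (Pi.single 1 1 : V6) = rootA + Pi.single 0 1 := by decide +kernel
      rw [e1, Matrix.mulVec_add, Matrix.mulVec_add, hr, h0]
    have hlin : v = ∑ i, v i • (Pi.single i 1 : V6) := by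
      funext j; simp [Pi.single_apply]
    rw [hlin, Matrix.mulVec_sum, Matrix.mulVec_sum]
    refine Finset.sum_congr rfl fun i _ => ?_
    rw [Matrix.mulVec_smul, Matrix.mulVec_smul]
    by_cases hi0 : i = 0
    · rw [hi0, h0]
    by_cases hi1 : i = 1
    · rw [hi1, h1]
    rw [hcol i hi0 hi1 x hx, hcol i hi0 hi1 y hy]
  have := Nat.card_le_card_of_injective (fun x : ↥K => mat x.1 0 0) fun x y e =>
    Subtype.ext (hdet x.1 x.2 y.1 y.2 e)
  rwa [Nat.card_eq_fintype_card (α := F4), F4.card] at this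

end CfsgLib.ThreeTrans.LargeFischer
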