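import Cfsg.Agent.Lib.ThreeTrans.LargeFischer.Classes
import Cfsg.Agent.Lib.ThreeTrans.LargeFischer.StabA
import Cfsg.Agent.Lib.ThreeTrans.LargePair

/-!
A conjugate of the central involution in `Q` lies in the large class (owner: helper28).
-/

set_option autoImplicit false
set_option maxHeartbeats 1000000
set_option maxRecDepth 100000

namespace CfsgLib.ThreeTrans.LargeFischer

open Matrix Cfsg
open CfsgLib.Recog.SporBound.Fi22U6 (F4)
open CfsgLib.Sporadic.U43Triple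

variable {G : Type*} [Group G] [Finite G]

theorem card_inf_le {z x : G} {Q P : Subgroup G} (h : LargePair z x Q P) (hcard : Nat.card Q = 2 ^ 13) :
    Nat.card ↥(Q ⊓ P) ≤ 2 ^ 7 := by
  haveI : Fact (Nat.Prime 2) := ⟨Nat.prime_two⟩
  set A := (Q ⊓ P).subgroupOf Q with hA
  have hcA : Nat.card ↥A = Nat.card ↥(Q ⊓ P) :=
    Nat.card_congr (Subgroup.subgroupOfEquivOfLe inf_le_left).toEquiv
  have hZ : Subgroup.center Q ≤ A := fun q hq => by
    rw [h.hq.center_mem_iff] at hq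
    exact Subgroup.mem_subgroupOf.2 ⟨q.2, Subgroup.zpowers_le.2 h.hzP hq⟩
  have hab : A ≤ Subgroup.centralizer (A : Set ↥Q) := fun a ha => Subgroup.mem_centralizer_iff.2 fun b hb =>
    Subtype.ext (by
      have := h.inf_elementary.1.1.comm (⟨(b : G), Subgroup.mem_subgroupOf.1 hb⟩ : ↥(Q ⊓ P))
        ⟨(a : G), Subgroup.mem_subgroupOf.1 ha⟩
      simpa using congrArg Subtype.val this)
  have h1 := CfsgLib.PGroups.IsExtraspecial.card_centralizer_mul_card h.hq.hE hZ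
  have h2 : Nat.card ↥A ≤ Nat.card ↥(Subgroup.centralizer (A : Set ↥Q)) :=
    Nat.card_le_card_of_injective _ (Subgroup.inclusion_injective hab)
  rw [hcard] at h1
  by_contra hc
  have h3 : (2 ^ 7 + 1) * (2 ^ 7 + 1) ≤ Nat.card ↥(Subgroup.centralizer (A : Set ↥Q)) * Nat.card ↥A :=
    Nat.mul_le_mul (by omega) (by omega)
  omega

theorem card_right {z x : G} {Q P : Subgroup G} (h : LargePair z x Q P) (hcard : Nat.card P = 2 ^ 13) :
    Nat.card ↥(P ⊓ Subgroup.centralizer ({z} : Set G)) = 2 ^ 12 := by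
  obtain ⟨-, -, r, hr, -, hrz⟩ := h.exists_moves
  have hidx : ((P ⊓ Subgroup.centralizer ({z} : Set G)).subgroupOf P).index = 2 := by
    rw [Subgroup.index_eq_two_iff]
    refine ⟨⟨r, hr⟩, fun b => ?_⟩
    rw [Subgroup.mem_subgroupOf, Subgroup.mem_subgroupOf, Subgroup.mem_inf, Subgroup.mem_inf]
    simp only [SetLike.coe_mem, true_and, Subgroup.coe_mul, mem_centralizer_singleton_iff']
    have hne : x * z ≠ z := fun e => h.hp.z_ne_one (mul_eq_right.1 e)
    rcases h.hp.conj_eq_or b.2 h.hzP with e | e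
    · refine Or.inr ⟨mul_inv_eq_iff_eq_mul.1 e, fun hc => hne ?_⟩
      have : (b : G) * r * z * ((b : G) * r)⁻¹ = z := mul_inv_eq_iff_eq_mul.2 hc.2
      rw [show (b : G) * r * z * ((b : G) * r)⁻¹ = (b : G) * (r * z * r⁻¹) * (b : G)⁻¹ by group, hrz, ← conj_mul,
        e, (h.hp.commute_z b.2).eq, mul_inv_cancel_right] at this
      exact this
    · refine Or.inl ⟨⟨P.mul_mem b.2 hr, ?_⟩, fun hc => hne ?_⟩
      · refine mul_inv_eq_iff_eq_mul.1 ?_
        rw [show (b : G) * r * z * ((b : G) * r)⁻¹ = (b : G) * (r * z * r⁻¹) * (b : G)⁻¹ by group, hrz, ← conj_mul,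
          e, (h.hp.commute_z b.2).eq, mul_inv_cancel_right, ← mul_assoc, h.hp.mul_self_z, one_mul]
      · rw [← e]; exact mul_inv_eq_iff_eq_mul.2 hc
  have h1 := ((P ⊓ Subgroup.centralizer ({z} : Set G)).subgroupOf P).card_mul_index
  rw [hidx, Nat.card_congr (Subgroup.subgroupOfEquivOfLe inf_le_left).toEquiv, hcard] at h1
  omega

theorem mulVec_ext {g g' : CfsgLib.Sporadic.U43Triple.G} (h : ∀ v, mat g *ᵥ v = mat g' *ᵥ v) : g = g' :=
  mat_injective (Matrix.toLin'.injective (LinearMap.ext fun v => by simpa using h v))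

namespace Coord

variable {z : G} {Q : Subgroup G} (F : Coord z Q)

/-- The part of the image of a subgroup inside the triple cover. -/
def tripleImage (H : Subgroup ↥(Subgroup.centralizer ({z} : Set G))) :
    Subgroup CfsgLib.Sporadic.U43Triple.G where
  carrier := {t | t ∈ triple ∧ ∃ e ∈ H, ∀ v, F.act e v = mat t *ᵥ v}
  one_mem' := ⟨one_mem _, 1, one_mem _, fun v => by
    rw [_root_.map_one, mat_one, Matrix.one_mulVec]; rfl⟩
  mul_mem' := by
    rintro s t ⟨hs, e, he, hse⟩ ⟨ht, e', he', hte⟩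
    refine ⟨mul_mem hs ht, e * e', mul_mem he he', fun v => ?_⟩
    rw [_root_.map_mul, Equiv.Perm.mul_apply, hte, hse, mat_mul, Matrix.mulVec_mulVec]
  inv_mem' := by
    rintro s ⟨hs, e, he, hse⟩
    refine ⟨inv_mem hs, e⁻¹, inv_mem he, fun v => ?_⟩
    rw [map_inv, Equiv.Perm.inv_eq_iff_eq, hse, Matrix.mulVec_mulVec, ← mat_mul, mul_inv_cancel, mat_one,
      Matrix.one_mulVec]

theorem mem_tripleImage {H : Subgroup ↥(Subgroup.centralizer ({z} : Set G))} {t : CfsgLib.Sporadic.U43Triple.G} :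
    t ∈ F.tripleImage H ↔ t ∈ triple ∧ ∃ e ∈ H, ∀ v, F.act e v = mat t *ᵥ v := Iff.rfl

theorem exists_fixing {a : ↥Q} (ha : F.ψ a ≠ 0) {t : CfsgLib.Sporadic.U43Triple.G} (ht : t ∈ triple)
    (hta : mat t *ᵥ F.ψ a = F.ψ a) :
    ∃ c : ↥(Subgroup.centralizer ({z} : Set G)), Commute (c : G) a ∧ ∀ v, F.act c v = mat t *ᵥ v := by
  obtain ⟨c, -, hc⟩ := F.lift t ht
  obtain ⟨d, hd, hd'⟩ := F.conj_of_act ha c (by rw [hc, hta])
  exact ⟨d, mul_inv_eq_iff_eq_mul.1 hd, fun v => by rw [hd', hc]⟩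

theorem half_le_tripleImage (H : Subgroup ↥(Subgroup.centralizer ({z} : Set G))) :
    Nat.card ↥(H.map F.act) ≤ 2 * Nat.card ↥(F.tripleImage H) := by
  have h1 : Nat.card ↥((H ⊓ F.M).map F.act) ≤ Nat.card ↥(F.tripleImage H) := by
    have hex : ∀ p : ↥((H ⊓ F.M).map F.act), ∃ t : ↥(F.tripleImage H), ∀ v, (p : Equiv.Perm V6) v = mat t.1 *ᵥ v := by
      rintro ⟨_, e, ⟨he, hm⟩, rfl⟩
      obtain ⟨t, ht, hte⟩ := F.act_M e hm
      exact ⟨⟨t, ht, e, he, hte⟩, hte⟩
    choose f hf using hex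
    exact Nat.card_le_card_of_injective f fun p q e => Subtype.ext (Equiv.ext fun v => by rw [hf, hf, e])
  classical
  set A := (H ⊓ F.M).map F.act with hA
  have hs : ∃ s ∈ H, ∀ e ∈ H, e ∈ F.M ∨ s⁻¹ * e ∈ F.M := by
    by_cases hle : H ≤ F.M
    · exact ⟨1, one_mem _, fun e he => Or.inl (hle he)⟩
    obtain ⟨s, hs, hsM⟩ := SetLike.not_le_iff_exists.1 hle
    refine ⟨s, hs, fun e _ => (em (e ∈ F.M)).imp id fun he => ?_⟩
    rw [Subgroup.mul_mem_iff_of_index_two F.index, inv_mem_iff]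
    exact iff_of_false hsM he
  obtain ⟨s, hs, hsM⟩ := hs
  let f : Fin 2 × ↥A → ↥(H.map F.act) := fun p =>
    ⟨(if p.1 = 0 then 1 else F.act s) * p.2, mul_mem (by
      split_ifs
      · exact one_mem _
      · exact ⟨s, hs, rfl⟩) (Subgroup.map_mono inf_le_left p.2.2)⟩
  have hf : Function.Surjective f := by
    rintro ⟨_, e, he, rfl⟩
    rcases hsM e he with h | h
    · exact ⟨(0, ⟨F.act e, e, ⟨he, h⟩, rfl⟩), Subtype.ext (by simp [f])⟩
    · exact ⟨(1, ⟨F.act (s⁻¹ * e), s⁻¹ * e, ⟨H.mul_mem (H.inv_mem hs) he, h⟩, rfl⟩),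
        Subtype.ext (by simp [f, _root_.map_mul])⟩
  have h2 := Nat.card_le_card_of_surjective f hf
  rw [Nat.card_prod, Nat.card_fin] at h2
  omega

theorem root_absurd {g : G} (hx : g * z * g⁻¹ ∈ Q) (hne : g * z * g⁻¹ ≠ z) :
    F.ψ ⟨g * z * g⁻¹, hx⟩ ≠ rootA := by
  intro e
  set x := g * z * g⁻¹ with hxdef
  set P := Q.map (MulAut.conj g).toMonoidHom with hPdef
  have h : LargePair z x Q P := F.large.largePair (by rw [F.card]; norm_num) hx hne
  have hP : Nat.card P = 2 ^ 13 := by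
    rw [← F.card]
    exact (Nat.card_congr (Subgroup.equivMapOfInjective Q _ (MulAut.conj g).injective).toEquiv).symm
  set E := P ⊓ Subgroup.centralizer ({z} : Set G) with hEdef
  set H := E.subgroupOf (Subgroup.centralizer ({z} : Set G)) with hHdef
  have hE : ∀ e : ↥(Subgroup.centralizer ({z} : Set G)), e ∈ H → (e : G) ∈ P ∧ Commute (e : G) z :=
    fun e he => h.mem_right.1 (Subgroup.mem_subgroupOf.1 he)
  -- the image is large
  have hker : Nat.card ↥(F.act.comp H.subtype).ker ≤ 2 ^ 7 := by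
    refine le_trans ?_ (card_inf_le h F.card)
    refine Nat.card_le_card_of_injective (fun k => (⟨((k.1.1 : ↥(Subgroup.centralizer ({z} : Set G))) : G),
      (F.act_eq_one _).1 k.2, (hE _ k.1.2).1⟩ : ↥(Q ⊓ P))) fun k l ekl => ?_
    exact Subtype.ext (Subtype.ext (Subtype.ext (congrArg (fun w : ↥(Q ⊓ P) => (w : G)) ekl)))
  have h1 : Nat.card ↥H = Nat.card ↥(H.map F.act) * Nat.card ↥(F.act.comp H.subtype).ker := by
    rw [Subgroup.card_eq_card_quotient_mul_card_subgroup (F.act.comp H.subtype).ker,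
      Nat.card_congr (QuotientGroup.quotientKerEquivRange (F.act.comp H.subtype)).toEquiv, MonoidHom.range_comp,
      Subgroup.range_subtype]
  rw [Nat.card_congr (Subgroup.subgroupOfEquivOfLe inf_le_right).toEquiv, card_right h hP] at h1
  have h2 : 32 ≤ Nat.card ↥(H.map F.act) := by
    by_contra hc
    have := Nat.mul_le_mul (show Nat.card ↥(H.map F.act) ≤ 31 by omega) hker
    omega
  have h3 := F.half_le_tripleImage H
  -- the image is small
  have hfix : ∀ t ∈ F.tripleImage H, mat t *ᵥ rootA = rootA := by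
    rintro t ⟨-, c, hc, hct⟩
    rw [← hct, ← e]
    refine F.act_conj c ⟨x, hx⟩ ⟨x, hx⟩ ?_
    show x = (c : G) * x * (c : G)⁻¹
    rw [(h.hp.commute_z (hE c hc).1).eq, mul_inv_cancel_right]
  have hsq : ∀ t ∈ F.tripleImage H, t * t = 1 := by
    rintro t ⟨-, c, hc, hct⟩
    have hcore := h.right_le_core (Subgroup.mem_subgroupOf.1 hc)
    have h4 := (h.core_mod_inf hcore hcore).2.1
    refine mulVec_ext fun v => ?_
    rw [mat_mul, ← Matrix.mulVec_mulVec, ← hct, ← hct, ← Equiv.Perm.mul_apply, ← _root_.map_mul,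
      (F.act_eq_one (c * c)).2 (by rw [Subgroup.coe_mul, ← pow_two]; exact h4), mat_one, Matrix.one_mulVec]
    rfl
  have h5 := card_le_four (F.tripleImage H) (fun t ht => ht.1) hsq hfix fun t ht hr s hs => by
    obtain ⟨hs', c, hc, hcs⟩ := hs
    obtain ⟨d, hd, hdt⟩ := F.exists_fixing (a := ⟨x, hx⟩) (by rw [e]; exact roots_ok.2.2.2.2.1.1) ht (by rw [e]; exact hr)
    refine ⟨mul_mem (mul_mem ht hs') (inv_mem ht), d * c * d⁻¹, ?_, fun v => ?_⟩
    · rw [hHdef, Subgroup.mem_subgroupOf, hEdef]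
      refine h.mem_right.2 ⟨?_, mem_centralizer_singleton_iff'.1 (d * c * d⁻¹).2⟩
      exact (h.centralizer_conj ⟨mem_centralizer_singleton_iff'.1 d.2, hd⟩).2 (hE c hc).1
    · have hdi : F.act d⁻¹ v = mat t⁻¹ *ᵥ v := by
        rw [map_inv, Equiv.Perm.inv_eq_iff_eq, hdt, Matrix.mulVec_mulVec, ← mat_mul, mul_inv_cancel, mat_one,
          Matrix.one_mulVec]
      rw [_root_.map_mul, _root_.map_mul, Equiv.Perm.mul_apply, Equiv.Perm.mul_apply, hdi, hcs, hdt, mat_mul,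
        mat_mul, Matrix.mulVec_mulVec, Matrix.mulVec_mulVec, mul_assoc]
  omega

theorem not_om {g : G} (hx : g * z * g⁻¹ ∈ Q) (hne : g * z * g⁻¹ ≠ z) : ¬ Om 1 (F.ψ ⟨g * z * g⁻¹, hx⟩) := by
  intro hO
  obtain ⟨a, ha⟩ := F.surj rootA
  obtain ⟨-, -, hA, -, hiA, -⟩ := roots_ok
  rw [← ha] at hA hiA
  have h2 : orderOf (g * z * g⁻¹) = 2 :=
    (orderOf_injective (MulAut.conj g).toMonoidHom (MulAut.conj g).injective z).trans F.large.hz
  obtain ⟨d, hd⟩ := F.conj_of_om (F.isoV_of_invol (x := ⟨g * z * g⁻¹, hx⟩) h2 hne) hiA (iff_of_true hO hA)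
  have e : (d : G) * g * z * ((d : G) * g)⁻¹ = a := by
    rw [show (d : G) * g * z * ((d : G) * g)⁻¹ = (d : G) * (g * z * g⁻¹) * (d : G)⁻¹ by group]; exact hd
  obtain ⟨-, hne'⟩ := F.invol_of_isoV hiA
  refine F.root_absurd (g := (d : G) * g) (by rw [e]; exact a.2) (by rw [e]; exact hne') ?_
  exact Eq.trans (congrArg F.ψ (Subtype.ext e)) ha

end Coord

end CfsgLib.ThreeTrans.LargeFischer
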