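import Cfsg.Agent.Lib.ThreeTrans.LargeFischer.Coord

/-!
The two classes of involutions of `Q` other than the central one (owner: helper28).
-/

set_option autoImplicit false
set_option maxHeartbeats 1000000
set_option maxRecDepth 100000

namespace CfsgLib.ThreeTrans.LargeFischer

open Matrix Cfsg
open CfsgLib.Recog.SporBound.Fi22U6 (F4)
open CfsgLib.Sporadic.U43Triple

theorem outV_om : ∀ p v, Om 1 (outV p v) ↔ Om 1 v := by decide +kernel

theorem outV_roots : ∀ p, outV p rootA = rootA ∧ outV p rootB = rootB := by decide +kernel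

namespace Coord

variable {G : Type*} [Group G] {z : G} {Q : Subgroup G} (F : Coord z Q)

theorem map_one : F.ψ 1 = 0 := (F.eq_zero 1).2 (one_mem _)

theorem om_act (c : ↥(Subgroup.centralizer ({z} : Set G))) (v : V6) : Om 1 (F.act c v) ↔ Om 1 v := by
  obtain ⟨t, ht, p, e⟩ := F.form c
  rw [e, om_iff ht, outV_om]

theorem not_mem_zpowers {x : ↥Q} (hx : F.ψ x ≠ 0) : (x : G) ∉ Subgroup.zpowers z :=
  fun h => hx ((F.eq_zero x).2 h)

theorem isoV_iff {x : ↥Q} : IsoV (F.ψ x) ↔ ((x : G) ∉ Subgroup.zpowers z ∧ (x : G) * x = 1) := by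
  rw [iso_iff, F.sq_eq_one, Ne, F.eq_zero]

theorem isoV_of_invol {x : ↥Q} (h2 : orderOf (x : G) = 2) (hz : (x : G) ≠ z) : IsoV (F.ψ x) := by
  rw [F.isoV_iff]
  refine ⟨fun h => ?_, ?_⟩
  · rcases F.large.eq_or h with e | e
    · rw [e, orderOf_one] at h2
      omega
    · exact hz e
  · rw [← pow_two, ← h2, pow_orderOf_eq_one]

theorem invol_of_isoV {x : ↥Q} (hx : IsoV (F.ψ x)) : orderOf (x : G) = 2 ∧ (x : G) ≠ z := by
  haveI : Fact (Nat.Prime 2) := ⟨Nat.prime_two⟩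
  obtain ⟨h1, h2⟩ := F.isoV_iff.1 hx
  exact ⟨orderOf_eq_prime (by rw [pow_two, h2]) fun e => h1 (by rw [e]; exact one_mem _),
    fun e => h1 (by rw [e]; exact Subgroup.mem_zpowers z)⟩

theorem eq_or_of_eq {a b : ↥Q} (h : F.ψ a = F.ψ b) : (b : G) = a ∨ (b : G) = z * a := by
  have h1 : F.ψ (b * a⁻¹) = 0 := by
    rw [F.map_mul, ← h, ← F.map_mul, mul_inv_cancel, F.map_one]
  rcases F.large.eq_or ((F.eq_zero _).1 h1) with e | e
  · exact Or.inl (mul_inv_eq_one.1 e)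
  · exact Or.inr (mul_inv_eq_iff_eq_mul.1 e)

/-- An element of the centralizer maps one element of `Q` to another when it does so modulo the centre. -/
theorem conj_of_act {a b : ↥Q} (ha : F.ψ a ≠ 0) (c : ↥(Subgroup.centralizer ({z} : Set G)))
    (h : F.act c (F.ψ a) = F.ψ b) :
    ∃ d : ↥(Subgroup.centralizer ({z} : Set G)), (d : G) * a * (d : G)⁻¹ = b ∧ F.act d = F.act c := by
  let b' : ↥Q := ⟨(c : G) * a * (c : G)⁻¹, F.large.conj_mem (mem_centralizer_singleton_iff'.1 c.2) a.2⟩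
  have e : F.ψ b' = F.ψ b := (F.act_conj c a b' rfl).symm.trans h
  rcases F.eq_or_of_eq e with e1 | e1
  · exact ⟨c, e1.symm, rfl⟩
  · have hb : F.ψ b' ≠ 0 := fun e0 => ha ((F.act c).injective (by
      rw [F.act_conj c a b' rfl, e0, ← F.map_one,
        F.act_conj c 1 1 (by rw [Subgroup.coe_one, mul_one, mul_inv_cancel])]))
    obtain ⟨q, hq, eq⟩ := F.large.exists_move b'.2 (F.not_mem_zpowers hb)
    refine ⟨⟨q, F.large.le_centralizer hq⟩ * c, ?_, ?_⟩
    · show q * (c : G) * a * (q * (c : G))⁻¹ = b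
      rw [e1, show q * (c : G) * a * (q * (c : G))⁻¹ = q * ((c : G) * a * (c : G)⁻¹) * q⁻¹ by group]
      exact eq
    · rw [_root_.map_mul, (F.act_eq_one _).2 hq, one_mul]

theorem conj_of_om {a b : ↥Q} (ha : IsoV (F.ψ a)) (hb : IsoV (F.ψ b)) (h : Om 1 (F.ψ a) ↔ Om 1 (F.ψ b)) :
    ∃ d : ↥(Subgroup.centralizer ({z} : Set G)), (d : G) * a * (d : G)⁻¹ = b := by
  have key : ∀ r x y : V6, (∃ g ∈ triple, mat g *ᵥ r = x) → (∃ g ∈ triple, mat g *ᵥ r = y) →
      ∃ g ∈ triple, mat g *ᵥ x = y := by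
    rintro r x y ⟨g, hg, rfl⟩ ⟨k, hk, rfl⟩
    exact ⟨k * g⁻¹, mul_mem hk (inv_mem hg), by
      rw [Matrix.mulVec_mulVec, ← mat_mul, inv_mul_cancel_right]⟩
  obtain ⟨g, hg, e⟩ : ∃ g ∈ triple, mat g *ᵥ F.ψ a = F.ψ b := by
    by_cases hO : Om 1 (F.ψ a)
    · exact key rootA _ _ (orbitA ha hO) (orbitA hb (h.1 hO))
    · exact key rootB _ _ (orbitB ha hO) (orbitB hb fun h' => hO (h.2 h'))
  obtain ⟨c, -, hc⟩ := F.lift g hg
  obtain ⟨d, hd, -⟩ := F.conj_of_act ha.1 c (by rw [hc, e])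
  exact ⟨d, hd⟩

theorem om_conj {a b : ↥Q} (c : ↥(Subgroup.centralizer ({z} : Set G))) (h : (b : G) = (c : G) * a * (c : G)⁻¹) :
    Om 1 (F.ψ b) ↔ Om 1 (F.ψ a) := by rw [← F.act_conj c a b h, F.om_act]

end Coord

end CfsgLib.ThreeTrans.LargeFischer
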