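import Cfsg.Agent.Lib.ThreeTrans.LargeFischer.Orbits
import Cfsg.Agent.Lib.Sporadic.U43Triple.Classes

/-!
The linear and semilinear isometries normalising the triple cover (owner: helper28).
-/

set_option autoImplicit false
set_option maxRecDepth 100000
set_option maxHeartbeats 1000000

namespace CfsgLib.ThreeTrans.LargeFischer

open Matrix Cfsg Equiv
open CfsgLib.Recog.SporBound.Fi22U6 (F4)
open CfsgLib.Sporadic.U43Triple

/-- The odd transposition of the first two coordinates. -/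
def tauV (v : V6) : V6 := fun i => v (Equiv.swap (0 : Fin 6) 1 i)

/-- The conjugation of all coordinates. -/
def sigV (v : V6) : V6 := fun i => cj (v i)

/-- The four outer maps. -/
def outV (p : Bool × Bool) (v : V6) : V6 :=
  let w := if p.2 then tauV v else v
  if p.1 then sigV w else w

theorem sigV_sigV (v : V6) : sigV (sigV v) = v := funext fun i => cj_cj _

/-- The entrywise conjugate. -/
def cjMat (A : Mat) : Mat := Matrix.of fun i j => cj (A i j)

theorem sigV_mulVec (A : Mat) (v : V6) : sigV (A *ᵥ v) = cjMat A *ᵥ sigV v := cj_mulVec A v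

theorem pmat_mulVec (σ : Perm (Fin 6)) (v : V6) : pmat σ *ᵥ v = fun i => v (σ⁻¹ i) := by
  funext i
  rw [Matrix.mulVec, dotProduct, Finset.sum_eq_single (σ⁻¹ i)]
  · simp [pmat]
  · intro j _ hj
    simp [pmat, show i ≠ σ j from fun e => hj (by rw [e]; simp)]
  · simp

theorem tauV_eq (v : V6) : tauV v = mat sigElt *ᵥ v := by
  rw [sigElt, mat_permHom, pmat_mulVec]
  rfl

theorem cj_gen : cjMat (mat gDiag) = mat gDiag * mat gDiag ∧ cjMat (mat (permHom cycA)) = mat (permHom cycA) ∧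
    cjMat (mat (permHom cycFive)) = mat (permHom cycFive) ∧
    cjMat (genLit 3) = pmat (Equiv.swap (1 : Fin 6) 2 * Equiv.swap (4 : Fin 6) 5) * genLit 3 := by
  decide +kernel

theorem even_pair : Equiv.swap (1 : Fin 6) 2 * Equiv.swap (4 : Fin 6) 5 ∈ alternatingGroup (Fin 6) :=
  Equiv.Perm.mem_alternatingGroup.2 (by decide +kernel)

theorem cjMat_mul (A B : Mat) : cjMat (A * B) = cjMat A * cjMat B := by
  ext i j
  simp [cjMat, Matrix.mul_apply, cj_sum, cj_mul]

theorem cjMat_one : cjMat 1 = 1 := by decide +kernel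

theorem exists_cjElt {t : G} (ht : t ∈ triple) : ∃ t' ∈ triple, mat t' = cjMat (mat t) := by
  induction ht using Subgroup.closure_induction with
  | mem x hx =>
    obtain ⟨k, rfl⟩ := hx
    obtain ⟨h0, h1, h2, h3⟩ := cj_gen
    fin_cases k
    · exact ⟨gDiag * gDiag, mul_mem (gen_mem 0) (gen_mem 0), h0.symm⟩
    · exact ⟨_, gen_mem 1, h1.symm⟩
    · exact ⟨_, gen_mem 2, h2.symm⟩
    · refine ⟨permHom (Equiv.swap (1 : Fin 6) 2 * Equiv.swap (4 : Fin 6) 5) * genK 3,
        mul_mem (permHom_even even_pair) (gen_mem 3), ?_⟩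
      have e := mat_gen 3
      rw [mat_mul, mat_permHom]
      show _ * mat (genK (3 : Fin 4)) = cjMat (mat (genK (3 : Fin 4)))
      rw [e, h3]
  | one => exact ⟨1, one_mem _, by rw [mat_one, cjMat_one]⟩
  | mul x y _ _ ihx ihy =>
    obtain ⟨a, ha, ea⟩ := ihx
    obtain ⟨b, hb, eb⟩ := ihy
    exact ⟨a * b, mul_mem ha hb, by rw [mat_mul, mat_mul, cjMat_mul, ea, eb]⟩
  | inv x _ ih =>
    obtain ⟨a, ha, ea⟩ := ih
    refine ⟨a⁻¹, inv_mem ha, ?_⟩
    have h1 : cjMat (mat x⁻¹) * mat a = 1 := by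
      rw [ea, ← cjMat_mul, ← mat_mul, inv_mul_cancel, mat_one, cjMat_one]
    calc mat a⁻¹ = (cjMat (mat x⁻¹) * mat a) * mat a⁻¹ := by rw [h1, one_mul]
      _ = cjMat (mat x⁻¹) := by rw [mul_assoc, ← mat_mul, mul_inv_cancel, mat_one, mul_one]

theorem sylow_in_triple {B : Subgroup G} (hle : B ≤ triple) (hcard : Nat.card ↥B = 243)
    (hcomm : ∀ x ∈ B, ∀ y ∈ B, x * y = y * x) : ∃ g ∈ triple, B.map (MulAut.conj g).toMonoidHom = diagSub := by
  haveI : Fact (Nat.Prime 3) := ⟨by norm_num⟩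
  have hS : sylowThree ≤ triple := (monoSub_mono nine_le_alt).trans monoEven_le_triple
  have hcS : Nat.card ↥(sylowThree.subgroupOf triple) = 2187 := by
    rw [Nat.card_congr (Subgroup.subgroupOfEquivOfLe hS).toEquiv, card_sylowThree]
  have hp : IsPGroup 3 ↥(sylowThree.subgroupOf triple) := IsPGroup.of_card (n := 7) (by rw [hcS]; norm_num)
  have hidx : ¬ 3 ∣ (sylowThree.subgroupOf triple).index := by
    have := (sylowThree.subgroupOf triple).card_mul_index
    rw [hcS, card_triple] at this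
    omega
  let P : Sylow 3 ↥triple := hp.toSylow hidx
  obtain ⟨S, hS'⟩ := (IsPGroup.of_card (n := 5) (show Nat.card ↥(B.subgroupOf triple) = 3 ^ 5 by
    rw [Nat.card_congr (Subgroup.subgroupOfEquivOfLe hle).toEquiv, hcard]; norm_num)).exists_le_sylow
  obtain ⟨g, hg⟩ := MulAction.exists_smul_eq ↥triple S P
  refine ⟨g.1, g.2, eq_diag_of_abelian ?_ ?_ ?_⟩
  · rintro _ ⟨x, hx, rfl⟩
    have h1 : g * ⟨x, hle hx⟩ * g⁻¹ ∈ (g • S : Sylow 3 ↥triple).toSubgroup := by
      rw [Sylow.coe_subgroup_smul, Subgroup.pointwise_smul_def]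
      exact ⟨⟨x, hle hx⟩, hS' hx, rfl⟩
    rw [hg] at h1
    exact h1
  · rw [← hcard]
    exact (Nat.card_congr (B.equivMapOfInjective _ (MulAut.conj g.1).injective).toEquiv).symm
  · rintro _ ⟨x, hx, rfl⟩ _ ⟨y, hy, rfl⟩
    rw [← map_mul, ← map_mul, hcomm x hx y hy]

/-- Being in the small class, among isotropic vectors. -/
theorem smul_eq_rows (A : Mat) (hA : star' A * A = 1) : A * star' A = 1 := mul_eq_one_comm.1 hA

theorem unitary_of_hf {A : Mat} (h : ∀ u v, hf (A *ᵥ u) (A *ᵥ v) = hf u v) : star' A * A = 1 := by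
  ext i j
  have e := h (Pi.single j 1) (Pi.single i 1)
  have e1 : hf (Pi.single j 1) (Pi.single i 1) = (1 : Mat) i j := by
    rw [hf_eq]
    simp [Pi.single_apply, Matrix.one_apply, cj, eq_comm]
  rw [e1, hf_eq] at e
  rw [← e, Matrix.mul_apply]
  refine Finset.sum_congr rfl fun k _ => ?_
  simp [star', mul_comm]

theorem iso_iff (v : V6) : IsoV v ↔ v ≠ 0 ∧ hf v v = 0 := by rw [IsoV, hf_eq]

theorem iso_mulVec {A : Mat} (hA : star' A * A = 1) {v : V6} (hv : IsoV v) : IsoV (A *ᵥ v) := by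
  rw [iso_iff] at hv ⊢
  refine ⟨fun e => hv.1 ?_, by rw [hf_mulVec hA]; exact hv.2⟩
  calc v = (star' A * A) *ᵥ v := by rw [hA, Matrix.one_mulVec]
    _ = 0 := by rw [← Matrix.mulVec_mulVec, e, Matrix.mulVec_zero]

theorem mul_mat_injective {A : Mat} (hA : star' A * A = 1) : Function.Injective (fun v : V6 => A *ᵥ v) := fun u v e => by
  have := congrArg (fun w => star' A *ᵥ w) e
  simpa [Matrix.mulVec_mulVec, hA] using this

/-- A unitary matrix permuting the elements of the triple cover keeps the two classes. -/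
theorem keeps_class {A : Mat} (hA : star' A * A = 1)
    (hN : ∀ t ∈ triple, ∃ t' ∈ triple, A * mat t = mat t' * A) (v : V6) (hv : IsoV v) (hO : Om 1 v) :
    Om 1 (A *ᵥ v) := by
  classical
  have key : ∀ w, IsoV w → Om 1 w → ∃ t ∈ triple, A *ᵥ w = mat t *ᵥ (A *ᵥ rootA) := by
    intro w hw hwO
    obtain ⟨g, hg, e⟩ := orbitA hw hwO
    obtain ⟨g', hg', e'⟩ := hN g hg
    exact ⟨g', hg', by rw [← e, Matrix.mulVec_mulVec, e', ← Matrix.mulVec_mulVec]⟩
  by_contra hc
  obtain ⟨t, ht, e⟩ := key v hv hO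
  have hB : ¬ Om 1 (A *ᵥ rootA) := fun h => hc (by rw [e]; exact (om_iff ht _).2 h)
  obtain ⟨hA', -⟩ := om_counts
  obtain ⟨-, hB'⟩ := om_counts
  let S : Finset V6 := Finset.univ.filter fun w => IsoV w ∧ Om 1 w
  have himg : S.image (fun w => A *ᵥ w) = Finset.univ.filter fun w => IsoV w ∧ ¬ Om 1 w := by
    ext w
    simp only [S, Finset.mem_image, Finset.mem_filter, Finset.mem_univ, true_and]
    constructor
    · rintro ⟨x, ⟨hx, hxO⟩, rfl⟩
      refine ⟨iso_mulVec hA hx, fun h => hB ?_⟩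
      obtain ⟨t, ht, e⟩ := key x hx hxO
      rw [e] at h
      exact (om_iff ht _).1 h
    · rintro ⟨hw, hwO⟩
      obtain ⟨g, hg, eg⟩ := orbitB hw hwO
      have hr : IsoV (A *ᵥ rootA) := iso_mulVec hA roots_ok.2.2.2.2.1
      obtain ⟨g', hg', eg'⟩ := orbitB hr hB
      have hmove : ∀ t ∈ triple, ∃ t' ∈ triple, mat t * A = A * mat t' := by
        let S' : Set G := {t | t ∈ triple}
        intro t ht
        choose φ hφ1 hφ2 using fun x : ↥triple => hN x.1 x.2
        have hinj : Function.Injective fun x : ↥triple => (⟨φ x, hφ1 x⟩ : ↥triple) := by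
          intro x y exy
          have exy' : φ x = φ y := congrArg Subtype.val exy
          have h2 : A * mat x.1 = A * mat y.1 := by rw [hφ2, hφ2, exy']
          have h3 := congrArg (star' A * ·) h2
          simp only [← mul_assoc, hA, one_mul] at h3
          exact Subtype.ext (mat_injective h3)
        obtain ⟨x, hx⟩ := (Finite.injective_iff_surjective.1 hinj) ⟨t, ht⟩
        exact ⟨x.1, x.2, by rw [hφ2, show φ x = t from congrArg Subtype.val hx]⟩
      obtain ⟨t', ht', et'⟩ := hmove _ (mul_mem hg (inv_mem hg'))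
      refine ⟨mat t' *ᵥ rootA, ⟨iso_mulVec (star_mul_self t') roots_ok.2.2.2.2.1, (om_iff ht' _).2 roots_ok.2.2.1⟩, ?_⟩
      rw [Matrix.mulVec_mulVec, ← et', ← Matrix.mulVec_mulVec, ← eg', Matrix.mulVec_mulVec, ← mat_mul,
        inv_mul_cancel_right, eg]
  have h1 := Finset.card_image_of_injective S (mul_mat_injective hA)
  rw [himg, hB', hA'] at h1
  omega

theorem mono_form {A : Mat} (hA : star' A * A = 1)
    (hD : ∀ e ∈ diagSub, ∃ e' ∈ diagSub, A * mat e = mat e' * A) :
    ∃ (a : Fin 6 → F4) (σ : Perm (Fin 6)), (∀ i, cj (a i) * a i = 1) ∧ A = diagonal a * pmat σ := by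
  have hrow : ∀ i j k, A i j ≠ 0 → A i k ≠ 0 → j = k := by
    intro i j k hj hk
    by_contra hne
    obtain ⟨d, hd, hdd⟩ := diag_split j k hne
    obtain ⟨e', he', e⟩ := hD _ (dElt_mem d hd)
    rw [mat_dElt, mat_diag he'] at e
    have h1 := congrFun (congrFun e i) j
    have h2 := congrFun (congrFun e i) k
    rw [Matrix.mul_diagonal, Matrix.diagonal_mul, mul_comm _ (A i j)] at h1
    rw [Matrix.mul_diagonal, Matrix.diagonal_mul, mul_comm _ (A i k)] at h2
    exact hdd ((mul_left_cancel₀ hj h1).trans (mul_left_cancel₀ hk h2).symm)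
  have hcol : ∀ j, ∃ i, A i j ≠ 0 := fun j => by
    by_contra hj
    push Not at hj
    have := congrFun (congrFun hA j) j
    simp [Matrix.mul_apply, hj] at this
  choose f hf using hcol
  have hinj : Function.Injective f := fun a b e => hrow _ a b (hf a) (e ▸ hf b)
  let σ : Perm (Fin 6) := Equiv.ofBijective f (Finite.injective_iff_bijective.1 hinj)
  have hzero : ∀ i j, i ≠ σ j → A i j = 0 := by
    intro i j hij
    by_contra hne
    have := hrow i (σ.symm i) j (by
      have := hf (σ.symm i)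
      rwa [show f (σ.symm i) = i from σ.apply_symm_apply i] at this) hne
    exact hij (by rw [← this, σ.apply_symm_apply])
  refine ⟨fun i => A i (σ.symm i), σ, fun i => ?_, ?_⟩
  · have := congrFun (congrFun hA (σ.symm i)) (σ.symm i)
    rw [Matrix.one_apply_eq, Matrix.mul_apply, Finset.sum_eq_single i (fun k _ hk => by
      rw [hzero k (σ.symm i) (by rw [σ.apply_symm_apply]; exact hk), mul_zero]) (by simp)] at this
    exact this
  · ext i j
    rw [Matrix.diagonal_mul]
    by_cases h : i = σ j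
    · subst h; simp [pmat]
    · rw [hzero i j h]; simp [pmat, h]

/-- A unitary matrix normalising the triple cover. -/
theorem linear_normal {A : Mat} (hA : star' A * A = 1)
    (hN : ∀ t ∈ triple, ∃ t' ∈ triple, A * mat t = mat t' * A) :
    ∃ t ∈ triple, A = mat t ∨ A = mat t * pmat (Equiv.swap 0 1) := by
  have hA' : A * star' A = 1 := smul_eq_rows A hA
  choose φ hφ1 hφ2 using fun x : ↥triple => hN x.1 x.2
  have hφ : ∀ x y, φ x * φ y = φ (x * y) := fun x y => mat_injective (by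
    have h1 : mat (φ x * φ y) * A = mat (φ (x * y)) * A := by
      rw [mat_mul, mul_assoc, ← hφ2, ← mul_assoc, ← hφ2, mul_assoc, ← hφ2, Subgroup.coe_mul, mat_mul]
    have h2 := congrArg (· * star' A) h1
    simpa [mul_assoc, hA'] using h2)
  let ψ : ↥triple →* G := MonoidHom.mk' φ fun x y => (hφ x y).symm
  have hinj : Function.Injective ψ := fun x y e => Subtype.ext (mat_injective (by
    have h2 : A * mat x.1 = A * mat y.1 := by rw [hφ2, hφ2]; exact congrArg (fun g => mat g * A) e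
    have h3 := congrArg (star' A * ·) h2
    simpa [← mul_assoc, hA] using h3))
  have hle : diagSub ≤ triple := diag_le_triple
  let B : Subgroup G := (diagSub.subgroupOf triple).map ψ
  have hBle : B ≤ triple := by
    rintro _ ⟨x, -, rfl⟩
    exact hφ1 x
  have hBcard : Nat.card ↥B = 243 := by
    rw [← Nat.card_congr (Subgroup.equivMapOfInjective _ ψ hinj).toEquiv,
      Nat.card_congr (Subgroup.subgroupOfEquivOfLe hle).toEquiv, card_diagSub]
  have hBcomm : ∀ x ∈ B, ∀ y ∈ B, x * y = y * x := by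
    rintro _ ⟨x, hx, rfl⟩ _ ⟨y, hy, rfl⟩
    rw [← map_mul, ← map_mul]
    refine congrArg ψ (Subtype.ext (mat_injective ?_))
    rw [Subgroup.coe_mul, Subgroup.coe_mul, mat_mul, mat_mul, mat_diag (Subgroup.mem_subgroupOf.1 hx),
      mat_diag (Subgroup.mem_subgroupOf.1 hy), Matrix.diagonal_mul_diagonal, Matrix.diagonal_mul_diagonal]
    exact congrArg diagonal (funext fun i => mul_comm _ _)
  obtain ⟨g, hg, eg⟩ := sylow_in_triple hBle hBcard hBcomm
  have hgA : star' (mat g * A) * (mat g * A) = 1 := by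
    rw [CfsgLib.Sporadic.U43Triple.star_mul, mul_assoc, ← mul_assoc (star' (mat g)), star_mul_self, one_mul, hA]
  obtain ⟨a, σ, ha, e⟩ := mono_form hgA fun x hx => ⟨g * φ ⟨x, hle hx⟩ * g⁻¹,
    eg ▸ ⟨φ ⟨x, hle hx⟩, ⟨⟨x, hle hx⟩, hx, rfl⟩, rfl⟩, by
      simp only [mat_mul, mul_assoc]
      rw [hφ2 ⟨x, hle hx⟩, ← mul_assoc (mat g⁻¹), ← mat_mul, inv_mul_cancel, mat_one, one_mul]⟩
  have hclass := keeps_class hgA (fun t ht => by
    obtain ⟨t', ht', e'⟩ := hN t ht
    exact ⟨g * t' * g⁻¹, mul_mem (mul_mem hg ht') (inv_mem hg), by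
      simp only [mat_mul, mul_assoc]
      rw [e', ← mul_assoc (mat g⁻¹), ← mat_mul, inv_mul_cancel, mat_one, one_mul]⟩)
  have hall : Om 1 (fun _ : Fin 6 => (1 : F4)) ∧ IsoV (fun _ : Fin 6 => (1 : F4)) := by decide +kernel
  have hval : (mat g * A) *ᵥ (fun _ => (1 : F4)) = a := by
    rw [e, ← Matrix.mulVec_mulVec, pmat_mulVec]
    funext i
    simp [Matrix.mulVec_diagonal]
  have hprod : ∏ i, a i = 1 := by
    have h := hclass _ hall.2 hall.1
    rw [hval] at h
    rcases h with h | h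
    · exfalso
      have : ∀ i, a i ≠ 0 := fun i e0 => by
        have := ha i
        rw [e0, mul_zero] at this
        exact zero_ne_one this
      simp [weight, this] at h
    · exact h.2
  have hdiag : dElt a ⟨ha, hprod⟩ ∈ triple := hle (dElt_mem _ _)
  have hback : A = mat g⁻¹ * (diagonal a * pmat σ) := by
    rw [← e, ← mul_assoc, ← mat_mul, inv_mul_cancel, mat_one, one_mul]
  rcases Int.units_eq_one_or (Equiv.Perm.sign σ) with hs | hs
  · refine ⟨g⁻¹ * (dElt a ⟨ha, hprod⟩ * permHom σ),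
      mul_mem (inv_mem hg) (mul_mem hdiag (permHom_even (Equiv.Perm.mem_alternatingGroup.2 hs))), Or.inl ?_⟩
    rw [hback, mat_mul, mat_mul, mat_permHom]
    rfl
  · refine ⟨g⁻¹ * (dElt a ⟨ha, hprod⟩ * permHom (σ * Equiv.swap 0 1)), mul_mem (inv_mem hg) (mul_mem hdiag
      (permHom_even (Equiv.Perm.mem_alternatingGroup.2 ?_))), Or.inr ?_⟩
    · rw [map_mul, hs, Equiv.Perm.sign_swap (by decide)]; rfl
    · rw [hback, mat_mul, mat_mul, mat_permHom, mul_assoc (mat g⁻¹), mul_assoc, pmat_mul,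
        mul_assoc σ, Equiv.swap_mul_self, mul_one]
      rfl

/-- A linear isometry normalising the triple cover. -/
theorem normal_lin (f : V6 → V6) (hadd : ∀ u v, f (u + v) = f u + f v) (hsmul : ∀ (a : F4) v, f (a • v) = a • f v)
    (hhf : ∀ u v, hf (f u) (f v) = hf u v)
    (hN : ∀ t ∈ triple, ∃ t' ∈ triple, ∀ v, f (mat t *ᵥ v) = mat t' *ᵥ f v) :
    ∃ t ∈ triple, ∃ b : Bool, ∀ v, f v = mat t *ᵥ outV (false, b) v := by
  let A : Mat := LinearMap.toMatrix' ({ toFun := f, map_add' := hadd, map_smul' := hsmul } : V6 →ₗ[F4] V6)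
  have hA : ∀ v, A *ᵥ v = f v := LinearMap.toMatrix'_mulVec _
  obtain ⟨t, ht, e⟩ := linear_normal (A := A) (unitary_of_hf fun u v => by rw [hA, hA, hhf]) fun t ht => by
    obtain ⟨t', ht', e⟩ := hN t ht
    exact ⟨t', ht', Matrix.toLin'.injective (LinearMap.ext fun v => by
      simp only [Matrix.toLin'_apply, ← Matrix.mulVec_mulVec, hA]; exact e v)⟩
  rcases e with e | e
  · exact ⟨t, ht, false, fun v => by rw [← hA, e]; rfl⟩
  · refine ⟨t, ht, true, fun v => ?_⟩
    rw [← hA, e, ← Matrix.mulVec_mulVec]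
    show _ = mat t *ᵥ tauV v
    rw [tauV_eq, sigElt, mat_permHom]

/-- A semilinear isometry normalising the triple cover. -/
theorem normal_semi (f : V6 → V6) (hadd : ∀ u v, f (u + v) = f u + f v) (hsmul : ∀ (a : F4) v, f (a • v) = cj a • f v)
    (hhf : ∀ u v, hf (f u) (f v) = cj (hf u v))
    (hN : ∀ t ∈ triple, ∃ t' ∈ triple, ∀ v, f (mat t *ᵥ v) = mat t' *ᵥ f v) :
    ∃ t ∈ triple, ∃ b : Bool, ∀ v, f v = mat t *ᵥ outV (true, b) v := by
  obtain ⟨t, ht, b, e⟩ := normal_lin (fun v => sigV (f v))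
    (fun u v => funext fun i => by simp [sigV, hadd, cj_add])
    (fun a v => funext fun i => by simp [sigV, hsmul, cj_mul, cj_cj])
    (fun u v => by
      have e : ∀ x y, hf (sigV x) (sigV y) = cj (hf x y) := fun x y => by
        simp [hf_eq, sigV, cj_sum, cj_mul]
      rw [e, hhf, cj_cj])
    (fun t ht => by
      obtain ⟨t', ht', e⟩ := hN t ht
      obtain ⟨t'', ht'', e'⟩ := exists_cjElt ht'
      exact ⟨t'', ht'', fun v => by
        show sigV (f (mat t *ᵥ v)) = _
        rw [e, sigV_mulVec, e']⟩)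
  obtain ⟨t', ht', e'⟩ := exists_cjElt ht
  refine ⟨t', ht', b, fun v => ?_⟩
  have := congrArg sigV (e v)
  rw [sigV_sigV, sigV_mulVec, ← e'] at this
  exact this

end CfsgLib.ThreeTrans.LargeFischer
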