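import Cfsg.Agent.Lib.ThreeTrans.LargeFischer.Hermitian
import Cfsg.Agent.Lib.ThreeTrans.LargeFischer.Normalizer
import Cfsg.Agent.Lib.ThreeTrans.LargeGeneration
import Cfsg.Prelude.Def_MonsterType

/-!
The coordinates on `Q` modulo its centre for a group of large Fischer type (owner: helper28).
-/

set_option autoImplicit false
set_option maxHeartbeats 1000000
set_option maxRecDepth 100000

namespace CfsgLib.ThreeTrans.LargeFischer

open Matrix Cfsg
open CfsgLib.Recog.SporBound.Fi22U6 (F4)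
open CfsgLib.Sporadic.U43Triple
open CfsgLib.ThreeTrans.LargeGeneration (largeData_of_gFitting)
open CfsgLib.Known.U43Mult (Mdl mdl_spec nonempty_equiv)

/-- The coordinates. -/
structure Coord {G : Type*} [Group G] (z : G) (Q : Subgroup G) where
  large : LargeData z Q
  card : Nat.card Q = 2 ^ 13
  /-- the coordinates -/
  ψ : ↥Q → V6
  /-- the action of the centralizer -/
  act : ↥(Subgroup.centralizer ({z} : Set G)) →* Equiv.Perm V6
  /-- the subgroup of index two -/
  M : Subgroup ↥(Subgroup.centralizer ({z} : Set G))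
  index : M.index = 2
  map_mul : ∀ a b, ψ (a * b) = ψ a + ψ b
  surj : Function.Surjective ψ
  eq_zero : ∀ a : ↥Q, ψ a = 0 ↔ (a : G) ∈ Subgroup.zpowers z
  sq_eq_one : ∀ a : ↥Q, hf (ψ a) (ψ a) = 0 ↔ (a : G) * a = 1
  commute_iff : ∀ a b : ↥Q, Commute (a : G) b ↔ cj (hf (ψ a) (ψ b)) = hf (ψ a) (ψ b)
  act_conj : ∀ (c : ↥(Subgroup.centralizer ({z} : Set G))) (a : ↥Q) (b : ↥Q),
    (b : G) = (c : G) * a * (c : G)⁻¹ → act c (ψ a) = ψ b
  act_eq_one : ∀ c, act c = 1 ↔ (c : G) ∈ Q
  act_M : ∀ c ∈ M, ∃ t ∈ triple, ∀ v, act c v = mat t *ᵥ v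
  lift : ∀ t ∈ triple, ∃ c ∈ M, ∀ v, act c v = mat t *ᵥ v
  form : ∀ c, ∃ t ∈ triple, ∃ p : Bool × Bool, ∀ v, act c v = mat t *ᵥ outV p v

section Build

variable {G : Type*} [Group G] [Finite G] {z : G} {Q : Subgroup G}

theorem exists_coord_of_tower (h : LargeData z Q) (hcard : Nat.card Q = 2 ^ 13) (T : Tower z Q)
    (hπ : ∀ (c : ↥(Subgroup.centralizer ({z} : Set G))) (m : ↥T.M), T.π m = 1 →
      ∃ m' : ↥T.M, (m' : ↥(Subgroup.centralizer ({z} : Set G))) = c * m * c⁻¹ ∧ T.π m' = 1) :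
    Nonempty (Coord z Q) := by
  classical
  obtain ⟨L⟩ := exists_lin h hcard
  obtain ⟨F, hF⟩ := exists_good_frame h hcard T L
  set C := Subgroup.centralizer ({z} : Set G)
  let act : ↥C →* Equiv.Perm V6 :=
    MonoidHom.mk' (fun c => (F.e.symm.toEquiv.trans (L.act c).toEquiv).trans F.e.toEquiv) fun c d =>
      Equiv.ext fun v => by simp [map_mul, Equiv.Perm.mul_apply]
  have hact : ∀ c w, act c (F.e w) = F.e (L.act c w) := fun c w => by simp [act]
  have hinJ : ∀ c : ↥C, (∀ w, L.act c (T.J L w) = T.J L (L.act c w)) ∨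
      ∀ w, L.act c (T.J L w) = T.J L (T.J L (L.act c w)) := by
    intro c
    obtain ⟨m', em, hm⟩ := hπ c T.j ((T.ker_iff _).2 ⟨1, by rw [pow_one, inv_mul_cancel]; exact one_mem _⟩)
    obtain ⟨i, hi⟩ := T.act_of_ker L hm
    have hc : ∀ w, L.act c (T.J L w) = (T.J L ^ i) (L.act c w) := fun w => by
      rw [← hi, em, map_mul, map_mul, map_inv]
      simp [Tower.J]
    have h3 : T.J L ^ 3 = 1 := by rw [pow_succ, pow_two]; exact T.J_cube L
    rw [← Nat.mod_add_div i 3, pow_add, pow_mul, h3, one_pow, mul_one] at hc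
    have hlt : i % 3 < 3 := Nat.mod_lt _ (by norm_num)
    interval_cases hk : i % 3
    · refine absurd (LinearEquiv.ext fun w => (L.act c).injective ?_) (T.J_ne_one L)
      exact (hc w).trans rfl
    · exact Or.inl fun w => by rw [hc w, pow_one]
    · exact Or.inr fun w => by rw [hc w, pow_two]; rfl
  have hb : ∀ (c : ↥C) x y, L.bil (L.act c x) (L.act c y) = L.bil x y := fun c x y => by
    simp only [Lin.bil, ← map_add, L.act_q _ h]
  have hadd : ∀ c u v, act c (u + v) = act c u + act c v := fun c u v => by simp [act]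
  have hsm : ∀ c, (∀ (a : F4) v, act c (a • v) = a • act c v) ∧ (∀ u v, hf (act c u) (act c v) = hf u v) ∨
      (∀ (a : F4) v, act c (a • v) = cj a • act c v) ∧ (∀ u v, hf (act c u) (act c v) = cj (hf u v)) := by
    intro c
    have h0 : act c 0 = 0 := by
      have := hadd c 0 0
      rw [add_zero] at this
      exact add_eq_left.1 this.symm
    rcases hinJ c with hc | hc
    · left
      have hom : ∀ v, act c (F4.om • v) = F4.om • act c v := fun v => by
        obtain ⟨w, rfl⟩ := F.e.surjective v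
        rw [← F.map_J, hact, hact, hc, F.map_J]
      refine ⟨fun a v => ?_, fun u v => ?_⟩
      · rcases four_cases' a with rfl | rfl | rfl | rfl
        · simp [h0]
        · simp
        · exact hom v
        · rw [add_smul, one_smul, hadd, hom, add_smul, one_smul]
      · obtain ⟨u, rfl⟩ := F.e.surjective u
        obtain ⟨v, rfl⟩ := F.e.surjective v
        rw [hact, hact, F.map_herm, F.map_herm]
        simp only [Tower.herm, ← hc, hb]
    · right
      have hom : ∀ v, act c (F4.om • v) = cj F4.om • act c v := fun v => by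
        obtain ⟨w, rfl⟩ := F.e.surjective v
        rw [← F.map_J, hact, hact, hc, F.map_J, F.map_J, smul_smul]
        rfl
      refine ⟨fun a v => ?_, fun u v => ?_⟩
      · rcases four_cases' a with rfl | rfl | rfl | rfl
        · simp [h0, cj_zero]
        · simp [show cj 1 = 1 by decide +kernel]
        · exact hom v
        · rw [add_smul, one_smul, hadd, hom, cj_add, show cj 1 = 1 by decide +kernel, add_smul, one_smul]
      · obtain ⟨u, rfl⟩ := F.e.surjective u
        obtain ⟨v, rfl⟩ := F.e.surjective v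
        rw [hact, hact, F.map_herm, F.map_herm]
        have e1 : L.bil (T.J L (L.act c u)) (L.act c v) = L.bil (T.J L u) v + L.bil u v := by
          have : T.J L (L.act c u) = L.act c (T.J L (T.J L u)) := by
            rw [hc, hc]; simp only [T.J_cube']
          rw [this, hb, T.J_sq L h hcard, L.bil_add h]
        have key : ∀ a b : ZMod 2, emb (a + b + b) + emb b * F4.om = cj (emb (a + b) + emb b * F4.om) := by
          decide +kernel
        simp only [Tower.herm]
        rw [e1, hb, key]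
  have hnorm : ∀ (c : ↥C), ∀ t ∈ triple, ∃ t' ∈ triple, ∀ v, act c (mat t *ᵥ v) = mat t' *ᵥ act c v := by
    intro c t ht
    obtain ⟨m, rfl⟩ := hF.ge ht
    let m' : ↥T.M := ⟨c * m * c⁻¹, T.normal.conj_mem _ m.2 c⟩
    refine ⟨F.rep h m', hF.le ⟨m', rfl⟩, fun v => ?_⟩
    obtain ⟨w, rfl⟩ := F.e.surjective v
    rw [F.mat_rep, F.mat_rep, F.lmat_e, hact, hact, F.lmat_e]
    refine congrArg F.e ?_
    show _ = L.act (c * (m : ↥C) * c⁻¹) (L.act c w)
    rw [map_mul, map_mul, map_inv]
    simp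
  have hM : ∀ c (hc : c ∈ T.M) v, act c v = mat (F.rep h ⟨c, hc⟩) *ᵥ v := fun c hc v => by
    obtain ⟨w, rfl⟩ := F.e.surjective v
    rw [F.mat_rep, F.lmat_e, hact]
  refine ⟨{ large := h, card := hcard, ψ := fun a => F.e (L.ψ a), act := act, M := T.M, index := T.index,
            map_mul := fun a b => by rw [L.map_mul, map_add]
            surj := F.e.surjective.comp L.surj
            eq_zero := fun a => by rw [map_eq_zero_iff F.e F.e.injective, L.eq_zero]
            sq_eq_one := fun a => by rw [F.map_herm, T.herm_self L h hcard, emb_eq_zero, L.q_eq_zero]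
            commute_iff := fun a b => by
              rw [← L.bil_eq_zero h, F.map_herm]
              have key : ∀ p r : ZMod 2, cj (emb p + emb r * F4.om) = emb p + emb r * F4.om ↔ r = 0 := by
                decide +kernel
              exact (key _ _).symm
            act_conj := fun c a b e => by rw [hact, L.act_conj c a b e]
            act_eq_one := fun c => by
              rw [← L.act_eq_one]
              refine ⟨fun e => LinearEquiv.ext fun w => F.e.injective ?_, fun e => Equiv.ext fun v => ?_⟩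
              · rw [← hact, e]; rfl
              · obtain ⟨w, rfl⟩ := F.e.surjective v
                rw [hact, e]; rfl
            act_M := fun c hc => ⟨_, hF.le ⟨⟨c, hc⟩, rfl⟩, hM c hc⟩
            lift := fun t ht => by
              obtain ⟨m, rfl⟩ := hF.ge ht
              exact ⟨m.1, m.2, hM m.1 m.2⟩
            form := fun c => by
              rcases hsm c with ⟨h1, h2⟩ | ⟨h1, h2⟩
              · obtain ⟨t, ht, b, e⟩ := normal_lin (act c) (hadd c) h1 h2 (hnorm c)
                exact ⟨t, ht, (false, b), e⟩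
              · obtain ⟨t, ht, b, e⟩ := normal_semi (act c) (hadd c) h1 h2 (hnorm c)
                exact ⟨t, ht, (true, b), e⟩ }⟩

/-- Groups of large Fischer type have coordinates. -/
theorem exists_coord {Q : Subgroup ↥(Subgroup.centralizer ({z} : Set G))} [Q.Normal]
    (hF : Cfsg.IsOfLargeFischerTypeAt z Q) :
    Nonempty (Coord z (Q.map (Subgroup.centralizer ({z} : Set G)).subtype)) := by
  classical
  haveI : Fact (Nat.Prime 2) := ⟨Nat.prime_two⟩
  haveI : Fact (Nat.Prime 3) := ⟨by norm_num⟩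
  haveI := mdl_spec.1
  obtain ⟨⟨hz, hgF, hE, hc, -⟩, N, M, hN, hM, hQN, hNM, hNc, ⟨K, _, _, hK, ⟨e⟩⟩, hidx⟩ := hF
  have hmem : ∀ c : ↥(Subgroup.centralizer ({z} : Set G)), (c : G) ∈ Q.map (Subgroup.centralizer ({z} : Set G)).subtype ↔ c ∈ Q := fun c =>
    Subgroup.mem_map_iff_mem (Subgroup.centralizer ({z} : Set G)).subtype_injective
  have hcardQ : Nat.card ↥(Q.map (Subgroup.centralizer ({z} : Set G)).subtype) = 2 ^ 13 := by
    rw [Subgroup.card_subtype, hc]
  have hlarge : LargeData z (Q.map (Subgroup.centralizer ({z} : Set G)).subtype) := by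
    refine largeData_of_gFitting hz (Subgroup.map_subtype_le Q) (congrArg (Subgroup.map (Subgroup.centralizer ({z} : Set G)).subtype) hgF) ?_
    exact isExtraspecial_congr hE (Subgroup.equivMapOfInjective Q (Subgroup.centralizer ({z} : Set G)).subtype (Subgroup.centralizer ({z} : Set G)).subtype_injective)
  -- the element of order three
  obtain ⟨n₀, hn₀⟩ := exists_prime_orderOf_dvd_card' (G := ↥N) 3 (by rw [hNc]; exact dvd_mul_right 3 _)
  set x : ↥(Subgroup.centralizer ({z} : Set G)) := n₀.1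
  have hx3 : x ^ 3 = 1 := by
    rw [← Subgroup.coe_pow, ← hn₀, pow_orderOf_eq_one, Subgroup.coe_one]
  have hxQ : x ∉ Q := fun hx => by
    have h1 := Subgroup.orderOf_dvd_natCard Q hx
    have h3 : orderOf x = 3 := (Subgroup.orderOf_coe n₀).trans hn₀
    rw [h3, hc] at h1
    norm_num at h1
  have hgen : ∀ n ∈ N, ∃ i : ℕ, (x ^ i)⁻¹ * n ∈ Q := by
    intro n hn
    have hq : Nat.card (↥N ⧸ Q.subgroupOf N) = 3 := by
      have h1 := Subgroup.card_eq_card_quotient_mul_card_subgroup (Q.subgroupOf N)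
      rw [Nat.card_congr (Subgroup.subgroupOfEquivOfLe hQN).toEquiv, hNc] at h1
      exact (Nat.eq_of_mul_eq_mul_right Nat.card_pos h1).symm
    have hne : (QuotientGroup.mk n₀ : ↥N ⧸ Q.subgroupOf N) ≠ 1 := fun e =>
      hxQ (Subgroup.mem_subgroupOf.1 ((QuotientGroup.eq_one_iff _).1 e))
    obtain ⟨i, hi⟩ := mem_powers_of_prime_card hq hne (g' := QuotientGroup.mk ⟨n, hn⟩)
    refine ⟨i, ?_⟩
    have : ((n₀ ^ i)⁻¹ * ⟨n, hn⟩ : ↥N) ∈ Q.subgroupOf N := QuotientGroup.eq.1 (by rw [QuotientGroup.mk_pow]; exact hi)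
    exact Subgroup.mem_subgroupOf.1 this
  obtain ⟨e'⟩ := nonempty_equiv hK
  let π : ↥M →* Mdl := (e.trans e'.symm).toMonoidHom.comp (QuotientGroup.mk' (N.subgroupOf M))
  have hπker : ∀ m : ↥M, π m = 1 ↔ (m : ↥(Subgroup.centralizer ({z} : Set G))) ∈ N := fun m => by
    show (e.trans e'.symm) _ = 1 ↔ _
    rw [MulEquiv.map_eq_one_iff]
    exact (QuotientGroup.eq_one_iff m).trans Subgroup.mem_subgroupOf
  have hπsurj : Function.Surjective π := (e.trans e'.symm).surjective.comp (QuotientGroup.mk'_surjective _)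
  -- commutation modulo Q
  let xb : ↥(Subgroup.centralizer ({z} : Set G)) ⧸ Q := QuotientGroup.mk x
  have hconj : ∀ c : ↥(Subgroup.centralizer ({z} : Set G)), ∃ i : ℕ, (QuotientGroup.mk c : ↥(Subgroup.centralizer ({z} : Set G)) ⧸ Q) * xb * (QuotientGroup.mk c)⁻¹ = xb ^ i := by
    intro c
    obtain ⟨i, hi⟩ := hgen _ (hN.conj_mem x n₀.2 c)
    refine ⟨i, ?_⟩
    rw [← QuotientGroup.mk_mul, ← QuotientGroup.mk_inv, ← QuotientGroup.mk_mul, ← QuotientGroup.mk_pow]
    exact (QuotientGroup.eq.2 hi).symm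
  let S : Subgroup ↥M := (Subgroup.centralizer {xb}).comap ((QuotientGroup.mk' Q).comp M.subtype)
  have hS : ∀ m : ↥M, m ∈ S ↔ (QuotientGroup.mk (m : ↥(Subgroup.centralizer ({z} : Set G))) : ↥(Subgroup.centralizer ({z} : Set G)) ⧸ Q) * xb * (QuotientGroup.mk (m : ↥(Subgroup.centralizer ({z} : Set G))))⁻¹ = xb :=
    fun m => by
      rw [Subgroup.mem_comap, mem_centralizer_singleton_iff', mul_inv_eq_iff_eq_mul]
      rfl
  have hcomS : ∀ a b : ↥M, a * b * a⁻¹ * b⁻¹ ∈ S := by
    intro a b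
    rw [hS]
    obtain ⟨i, hi⟩ := hconj a
    obtain ⟨k, hk⟩ := hconj b
    set A : ↥(Subgroup.centralizer ({z} : Set G)) ⧸ Q := QuotientGroup.mk (a : ↥(Subgroup.centralizer ({z} : Set G)))
    set B : ↥(Subgroup.centralizer ({z} : Set G)) ⧸ Q := QuotientGroup.mk (b : ↥(Subgroup.centralizer ({z} : Set G)))
    show A * B * A⁻¹ * B⁻¹ * xb * (A * B * A⁻¹ * B⁻¹)⁻¹ = xb
    have f1 : ∀ n : ℕ, A * xb ^ n * A⁻¹ = (xb ^ i) ^ n := fun n => by rw [← conj_pow, hi]
    have f2 : ∀ n : ℕ, B * xb ^ n * B⁻¹ = (xb ^ k) ^ n := fun n => by rw [← conj_pow, hk]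
    have h1 : A * B * xb * (A * B)⁻¹ = B * A * xb * (B * A)⁻¹ := by
      calc A * B * xb * (A * B)⁻¹ = A * (B * xb * B⁻¹) * A⁻¹ := by group
        _ = B * (A * xb * A⁻¹) * B⁻¹ := by rw [hk, hi, f1, f2, ← pow_mul, ← pow_mul, mul_comm]
        _ = B * A * xb * (B * A)⁻¹ := by group
    have f3 : ∀ y, ∀ n : ℕ, A * B * xb ^ n * (A * B)⁻¹ = y → B * A * xb ^ n * (B * A)⁻¹ = y := fun y n e => by
      rw [← e, ← conj_pow, ← conj_pow, h1]
    obtain ⟨n, hn⟩ := hconj ((b : ↥(Subgroup.centralizer ({z} : Set G))) * a)⁻¹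
    simp only [QuotientGroup.mk_inv, QuotientGroup.mk_mul, inv_inv] at hn
    change (B * A)⁻¹ * xb * (B * A) = xb ^ n at hn
    calc A * B * A⁻¹ * B⁻¹ * xb * (A * B * A⁻¹ * B⁻¹)⁻¹
        = A * B * ((B * A)⁻¹ * xb * (B * A)) * (A * B)⁻¹ := by group
      _ = A * B * xb ^ n * (A * B)⁻¹ := by rw [hn]
      _ = B * A * xb ^ n * (B * A)⁻¹ := (f3 _ n rfl).symm
      _ = xb := by rw [← hn]; group
  have hS1 : ∀ m : ↥M, π m = 1 → m ∈ S := by
    intro m hm
    obtain ⟨i, hi⟩ := hgen _ ((hπker m).1 hm)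
    rw [hS, ← (QuotientGroup.eq.2 hi : (QuotientGroup.mk (x ^ i) : ↥(Subgroup.centralizer ({z} : Set G)) ⧸ Q) = QuotientGroup.mk (m : ↥(Subgroup.centralizer ({z} : Set G)))),
      QuotientGroup.mk_pow, mul_inv_eq_iff_eq_mul]
    exact (Commute.self_pow xb i).symm.eq
  have hSn : S.Normal := ⟨fun a ha g => by
    have := mul_mem (hcomS g a) ha
    rwa [inv_mul_cancel_right] at this⟩
  have hStop : ∀ m : ↥M, m ∈ S := by
    intro m
    rcases map_bot_or_top hπsurj hSn with e1 | e1
    · refine absurd (fun p q => ?_) mdl_not_comm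
      obtain ⟨a, rfl⟩ := hπsurj p
      obtain ⟨b, rfl⟩ := hπsurj q
      have h1 : π (a * b * a⁻¹ * b⁻¹) ∈ S.map π := ⟨_, hcomS a b, rfl⟩
      rw [e1, Subgroup.mem_bot, map_mul, map_mul, map_mul, map_inv, map_inv, mul_inv_eq_one,
        mul_inv_eq_iff_eq_mul] at h1
      exact h1
    · obtain ⟨n, hn, en⟩ := (e1.ge (Subgroup.mem_top (π m)) : π m ∈ S.map π)
      have := mul_mem hn (hS1 (n⁻¹ * m) (by rw [map_mul, map_inv, en, inv_mul_cancel]))
      rwa [mul_inv_cancel_left] at this
  let T : Tower z (Q.map (Subgroup.centralizer ({z} : Set G)).subtype) :=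
    { M := M, normal := hM, index := hidx, j := ⟨x, hNM n₀.2⟩, cube := Subtype.ext hx3
      notQ := fun hh => hxQ ((hmem x).1 hh)
      π := π, surj := hπsurj
      ker_iff := fun m => by
        rw [hπker]
        constructor
        · intro hm
          obtain ⟨i, hi⟩ := hgen _ hm
          exact ⟨i, (hmem _).2 hi⟩
        · rintro ⟨i, hi⟩
          have := N.mul_mem (N.pow_mem n₀.2 i) (hQN ((hmem _).1 hi))
          change x ^ i * ((x ^ i)⁻¹ * (m : ↥(Subgroup.centralizer ({z} : Set G)))) ∈ N at this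
          rwa [mul_inv_cancel_left] at this
      comm := fun m => (hmem _).2 ((QuotientGroup.eq_one_iff _).1 (by
        show (QuotientGroup.mk (m : ↥(Subgroup.centralizer ({z} : Set G))) : ↥(Subgroup.centralizer ({z} : Set G)) ⧸ Q) * xb * (QuotientGroup.mk (m : ↥(Subgroup.centralizer ({z} : Set G))))⁻¹ * xb⁻¹ = 1
        rw [(hS m).1 (hStop m), mul_inv_cancel]))
      le_M := fun c hc => hNM (hQN ((hmem c).1 hc)) }
  refine exists_coord_of_tower hlarge hcardQ T fun c m hm => ?_
  refine ⟨⟨c * m * c⁻¹, hM.conj_mem _ m.2 c⟩, rfl, (hπker _).2 ?_⟩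
  exact hN.conj_mem _ ((hπker m).1 hm) c

end Build

end CfsgLib.ThreeTrans.LargeFischer
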