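import Cfsg.Agent.Lib.ThreeTrans.LargeFischer.AxisTri
import Cfsg.Agent.Lib.Sporadic.Code

/-!
Finite checks on the codes of the twenty-four points (owner: helper28).
-/

set_option autoImplicit false
set_option maxHeartbeats 1000000
set_option maxRecDepth 100000
set_option Elab.async false

namespace CfsgLib.ThreeTrans.LargeFischer

open Cfsg
open CfsgLib.Sporadic

/-- The codes of the points, packed. -/
def axPtPack : ℕ := 15423595604717416545643322969024664152005950284354200627606674685846956226039927753

/-- The code of a point by its number. -/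
noncomputable def vI (i : ℕ) : ℕ := Nat.land (Nat.shiftRight axPtPack (12 * i)) 4095

/-- The code of a point. -/
noncomputable def vPt (x : GolayPt) : ℕ := vI (ix x)

/-- The code of a duad. -/
noncomputable def dv (x y : GolayPt) : ℕ := vPt x ^^^ vPt y

/-- The code of a set. -/
noncomputable def pMask (m : ℕ) : ℕ := xorComb vI m 24

/-- The syndrome of a code. -/
noncomputable def lSyn (n : ℕ) : ℕ := xorComb (fun i => axSyn.getD i 0) n 11

theorem duads_mask : ∀ n : Fin 2048, inD axGamma n.1 = axDuads.testBit n.1 := by decide +kernel

theorem duads_listed : ∀ n : Fin 2048, axDuads.testBit n.1 = true →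
    ∃ x y : GolayPt, x ≠ y ∧ vI (ix x) ^^^ vI (ix y) = n.1 := by decide +kernel

/-- Every code comes from a set. -/
theorem pMask_span : ∀ n : Fin 2048, pMask (xorComb (fun i => axSpan.getD i 0) n.1 11) = n.1 ∧
    xorComb (fun i => axSpan.getD i 0) n.1 11 < 2 ^ 24 := by decide +kernel

end CfsgLib.ThreeTrans.LargeFischer
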