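import Cfsg.Agent.Lib.ThreeTrans.LargeFischer.EightSub
import Cfsg.Agent.Lib.Recog.TwoSymFourFacts
import Cfsg.Prelude.Def_Solvable

/-!
The normaliser of the elementary group of order eight: a special group of order `2 ^ 15` extended by
`SL(3, 2) × A₆` (owner: helper28).
-/

set_option autoImplicit false
set_option maxHeartbeats 1000000
set_option maxRecDepth 100000
set_option linter.unusedSectionVars false

namespace CfsgLib.ThreeTrans.LargeFischer

open Matrix Cfsg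
open CfsgLib.Recog.SporBound.Fi22U6 (F4)
open CfsgLib.Sporadic.U43Triple

local notation "V3" => (Fin 3 → ZMod 2)
local notation "SL32" => Matrix.SpecialLinearGroup (Fin 3) (ZMod 2)

/-- The scalar belonging to a pair of bits. -/
def emb2 (p q : ZMod 2) : F4 := (if p = 1 then 1 else 0) + (if q = 1 then F4.om else 0)

theorem emb2_facts : (∀ p q : ZMod 2, emb2 p q = 0 → p = 0 ∧ q = 0) ∧ (∀ a : F4, ∃ p q : ZMod 2, emb2 p q = a) := by
  constructor <;> decide +kernel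

theorem columns_of_det : ∀ a b c d : ZMod 2, a * d - b * c ≠ 0 →
    emb2 a c ≠ 0 ∧ emb2 b d ≠ 0 ∧ emb2 a c ≠ emb2 b d := by decide +kernel

theorem scalar_pair : ∀ a b : F4, a ≠ 0 → b ≠ 0 → a ≠ b → b = F4.om * a ∨ b = F4.om' * a := by decide +kernel

theorem two_cases : ∀ i : ZMod 2, i = 0 ∨ i = 1 := by decide

theorem sl_three_cycle : ∃ w : SL32, w ≠ 1 ∧ w ^ 3 = 1 := by
  refine ⟨⟨!![0, 0, 1; 1, 0, 0; 0, 1, 0], by decide +kernel⟩, fun h => ?_, Subtype.ext ?_⟩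
  · have := congrFun (congrFun (congrArg Subtype.val h) 0) 0
    revert this; decide +kernel
  · show (!![0, 0, 1; 1, 0, 0; 0, 1, 0] : Matrix (Fin 3) (Fin 3) (ZMod 2)) ^ 3 = 1
    decide +kernel

theorem alt_three_cycle : ∃ σ : ↥(alternatingGroup (Fin 6)), σ ≠ 1 ∧ σ ^ 3 = 1 :=
  ⟨⟨Equiv.swap (0 : Fin 6) 1 * Equiv.swap (1 : Fin 6) 2, Equiv.Perm.mem_alternatingGroup.2 (by decide +kernel)⟩,
    fun h => (by decide +kernel : Equiv.swap (0 : Fin 6) 1 * Equiv.swap (1 : Fin 6) 2 ≠ 1) (congrArg Subtype.val h),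
    Subtype.ext (by decide +kernel : (Equiv.swap (0 : Fin 6) 1 * Equiv.swap (1 : Fin 6) 2) ^ 3 = 1)⟩

/-- A power of a pair of an element of order two. -/
theorem pow_two_val {H : Type*} [Monoid H] {g : H} (h : g * g = 1) :
    ∀ a b : ZMod 2, g ^ (a + b).val = g ^ a.val * g ^ b.val := by
  have key : ∀ a b : ZMod 2, (a + b).val % 2 = (a.val + b.val) % 2 ∧ (a + b).val < 2 := by decide
  intro a b
  have hg : g ^ 2 = 1 := by rw [pow_two, h]
  rw [← pow_add, ← Nat.mod_add_div (a.val + b.val) 2, pow_add, pow_mul, hg, one_pow, mul_one, ← (key a b).1,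
    Nat.mod_eq_of_lt (key a b).2]

theorem eq_bot_of_two_group {H : Type*} [Group H] [IsSimpleGroup H] {S : Subgroup H} (hn : S.Normal)
    (h2 : IsPGroup 2 ↥S) {w : H} (hw : w ≠ 1) (hw3 : w ^ 3 = 1) : S = ⊥ := by
  rcases hn.eq_bot_or_eq_top with h | h
  · exact h
  obtain ⟨k, hk⟩ := h2 ⟨w, h ▸ Subgroup.mem_top w⟩
  have hk' : w ^ 2 ^ k = 1 := congrArg Subtype.val hk
  have h1 : orderOf w ∣ 2 ^ k := orderOf_dvd_of_pow_eq_one hk'
  have h3 : orderOf w ∣ 3 := orderOf_dvd_of_pow_eq_one hw3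
  have hg : orderOf w = 1 :=
    Nat.eq_one_of_dvd_coprimes (Nat.Coprime.pow_left k (by norm_num)) h1 h3
  exact absurd (orderOf_eq_one_iff.1 hg) hw

namespace Coord

variable {G : Type*} [Group G] [Finite G] {z : G} {Q : Subgroup G} (F : Coord z Q)

theorem z_ne_conj (c : ↥(Subgroup.centralizer ({z} : Set G))) : (c : G) * z * (c : G)⁻¹ = z := by
  rw [(mem_C_commute c).eq, mul_inv_cancel_right]

/-- The normaliser of the group of order eight. -/
def nEight : Subgroup G := Subgroup.normalizer (F.eight : Set G)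

variable {F} {g : G} (R : F.AtRoot g)
include R

theorem AtRoot.exists_frame : ∃ e : V3 → G, (∀ v, e v ∈ F.eight) ∧ (∀ u v, e (u + v) = e u * e v) ∧
    Function.Injective e ∧ (∀ w ∈ F.eight, ∃ v, e v = w) ∧ e ![1, 0, 0] = z ∧ e ![0, 1, 0] = g * z * g⁻¹ ∧
    ∀ (v : V3) (h : e v ∈ Q), F.ψ ⟨e v, h⟩ = emb2 (v 1) (v 2) • rootB := by
  obtain ⟨y, hy⟩ := F.surj (F4.om • rootB)
  have hym : (y : G) ∈ F.eight := ⟨y.2, F4.om, hy⟩
  have hc : ∀ {u v : G}, u ∈ F.eight → v ∈ F.eight → Commute u v := fun hu hv => (eight_elementary F hu hv).1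
  have hs : ∀ {u : G}, u ∈ F.eight → u * u = 1 := fun hu => (eight_elementary F hu hu).2
  set x := g * z * g⁻¹ with hx
  let e : V3 → G := fun v => z ^ (v 0).val * x ^ (v 1).val * (y : G) ^ (v 2).val
  have hmem : ∀ v, e v ∈ F.eight := fun v =>
    mul_mem (mul_mem (pow_mem F.z_mem_eight _) (pow_mem R.x_mem _)) (pow_mem hym _)
  have hadd : ∀ u v, e (u + v) = e u * e v := fun u v => by
    show z ^ (u 0 + v 0).val * x ^ (u 1 + v 1).val * (y : G) ^ (u 2 + v 2).val = _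
    rw [pow_two_val (hs F.z_mem_eight), pow_two_val (hs R.x_mem), pow_two_val (hs hym)]
    have c1 : Commute (x ^ (u 1).val) (z ^ (v 0).val) := ((hc R.x_mem F.z_mem_eight).pow_left _).pow_right _
    have c2 : Commute ((y : G) ^ (u 2).val) (z ^ (v 0).val * x ^ (v 1).val) :=
      (((hc hym F.z_mem_eight).pow_left _).pow_right _).mul_right (((hc hym R.x_mem).pow_left _).pow_right _)
    calc z ^ (u 0).val * z ^ (v 0).val * (x ^ (u 1).val * x ^ (v 1).val) * ((y : G) ^ (u 2).val * (y : G) ^ (v 2).val)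
        = z ^ (u 0).val * (z ^ (v 0).val * x ^ (u 1).val) * x ^ (v 1).val * ((y : G) ^ (u 2).val * (y : G) ^ (v 2).val) := by
          group
      _ = z ^ (u 0).val * (x ^ (u 1).val * z ^ (v 0).val) * x ^ (v 1).val * ((y : G) ^ (u 2).val * (y : G) ^ (v 2).val) := by
          rw [c1.eq]
      _ = z ^ (u 0).val * x ^ (u 1).val * (z ^ (v 0).val * x ^ (v 1).val * (y : G) ^ (u 2).val) * (y : G) ^ (v 2).val := by
          group
      _ = z ^ (u 0).val * x ^ (u 1).val * ((y : G) ^ (u 2).val * (z ^ (v 0).val * x ^ (v 1).val)) * (y : G) ^ (v 2).val := by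
          rw [c2.eq]
      _ = e u * e v := by show _ = (_ * _ * _) * (_ * _ * _); group
  have hval : ∀ (v : V3) (h : e v ∈ Q), F.ψ ⟨e v, h⟩ = emb2 (v 1) (v 2) • rootB := by
    intro v h
    have h2 : ∀ (q : ↥Q) (a : ZMod 2), F.ψ (q ^ a.val) = (if a = 1 then (1 : F4) else 0) • F.ψ q := fun q a => by
      have ha : a = 0 ∨ a = 1 := (by decide : ∀ a : ZMod 2, a = 0 ∨ a = 1) a
      rcases ha with rfl | rfl
      · rw [ZMod.val_zero, pow_zero, F.map_one, if_neg zero_ne_one, zero_smul]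
      · rw [ZMod.val_one, pow_one, if_pos rfl, one_smul]
    rw [show (⟨e v, h⟩ : ↥Q) = ⟨z, F.large.z_mem⟩ ^ (v 0).val * ⟨x, R.mem⟩ ^ (v 1).val * y ^ (v 2).val from
      Subtype.ext (by simp [e]), F.map_mul, F.map_mul, h2, h2, h2, R.root, hy,
      (F.eq_zero _).2 (Subgroup.mem_zpowers z), smul_zero, zero_add, smul_smul, emb2, add_smul]
    congr 1
    split_ifs <;> simp
  have hinj : Function.Injective e := fun u v h => by
    have h1 := hval (u + v) (F.eight_le (hmem _))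
    have h2 : e (u + v) = 1 := by rw [hadd, h, hs (hmem v)]
    have h3 : emb2 ((u + v) 1) ((u + v) 2) = 0 := smul_root_inj _ 0 (by
      rw [← h1, zero_smul, ← F.map_one]; exact congrArg F.ψ (Subtype.ext h2))
    obtain ⟨e1, e2⟩ := emb2_facts.1 _ _ h3
    have e0 : (u + v) 0 = 0 := by
      by_contra hne
      have he : (u + v) 0 = 1 := ((by decide : ∀ a : ZMod 2, a = 0 ∨ a = 1) _).resolve_left hne
      change z ^ ((u + v) 0).val * x ^ ((u + v) 1).val * (y : G) ^ ((u + v) 2).val = 1 at h2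
      rw [he, e1, e2, ZMod.val_one, ZMod.val_zero, pow_one, pow_zero, pow_zero, mul_one, mul_one] at h2
      exact F.large.z_ne_one h2
    have key : ∀ a b : ZMod 2, a + b = 0 → a = b := by decide
    funext i
    refine key _ _ ?_
    fin_cases i
    exacts [e0, e1, e2]
  refine ⟨e, hmem, hadd, hinj, fun w hw => ?_, ?_, ?_, hval⟩
  · have hcard : Nat.card ↥F.eight ≤ Nat.card V3 := by
      rw [R.card_eight, Nat.card_fun, Nat.card_fin, Nat.card_zmod]; norm_num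
    have hb := (Nat.bijective_iff_injective_and_card (fun v : V3 => (⟨e v, hmem v⟩ : ↥F.eight))).2
      ⟨fun u v h => hinj (congrArg (fun x : ↥F.eight => x.1) h), le_antisymm
        (Nat.card_le_card_of_injective (fun v : V3 => (⟨e v, hmem v⟩ : ↥F.eight))
          fun u v h => hinj (congrArg (fun x : ↥F.eight => x.1) h)) hcard⟩
    obtain ⟨v, hv⟩ := hb.2 ⟨w, hw⟩
    exact ⟨v, congrArg Subtype.val hv⟩
  · show z ^ (1 : ZMod 2).val * x ^ (0 : ZMod 2).val * (y : G) ^ (0 : ZMod 2).val = z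
    simp [ZMod.val_one]
  · show z ^ (0 : ZMod 2).val * x ^ (1 : ZMod 2).val * (y : G) ^ (0 : ZMod 2).val = x
    simp [ZMod.val_one]

theorem AtRoot.mem_nEight {l : G} (h : ∀ v ∈ F.eight, l * v * l⁻¹ ∈ F.eight) : l ∈ F.nEight := by
  have hf : Function.Injective fun v : ↥F.eight => (⟨l * v.1 * l⁻¹, h v.1 v.2⟩ : ↥F.eight) := fun a b e => by
    have := congrArg Subtype.val e
    simp only [mul_left_inj, mul_right_inj] at this
    exact Subtype.ext this
  rw [nEight, Subgroup.mem_normalizer_iff]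
  refine fun n => ⟨h n, fun hn => ?_⟩
  obtain ⟨v, hv⟩ := (Finite.injective_iff_surjective.1 hf) ⟨_, hn⟩
  have := congrArg Subtype.val hv
  simp only [mul_left_inj, mul_right_inj] at this
  exact this ▸ v.2

theorem AtRoot.exists_fixer {a b : F4} (ha : a ≠ 0) (hb : b ≠ 0) (hab : a ≠ b) :
    ∃ c : ↥(Subgroup.centralizer ({z} : Set G)), F.act c rootB = a • rootB ∧
      F.act c (F4.om • rootB) = b • rootB ∧ ∀ u : F4, ∃ u' : F4, F.act c (u • rootB) = u' • rootB := by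
  have hscal : DiagOK (fun _ : Fin 6 => a) := (by decide +kernel : ∀ a : F4, a ≠ 0 → DiagOK (fun _ : Fin 6 => a)) a ha
  obtain ⟨c, -, hc⟩ := F.lift _ (diag_le_triple (dElt_mem _ hscal))
  have hcv : ∀ v, F.act c v = a • v := fun v => by
    rw [hc, mat_dElt]
    exact funext fun i => Matrix.mulVec_diagonal _ v i
  rcases scalar_pair a b ha hb hab with rfl | rfl
  · exact ⟨c, hcv _, by rw [hcv, smul_smul, mul_comm], fun u => ⟨a * u, by rw [hcv, smul_smul]⟩⟩
  obtain ⟨e, he, heM⟩ := R.exists_outer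
  obtain ⟨t, -, ht⟩ := F.outer_form R.hg e heM
  have her : F.act e rootB = rootB := R.fix_of_commute (R.commute_side he)
  have hsm : ∀ u : F4, F.act e (u • rootB) = cj u • rootB := fun u => by
    have h1 : outV (true, true) (u • rootB) = cj u • outV (true, true) rootB := by
      funext i
      exact cj_mul u _
    rw [ht, h1, Matrix.mulVec_smul, ← ht, her]
  refine ⟨c * e, ?_, ?_, fun u => ⟨a * cj u, ?_⟩⟩
  · rw [_root_.map_mul, Equiv.Perm.mul_apply, her, hcv]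
  · rw [_root_.map_mul, Equiv.Perm.mul_apply, hsm, hcv, smul_smul, mul_comm]
    rfl
  · rw [_root_.map_mul, Equiv.Perm.mul_apply, hsm, hcv, smul_smul]

theorem AtRoot.exists_move_pair {x' y' : G} {a b : F4} (hx : x' ∈ Q) (hy : y' ∈ Q)
    (hxa : F.ψ ⟨x', hx⟩ = a • rootB) (hyb : F.ψ ⟨y', hy⟩ = b • rootB) (ha : a ≠ 0) (hb : b ≠ 0) (hab : a ≠ b)
    {y : ↥Q} (hy0 : F.ψ y = F4.om • rootB) :
    ∃ l ∈ F.nEight, l * z * l⁻¹ = z ∧ l * (g * z * g⁻¹) * l⁻¹ = x' ∧ l * y * l⁻¹ = y' := by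
  obtain ⟨c, hca, hcb, hline⟩ := R.exists_fixer ha hb hab
  have hx1 : ∀ {w w' : G} (hw : w ∈ Q) (hw' : w' ∈ Q), F.act c (F.ψ ⟨w, hw⟩) = F.ψ ⟨w', hw'⟩ →
      (c : G) * w * (c : G)⁻¹ = w' ∨ (c : G) * w * (c : G)⁻¹ = z * w' := fun {w w'} hw hw' h =>
    F.eq_or_of_eq (a := ⟨w', hw'⟩) (b := ⟨_, F.large.conj_mem (mem_C_commute c) hw⟩)
      (h.symm.trans (F.act_conj c ⟨w, hw⟩ ⟨_, F.large.conj_mem (mem_C_commute c) hw⟩ rfl))
  -- the corrections inside `Q`
  have hmove : ∀ {u w : G} (hu : u ∈ F.eight) (hw : w ∈ F.eight) {r r' : F4} (hu' : u ∈ Q) (hw' : w ∈ Q),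
      F.ψ ⟨u, hu'⟩ = r • rootB → F.ψ ⟨w, hw'⟩ = r' • rootB → r ≠ r' → r' ≠ 0 →
      ∃ q ∈ Q, Commute q u ∧ Commute q z ∧ q * w * q⁻¹ = z * w := by
    intro u w hu hw r r' hu' hw' er er' hne h0
    let M : Subgroup G :=
      { carrier := {m | ∃ h : m ∈ Q, F.ψ ⟨m, h⟩ = 0 ∨ F.ψ ⟨m, h⟩ = r • rootB}
        one_mem' := ⟨Q.one_mem, Or.inl F.map_one⟩
        mul_mem' := by
          rintro p p' ⟨hp, ep⟩ ⟨hp', ep'⟩
          refine ⟨Q.mul_mem hp hp', ?_⟩
          rw [show (⟨p * p', Q.mul_mem hp hp'⟩ : ↥Q) = ⟨p, hp⟩ * ⟨p', hp'⟩ from rfl, F.map_mul]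
          have h2 : (r • rootB : V6) + r • rootB = 0 := funext fun i => (by decide +kernel : ∀ a : F4, a + a = 0) _
          rcases ep with ep | ep <;> rcases ep' with ep' | ep' <;> rw [ep, ep']
          exacts [Or.inl (add_zero _), Or.inr (zero_add _), Or.inr (add_zero _), Or.inl h2]
        inv_mem' := by
          rintro p ⟨hp, ep⟩
          refine ⟨Q.inv_mem hp, ?_⟩
          have h : F.ψ (⟨p, hp⟩ : ↥Q)⁻¹ + F.ψ ⟨p, hp⟩ = 0 := by rw [← F.map_mul, inv_mul_cancel, F.map_one]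
          have key : ∀ x y : F4, x + y = 0 → x = y := by decide +kernel
          rw [show (⟨p⁻¹, Q.inv_mem hp⟩ : ↥Q) = (⟨p, hp⟩ : ↥Q)⁻¹ from rfl,
            show F.ψ (⟨p, hp⟩ : ↥Q)⁻¹ = F.ψ ⟨p, hp⟩ from funext fun i => key _ _ (congrFun h i)]
          exact ep }
    have hMQ : M ≤ Q := fun m hm => hm.1
    have hzM : z ∈ M := ⟨F.large.z_mem, Or.inl ((F.eq_zero _).2 (Subgroup.mem_zpowers z))⟩
    have hwM : w ∉ M := by
      rintro ⟨hwQ, hc | hc⟩
      · exact h0 (smul_root_inj _ _ (by rw [← er', zero_smul]; exact hc))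
      · exact hne (smul_root_inj _ _ (by rw [← er']; exact hc.symm))
    obtain ⟨q, hq, hqM, hqw⟩ := F.large.exists_transvection hMQ hzM hw' hwM
    exact ⟨q, hq, hqM u ⟨hu', Or.inr er⟩, F.large.commute_z hq, hqw⟩
  have hxm : x' ∈ F.eight := ⟨hx, a, hxa⟩
  have hym : y' ∈ F.eight := ⟨hy, b, hyb⟩
  have hn : (c : G) ∈ F.nEight := R.mem_nEight fun v hv => by
    obtain ⟨hvQ, u, eu⟩ := hv
    obtain ⟨u', hu'⟩ := hline u
    refine ⟨F.large.conj_mem (mem_C_commute c) hvQ, u', ?_⟩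
    rw [← F.act_conj c ⟨v, hvQ⟩ ⟨_, F.large.conj_mem (mem_C_commute c) hvQ⟩ rfl, eu, hu']
  have hnQ : ∀ q ∈ Q, q ∈ F.nEight := fun q hq => R.mem_nEight fun v hv => by
    rcases F.large.conj_eq_or hq hv.1 with h | h <;> rw [h]
    exacts [hv, mul_mem F.z_mem_eight hv]
  -- first the image of the second generator
  obtain ⟨l, hl, hlz, hlx, hly⟩ : ∃ l ∈ F.nEight, l * z * l⁻¹ = z ∧ l * (g * z * g⁻¹) * l⁻¹ = x' ∧
      (l * y * l⁻¹ = y' ∨ l * y * l⁻¹ = z * y') := by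
    have h2 := hx1 y.2 hy (by rw [hy0, hcb, hyb])
    rcases hx1 R.mem hx (by rw [R.root, hca, hxa]) with h | h
    · exact ⟨c, hn, z_ne_conj c, h, h2⟩
    · obtain ⟨q, hq, hqy, hqz, hqx⟩ := hmove hym hxm hy hx hyb hxa (Ne.symm hab) ha
      refine ⟨q * c, mul_mem (hnQ q hq) hn, ?_, ?_, ?_⟩
      · rw [show q * (c : G) * z * (q * (c : G))⁻¹ = q * ((c : G) * z * (c : G)⁻¹) * q⁻¹ by group, z_ne_conj c,
          hqz.eq, mul_inv_cancel_right]
      · rw [show q * (c : G) * (g * z * g⁻¹) * (q * (c : G))⁻¹ = q * ((c : G) * (g * z * g⁻¹) * (c : G)⁻¹) * q⁻¹ by group,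
          h, ← conj_mul, hqz.eq, mul_inv_cancel_right, hqx, ← mul_assoc, F.large.mul_self_z, one_mul]
      · rw [show q * (c : G) * y * (q * (c : G))⁻¹ = q * ((c : G) * y * (c : G)⁻¹) * q⁻¹ by group]
        rcases h2 with h2 | h2 <;> rw [h2]
        · exact Or.inl (by rw [hqy.eq, mul_inv_cancel_right])
        · exact Or.inr (by rw [← conj_mul, hqz.eq, mul_inv_cancel_right, hqy.eq, mul_inv_cancel_right])
  rcases hly with hly | hly
  · exact ⟨l, hl, hlz, hlx, hly⟩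
  obtain ⟨q, hq, hqx, hqz, hqy⟩ := hmove hxm hym hx hy hxa hyb hab hb
  refine ⟨q * l, mul_mem (hnQ q hq) hl, ?_, ?_, ?_⟩
  · rw [show q * l * z * (q * l)⁻¹ = q * (l * z * l⁻¹) * q⁻¹ by group, hlz, hqz.eq, mul_inv_cancel_right]
  · rw [show q * l * (g * z * g⁻¹) * (q * l)⁻¹ = q * (l * (g * z * g⁻¹) * l⁻¹) * q⁻¹ by group, hlx, hqx.eq,
      mul_inv_cancel_right]
  · rw [show q * l * y * (q * l)⁻¹ = q * (l * y * l⁻¹) * q⁻¹ by group, hly, ← conj_mul, hqz.eq,
      mul_inv_cancel_right, hqy, ← mul_assoc, F.large.mul_self_z, one_mul]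

theorem AtRoot.exists_phi : ∃ φ : ↥F.nEight →* SL32, Function.Surjective φ ∧
    (∀ l, φ l = 1 ↔ (l : G) ∈ F.cEight) ∧
    ∀ v ∈ F.eight, v ≠ 1 → ∃ l ∈ F.nEight, l * z * l⁻¹ = v := by
  classical
  obtain ⟨e, hmem, hadd, hinj, hsur, he0, he1, hval⟩ := R.exists_frame
  have he00 : e 0 = 1 := by
    have := hadd 0 0
    rwa [add_zero, left_eq_mul] at this
  have hnorm : ∀ (l : ↥F.nEight) v, (l : G) * e v * (l : G)⁻¹ ∈ F.eight := fun l v =>
    (Subgroup.mem_normalizer_iff.1 l.2 _).1 (hmem v)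
  choose f hf using fun (l : ↥F.nEight) v => hsur _ (hnorm l v)
  let lin : ↥F.nEight → (V3 →ₗ[ZMod 2] V3) := fun l => AddMonoidHom.toZModLinearMap 2
    { toFun := f l
      map_zero' := hinj (by rw [hf, he00, mul_one, mul_inv_cancel])
      map_add' := fun u v => hinj (by rw [hf, hadd, hadd, hf, hf, conj_mul]) }
  have hlin : ∀ l v, lin l v = f l v := fun l v => rfl
  have hmat : ∀ l v, (LinearMap.toMatrix' (lin l)) *ᵥ v = f l v := fun l v => by
    rw [← Matrix.toLin'_apply, Matrix.toLin'_toMatrix', hlin]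
  have hinjl : ∀ l, Function.Injective (lin l) := fun l u v h => by
    rw [hlin, hlin] at h
    have h2 := congrArg e h
    rw [hf, hf] at h2
    exact hinj (mul_left_cancel (mul_right_cancel h2))
  have hdet : ∀ l, (LinearMap.toMatrix' (lin l)).det = 1 := fun l => by
    have h0 : (LinearMap.toMatrix' (lin l)).det ≠ 0 := fun h => by
      obtain ⟨v, hv, hv0⟩ := Matrix.exists_mulVec_eq_zero_iff.2 h
      rw [hmat, ← hlin] at hv0
      exact hv (hinjl l (by rw [hv0, map_zero]))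
    exact ((by decide : ∀ a : ZMod 2, a = 0 ∨ a = 1) _).resolve_left h0
  let φ : ↥F.nEight →* SL32 := MonoidHom.mk' (fun l => ⟨_, hdet l⟩) fun a b => Subtype.ext (by
    show LinearMap.toMatrix' (lin (a * b)) = LinearMap.toMatrix' (lin a) * LinearMap.toMatrix' (lin b)
    rw [← LinearMap.toMatrix'_comp]
    refine congrArg _ (LinearMap.ext fun v => hinj ?_)
    rw [LinearMap.comp_apply, hlin, hlin, hlin, hf, hf, hf, Subgroup.coe_mul]
    group)
  have hφ : ∀ l v, e ((φ l).1 *ᵥ v) = (l : G) * e v * (l : G)⁻¹ := fun l v => by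
    rw [show (φ l).1 = LinearMap.toMatrix' (lin l) from rfl, hmat, hf]
  have hker : ∀ l, φ l = 1 ↔ (l : G) ∈ F.cEight := by
    intro l
    constructor
    · intro h
      rw [F.mem_cEight]
      intro w hw
      obtain ⟨v, rfl⟩ := hsur w hw
      refine mul_inv_eq_iff_eq_mul.1 ?_
      rw [← hφ, h, Matrix.SpecialLinearGroup.coe_one, Matrix.one_mulVec]
    · intro h
      refine Subtype.ext (Matrix.toLin'.injective (LinearMap.ext fun v => hinj ?_))
      rw [Matrix.toLin'_apply, Matrix.toLin'_apply, hφ, Matrix.SpecialLinearGroup.coe_one, Matrix.one_mulVec,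
        (F.mem_cEight.1 h _ (hmem v)).eq, mul_inv_cancel_right]
  obtain ⟨y, hy⟩ : ∃ y : ↥Q, (y : G) = e ![0, 0, 1] := ⟨⟨_, F.eight_le (hmem _)⟩, rfl⟩
  have hy0 : F.ψ y = F4.om • rootB := by
    rw [show y = ⟨e ![0, 0, 1], F.eight_le (hmem _)⟩ from Subtype.ext hy, hval]
    congr 1
  have hpair : ∀ p q : V3, p 1 * q 2 - q 1 * p 2 ≠ 0 → ∃ l : ↥F.nEight,
      (φ l).1 *ᵥ ![1, 0, 0] = ![1, 0, 0] ∧ (φ l).1 *ᵥ ![0, 1, 0] = p ∧ (φ l).1 *ᵥ ![0, 0, 1] = q := by
    intro p q h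
    obtain ⟨h1, h2, h3⟩ := columns_of_det _ _ _ _ h
    obtain ⟨l, hl, k1, k2, k3⟩ := R.exists_move_pair (F.eight_le (hmem p)) (F.eight_le (hmem q)) (hval p _)
      (hval q _) h1 h2 h3 hy0
    refine ⟨⟨l, hl⟩, hinj ?_, hinj ?_, hinj ?_⟩
    · rw [hφ, he0]; exact k1
    · rw [hφ, he1]; exact k2
    · rw [hφ, ← hy]; exact k3
  have horb : ∀ v : V3, v ≠ 0 → ∃ l : ↥F.nEight, (φ l).1 *ᵥ ![1, 0, 0] = v := by
    intro v hv
    obtain ⟨-, -, r, hr, -, hrz⟩ := R.pair.exists_moves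
    have hrn : r ∈ F.nEight := R.mem_nEight fun w hw => by
      rcases R.pair.hp.conj_eq_or hr (R.eight_le_right hw) with h | h <;> rw [h]
      exacts [hw, mul_mem R.x_mem hw]
    have hr1 : (φ ⟨r, hrn⟩).1 *ᵥ ![1, 0, 0] = ![1, 1, 0] := hinj (by
      rw [hφ, he0, hrz, show (![1, 1, 0] : V3) = ![0, 1, 0] + ![1, 0, 0] by decide, hadd, he1, he0])
    by_cases hv0 : v 1 = 0 ∧ v 2 = 0
    · have key : ∀ v : V3, v ≠ 0 → v 1 = 0 ∧ v 2 = 0 → v = ![1, 0, 0] := by decide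
      exact ⟨1, by rw [_root_.map_one, Matrix.SpecialLinearGroup.coe_one, Matrix.one_mulVec]; exact (key v hv hv0).symm⟩
    · obtain ⟨q, hq⟩ : ∃ q : V3, (v + (![1, 0, 0] : V3)) 1 * q 2 - q 1 * (v + (![1, 0, 0] : V3)) 2 ≠ 0 :=
        (by decide : ∀ v : V3, ¬ (v 1 = 0 ∧ v 2 = 0) → ∃ q : V3, (v + (![1, 0, 0] : V3)) 1 * q 2 - q 1 * (v + (![1, 0, 0] : V3)) 2 ≠ 0) v hv0
      obtain ⟨l, k1, k2, -⟩ := hpair _ q hq
      refine ⟨l * ⟨r, hrn⟩, ?_⟩
      rw [_root_.map_mul, Matrix.SpecialLinearGroup.coe_mul, ← Matrix.mulVec_mulVec, hr1,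
        show (![1, 1, 0] : V3) = ![1, 0, 0] + ![0, 1, 0] by decide, Matrix.mulVec_add, k1, k2, add_comm v,
        ← add_assoc, show (![1, 0, 0] : V3) + ![1, 0, 0] = 0 by decide, zero_add]
  refine ⟨φ, fun M => ?_, hker, fun v hv hv1 => ?_⟩
  · have hM : M.1 *ᵥ ![1, 0, 0] ≠ 0 := fun h => by
      have h2 := congrArg (fun u => (M⁻¹).1 *ᵥ u) h
      simp only [Matrix.mulVec_mulVec, ← Matrix.SpecialLinearGroup.coe_mul, inv_mul_cancel,
        Matrix.SpecialLinearGroup.coe_one, Matrix.one_mulVec, Matrix.mulVec_zero] at h2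
      exact (by decide : (![1, 0, 0] : V3) ≠ 0) h2
    obtain ⟨r, hr⟩ := horb _ hM
    set N := (φ r)⁻¹ * M with hN
    have h0 : N.1 *ᵥ ![1, 0, 0] = ![1, 0, 0] := by
      rw [hN, Matrix.SpecialLinearGroup.coe_mul, ← Matrix.mulVec_mulVec, ← hr, Matrix.mulVec_mulVec,
        ← Matrix.SpecialLinearGroup.coe_mul, inv_mul_cancel, Matrix.SpecialLinearGroup.coe_one, Matrix.one_mulVec]
    have hdetN : N.1 1 1 * N.1 2 2 - N.1 1 2 * N.1 2 1 ≠ 0 := by
      have h1 : N.1 1 0 = 0 ∧ N.1 2 0 = 0 ∧ N.1 0 0 = 1 := by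
        refine ⟨?_, ?_, ?_⟩
        · have := congrFun h0 1; simpa [Matrix.mulVec, dotProduct, Fin.sum_univ_three] using this
        · have := congrFun h0 2; simpa [Matrix.mulVec, dotProduct, Fin.sum_univ_three] using this
        · have := congrFun h0 0; simpa [Matrix.mulVec, dotProduct, Fin.sum_univ_three] using this
      have hd := N.2
      rw [Matrix.det_fin_three, h1.1, h1.2.1, h1.2.2] at hd
      intro h
      simp only [mul_zero, zero_mul, add_zero, sub_zero, one_mul] at hd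
      rw [h] at hd
      exact zero_ne_one hd
    obtain ⟨l, k0, k1, k2⟩ := hpair (N.1 *ᵥ ![0, 1, 0]) (N.1 *ᵥ ![0, 0, 1]) (by
      simpa [Matrix.mulVec, dotProduct, Fin.sum_univ_three, mul_comm] using hdetN)
    refine ⟨r * l, ?_⟩
    rw [_root_.map_mul, show φ l = N from ?_, hN, mul_inv_cancel_left]
    refine Subtype.ext (Matrix.toLin'.injective ?_)
    apply (Pi.basisFun (ZMod 2) (Fin 3)).ext
    intro i
    rw [Pi.basisFun_apply, Matrix.toLin'_apply, Matrix.toLin'_apply]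
    fin_cases i
    · rw [show (Pi.single (⟨0, _⟩ : Fin 3) (1 : ZMod 2) : V3) = ![1, 0, 0] by decide, k0, h0]
    · rw [show (Pi.single (⟨1, _⟩ : Fin 3) (1 : ZMod 2) : V3) = ![0, 1, 0] by decide, k1]
    · rw [show (Pi.single (⟨2, _⟩ : Fin 3) (1 : ZMod 2) : V3) = ![0, 0, 1] by decide, k2]
  · obtain ⟨u, rfl⟩ := hsur v hv
    obtain ⟨l, hl⟩ := horb u fun h => hv1 (by rw [h, he00])
    have h3 := hφ l ![1, 0, 0]
    rw [he0, hl] at h3
    exact ⟨l, l.2, h3.symm⟩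

theorem AtRoot.local_structure : ∃ Φ : ↥F.nEight →* SL32 × ↥(alternatingGroup (Fin 6)),
    Function.Surjective Φ ∧ (∀ l, Φ l = 1 ↔ (l : G) ∈ F.rEight) ∧
    pCore 2 ↥F.nEight = F.rEight.subgroupOf F.nEight := by
  classical
  haveI : Fact (Nat.Prime 2) := ⟨Nat.prime_two⟩
  haveI : IsSimpleGroup ↥(alternatingGroup (Fin 6)) := alternatingGroup.isSimpleGroup (by simp)
  haveI : IsSimpleGroup SL32 := (CfsgLib.Recog.TwoSFour.seven_simple (MulEquiv.refl SL32)).1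
  obtain ⟨σ, hσ, hσ3⟩ := alt_three_cycle
  obtain ⟨φ, hφ, hφker, -⟩ := R.exists_phi
  obtain ⟨α, hα, hαker⟩ := exists_alt R
  have hC : ∀ c ∈ F.cEight, ∀ (h : c ∈ Subgroup.centralizer ({z} : Set G)),
      (⟨c, h⟩ : ↥(Subgroup.centralizer ({z} : Set G))) ∈ fixM R := by
    intro c hc h
    refine (mem_fixM R).2 ⟨?_, F.mem_cEight.1 hc _ R.x_mem⟩
    by_contra hM
    obtain ⟨t, -, ht⟩ := F.outer_form R.hg _ hM
    obtain ⟨b, hb⟩ := F.surj (F4.om • rootB)
    have h1 := F.act_conj ⟨c, h⟩ b b (by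
      show (b : G) = c * b * c⁻¹
      rw [(F.mem_cEight.1 hc b ⟨b.2, F4.om, hb⟩).eq, mul_inv_cancel_right])
    rw [hb, ht, outV_om_smul, Matrix.mulVec_smul, ← ht, R.fix_of_commute (F.mem_cEight.1 hc _ R.x_mem)] at h1
    exact absurd (smul_root_inj _ _ h1) (by decide +kernel)
  let a : ↥F.cEight →* ↥(alternatingGroup (Fin 6)) :=
    α.comp (MonoidHom.mk' (fun c => (⟨⟨c.1, F.cEight_le c.2⟩, hC c.1 c.2 _⟩ : ↥(fixM R))) fun _ _ => rfl)
  have hU : ∀ {e : ↥(Subgroup.centralizer ({z} : Set G))}, e ∈ side z Q g → e ∈ F.M → F.InU e := by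
    intro e he hM
    obtain ⟨t, ht, hte⟩ := F.act_M e hM
    obtain ⟨n, rfl⟩ := R.tripleImage_le ⟨ht, e, he, hte⟩
    exact ⟨n, hte⟩
  have haker : ∀ c : ↥F.cEight, a c = 1 ↔ (c : G) ∈ F.rEight := by
    intro c
    rw [show a c = α ⟨⟨c.1, F.cEight_le c.2⟩, hC c.1 c.2 _⟩ from rfl, hαker]
    constructor
    · rintro ⟨e, he, hce⟩
      have hM : e ∈ F.M := by
        by_contra hM
        obtain ⟨t, -, ht⟩ := F.outer_form R.hg e hM
        obtain ⟨u, -, hu⟩ := F.act_M _ ((mem_fixM R).1 (hC c.1 c.2 (F.cEight_le c.2))).1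
        exact not_linear fun v => by rw [← ht, ← hce, hu]
      obtain ⟨n, hn⟩ := hU he hM
      exact ⟨c.2, n, fun v => by rw [hce, hn]⟩
    · rintro ⟨hc, n, hn⟩
      obtain ⟨-, e, he, hen⟩ := R.image_uElt n
      exact ⟨e, he, Equiv.ext fun v => by rw [hn, hen]⟩
  have hasurj : Function.Surjective a := by
    intro p
    obtain ⟨⟨c, hcf⟩, rfl⟩ := hα p
    obtain ⟨hM, hcx⟩ := (mem_fixM R).1 hcf
    obtain ⟨t, -, hct⟩ := F.act_M c hM
    obtain ⟨y, hy⟩ := F.surj (F4.om • rootB)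
    have hfix : F.act c (F.ψ y) = F.ψ y := by
      rw [hy, hct, Matrix.mulVec_smul, ← hct, R.fix_of_commute hcx]
    let y' : ↥Q := ⟨(c : G) * y * (c : G)⁻¹, F.large.conj_mem (mem_C_commute c) y.2⟩
    have hy' : F.ψ y' = F.ψ y := (F.act_conj c y y' rfl).symm.trans hfix
    have hmem : ∀ (d : ↥(Subgroup.centralizer ({z} : Set G))), Commute (d : G) (g * z * g⁻¹) → Commute (d : G) y →
        (d : G) ∈ F.cEight := fun d hdx hdy => F.mem_cEight.2 fun v ⟨hv, r, hr⟩ => by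
      obtain ⟨p, q, rfl⟩ := emb2_facts.2 r
      have hx : (g * z * g⁻¹) ^ p.val * (y : G) ^ q.val ∈ Q := Q.mul_mem (Q.pow_mem R.mem _) (Q.pow_mem y.2 _)
      have h2 : ∀ (w : ↥Q) (i : ZMod 2), F.ψ (w ^ i.val) = (if i = 1 then (1 : F4) else 0) • F.ψ w := fun w i => by
        rcases two_cases i with rfl | rfl
        · rw [ZMod.val_zero, pow_zero, F.map_one, if_neg zero_ne_one, zero_smul]
        · rw [ZMod.val_one, pow_one, if_pos rfl, one_smul]
      have heq : F.ψ ⟨_, hx⟩ = F.ψ ⟨v, hv⟩ := by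
        rw [show (⟨_, hx⟩ : ↥Q) = ⟨_, R.mem⟩ ^ p.val * y ^ q.val from Subtype.ext (by simp), F.map_mul, h2, h2,
          R.root, hy, hr, emb2, add_smul, smul_smul]
        congr 2
        split_ifs <;> simp
      rcases F.eq_or_of_eq heq with h | h <;> (rw [show v = _ from h])
      · exact (hdx.pow_right _).mul_right (hdy.pow_right _)
      · exact (mem_C_commute d).mul_right ((hdx.pow_right _).mul_right (hdy.pow_right _))
    rcases F.eq_or_of_eq hy'.symm with h | h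
    · exact ⟨⟨c, hmem c hcx (mul_inv_eq_iff_eq_mul.1 h)⟩, rfl⟩
    · let M : Subgroup G := R.pair.four
      have hne : (y : G) ∉ M := fun hm => by
        have h0 : ∀ r : F4, F.ψ y = r • rootB → r = F4.om := fun r hr => smul_root_inj _ _ (by rw [← hr, hy])
        have hz0 : F.ψ ⟨z, F.large.z_mem⟩ = 0 := (F.eq_zero _).2 (Subgroup.mem_zpowers z)
        rcases R.pair.mem_four.1 hm with k | k | k | k
        · exact absurd (h0 0 (by rw [show y = 1 from Subtype.ext k, F.map_one, zero_smul])) (by decide +kernel)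
        · exact absurd (h0 0 (by rw [show y = ⟨z, F.large.z_mem⟩ from Subtype.ext k, hz0, zero_smul])) (by decide +kernel)
        · exact absurd (h0 1 (by rw [show y = ⟨_, R.mem⟩ from Subtype.ext k, R.root, one_smul])) (by decide +kernel)
        · exact absurd (h0 1 (by rw [show y = ⟨z, F.large.z_mem⟩ * ⟨_, R.mem⟩ from Subtype.ext k, F.map_mul, hz0,
            zero_add, R.root, one_smul])) (by decide +kernel)
      obtain ⟨q, hq, hqM, hqy⟩ := F.large.exists_transvection R.pair.four_le_left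
        (R.pair.mem_four.2 (Or.inr (Or.inl rfl))) y.2 hne
      let qC : ↥(Subgroup.centralizer ({z} : Set G)) := ⟨q, F.large.le_centralizer hq⟩
      have hqx : Commute q (g * z * g⁻¹) := hqM _ (R.pair.mem_four.2 (Or.inr (Or.inr (Or.inl rfl))))
      have hd : ((qC * c : ↥(Subgroup.centralizer ({z} : Set G))) : G) ∈ F.cEight := by
        refine hmem _ (hqx.mul_left hcx) (mul_inv_eq_iff_eq_mul.1 ?_)
        show q * (c : G) * y * (q * (c : G))⁻¹ = y
        rw [show q * (c : G) * y * (q * (c : G))⁻¹ = q * ((c : G) * y * (c : G)⁻¹) * q⁻¹ by group,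
          show (c : G) * y * (c : G)⁻¹ = z * y from h, ← conj_mul, (F.large.commute_z hq).eq, mul_inv_cancel_right,
          hqy, ← mul_assoc, F.large.mul_self_z, one_mul]
      refine ⟨⟨_, hd⟩, ?_⟩
      have hqf : qC ∈ fixM R := (mem_fixM R).2 ⟨F.mem_M_of_mem R.hg hq, hqx⟩
      show α (⟨qC * c, hC _ hd _⟩ : ↥(fixM R)) = _
      rw [show (⟨qC * c, hC _ hd _⟩ : ↥(fixM R)) = ⟨qC, hqf⟩ * ⟨c, hcf⟩ from rfl, _root_.map_mul,
        (hαker ⟨qC, hqf⟩).2 ⟨1, one_mem _, by rw [(F.act_eq_one qC).2 hq, _root_.map_one]⟩, one_mul]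
  have hconj : ∀ (l : ↥F.nEight) {c : G}, c ∈ F.cEight → (l : G) * c * (l : G)⁻¹ ∈ F.cEight := by
    intro l c hc
    have h0 : φ ⟨c, ?_⟩ = 1 := (hφker _).2 hc
    · exact (hφker (l * ⟨c, _⟩ * l⁻¹)).1 (by rw [_root_.map_mul, _root_.map_mul, h0, mul_one, map_inv, mul_inv_cancel])
    · exact R.mem_nEight fun v hv => by rw [(F.mem_cEight.1 hc v hv).eq, mul_inv_cancel_right]; exact hv
  let conjA : ↥F.nEight → ↥F.cEight → ↥F.cEight := fun l c => ⟨(l : G) * c * (l : G)⁻¹, hconj l c.2⟩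
  have hconjmul : ∀ l c d, conjA l (c * d) = conjA l c * conjA l d := fun l c d => Subtype.ext (conj_mul ..).symm
  have hR2 : IsPGroup 2 ↥F.rEight := IsPGroup.of_card (n := 15) R.card_rEight
  have hRn : ∀ (l : ↥F.nEight) (c : ↥F.cEight), a c = 1 → a (conjA l c) = 1 := by
    intro l c hc
    let θ : ↥F.cEight →* ↥(alternatingGroup (Fin 6)) := a.comp (MonoidHom.mk' (conjA l) (hconjmul l))
    have hθ : Function.Surjective θ := fun p => by
      obtain ⟨d, hd⟩ := hasurj p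
      refine ⟨conjA l⁻¹ d, ?_⟩
      rw [← hd]
      refine congrArg a (Subtype.ext ?_)
      show (l : G) * ((l : G)⁻¹ * d * (l : G)⁻¹⁻¹) * (l : G)⁻¹ = d
      group
    have hS : (a.ker.map θ).Normal := (inferInstance : a.ker.Normal).map θ hθ
    have h2 : IsPGroup 2 ↥(a.ker.map θ) := by
      refine IsPGroup.map ?_ θ
      refine hR2.of_injective (MonoidHom.mk' (fun k : ↥a.ker => (⟨k.1.1, (haker k.1).1 k.2⟩ : ↥F.rEight))
        fun _ _ => rfl) fun k k' h => Subtype.ext (Subtype.ext (congrArg (fun x : ↥F.rEight => x.1) h))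
    have h := eq_bot_of_two_group hS h2 hσ hσ3
    exact Subgroup.mem_bot.1 (h ▸ ⟨c, hc, rfl⟩ : θ c ∈ (⊥ : Subgroup ↥(alternatingGroup (Fin 6))))
  let K : Subgroup ↥F.nEight :=
    { carrier := {l | ∀ c, a (conjA l c) = a c}
      one_mem' := fun c => congrArg a (Subtype.ext (by simp [conjA]))
      mul_mem' := fun {l l'} hl hl' c => by
        rw [← hl' c, ← hl (conjA l' c)]
        exact congrArg a (Subtype.ext (by simp [conjA, mul_assoc]))
      inv_mem' := fun {l} hl c => by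
        rw [← hl (conjA l⁻¹ c)]
        exact congrArg a (Subtype.ext (by simp [conjA, mul_assoc])) }
  have hKn : K.Normal := ⟨fun k hk h c => by
    have hc1 : conjA h (conjA h⁻¹ c) = c := Subtype.ext (by simp [conjA, mul_assoc])
    have hd : a (conjA k (conjA h⁻¹ c) * (conjA h⁻¹ c)⁻¹) = 1 := by
      rw [_root_.map_mul, map_inv, hk, mul_inv_cancel]
    have h2 := hRn h _ hd
    rw [hconjmul, _root_.map_mul] at h2
    have h3 : conjA h ((conjA h⁻¹ c)⁻¹) = c⁻¹ := Subtype.ext (by simp [conjA, mul_assoc])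
    rw [h3, map_inv, mul_inv_eq_one] at h2
    rw [← h2]
    exact congrArg a (Subtype.ext (by simp [conjA, mul_assoc]))⟩
  have hkc : ∀ (k : ↥F.nEight) (hk : k ∈ K) (hc : (k : G) ∈ F.cEight), a ⟨k, hc⟩ = 1 := by
    intro k hk hc
    have hall : ∀ p, a ⟨k, hc⟩ * p = p * a ⟨k, hc⟩ := fun p => by
      obtain ⟨d, rfl⟩ := hasurj p
      have h := hk d
      rw [show conjA k d = ⟨k, hc⟩ * d * ⟨k, hc⟩⁻¹ from rfl, _root_.map_mul, _root_.map_mul, map_inv,
        mul_inv_eq_iff_eq_mul] at h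
      exact h
    have hcen : a ⟨k, hc⟩ ∈ Subgroup.center ↥(alternatingGroup (Fin 6)) :=
      Subgroup.mem_center_iff.2 fun p => (hall p).symm
    rcases (show (Subgroup.center ↥(alternatingGroup (Fin 6))).Normal from inferInstance).eq_bot_or_eq_top with h | h
    · rwa [h, Subgroup.mem_bot] at hcen
    · exfalso
      have h1 : ∀ p q : ↥(alternatingGroup (Fin 6)), p * q = q * p := fun p q =>
        Subgroup.mem_center_iff.1 (h.ge (Subgroup.mem_top q)) p
      let s : ↥(alternatingGroup (Fin 6)) :=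
        ⟨Equiv.swap (0 : Fin 6) 1 * Equiv.swap (1 : Fin 6) 2, Equiv.Perm.mem_alternatingGroup.2 (by decide +kernel)⟩
      let t : ↥(alternatingGroup (Fin 6)) :=
        ⟨Equiv.swap (0 : Fin 6) 1 * Equiv.swap (1 : Fin 6) 3, Equiv.Perm.mem_alternatingGroup.2 (by decide +kernel)⟩
      exact (by decide +kernel : (Equiv.swap (0 : Fin 6) 1 * Equiv.swap (1 : Fin 6) 2) *
          (Equiv.swap (0 : Fin 6) 1 * Equiv.swap (1 : Fin 6) 3) ≠
        (Equiv.swap (0 : Fin 6) 1 * Equiv.swap (1 : Fin 6) 3) * (Equiv.swap (0 : Fin 6) 1 * Equiv.swap (1 : Fin 6) 2))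
        (congrArg Subtype.val (h1 s t))
  -- a scalar element lies in `K` and moves the group of order eight
  have hj : ∃ k ∈ K, φ k ≠ 1 := by
    have hscal : DiagOK (fun _ : Fin 6 => F4.om) := by decide +kernel
    obtain ⟨c, -, hc⟩ := F.lift _ (diag_le_triple (dElt_mem _ hscal))
    have hcv : ∀ v, F.act c v = F4.om • v := fun v => by
      rw [hc, mat_dElt]
      exact funext fun i => Matrix.mulVec_diagonal _ v i
    have hcn : (c : G) ∈ F.nEight := R.mem_nEight fun v ⟨hv, r, hr⟩ => by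
      refine ⟨F.large.conj_mem (mem_C_commute c) hv, F4.om * r, ?_⟩
      rw [← F.act_conj c ⟨v, hv⟩ ⟨_, F.large.conj_mem (mem_C_commute c) hv⟩ rfl, hr, hcv, smul_smul]
    refine ⟨⟨c, hcn⟩, fun d => ?_, fun h => ?_⟩
    · rw [← mul_inv_eq_one, ← map_inv, ← _root_.map_mul, haker]
      refine ⟨(conjA ⟨c, hcn⟩ d * d⁻¹).2, 0, fun v => ?_⟩
      obtain ⟨u, -, hu⟩ := F.act_M _ ((mem_fixM R).1 (hC d.1 d.2 (F.cEight_le d.2))).1
      have key : F.act (c * ⟨d.1, F.cEight_le d.2⟩ * c⁻¹) = F.act ⟨d.1, F.cEight_le d.2⟩ := by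
        rw [_root_.map_mul, _root_.map_mul, map_inv, mul_inv_eq_iff_eq_mul]
        exact Equiv.ext fun w => by rw [Equiv.Perm.mul_apply, Equiv.Perm.mul_apply, hcv, hcv, hu, hu, Matrix.mulVec_smul]
      show F.act (c * ⟨d.1, F.cEight_le d.2⟩ * c⁻¹ * ⟨d.1, F.cEight_le d.2⟩⁻¹) v = _
      rw [_root_.map_mul, key, map_inv, mul_inv_cancel, uElt_zero, mat_one, Matrix.one_mulVec]
      rfl
    · have h1 := R.fix_of_commute (c := c) (F.mem_cEight.1 ((hφker _).1 h) _ R.x_mem)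
      rw [hcv] at h1
      exact absurd (smul_root_inj F4.om 1 (by rw [one_smul]; exact h1)) (by decide +kernel)
  have hKtop : K.map φ = ⊤ := by
    refine ((hKn.map φ hφ).eq_bot_or_eq_top).resolve_left fun h => ?_
    obtain ⟨k, hk, hne⟩ := hj
    exact hne (Subgroup.mem_bot.1 (h ▸ ⟨k, hk, rfl⟩))
  have hdec : ∀ l : ↥F.nEight, ∃ k ∈ K, ∃ c : ↥F.cEight, (l : G) = k * c := fun l => by
    obtain ⟨k, hk, ek⟩ : φ l ∈ K.map φ := hKtop ▸ Subgroup.mem_top _
    refine ⟨k, hk, ⟨((k⁻¹ * l : ↥F.nEight) : G), (hφker _).1 (by rw [_root_.map_mul, map_inv, ek, inv_mul_cancel])⟩, ?_⟩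
    show (l : G) = (k : G) * ((k : G)⁻¹ * l)
    rw [mul_inv_cancel_left]
  choose kf hkf cf hcf using hdec
  have hwell : ∀ (l : ↥F.nEight) (k : ↥F.nEight) (_ : k ∈ K) (c : ↥F.cEight), (l : G) = k * c → a (cf l) = a c := by
    intro l k hk c h
    have h1 : (k : G) * c = kf l * cf l := h.symm.trans (hcf l)
    have h2 : (((kf l)⁻¹ * k : ↥F.nEight) : G) = ((cf l * c⁻¹ : ↥F.cEight) : G) := by
      show (kf l : G)⁻¹ * k = (cf l : G) * (c : G)⁻¹
      rw [eq_mul_inv_iff_mul_eq, mul_assoc, h1, inv_mul_cancel_left]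
    have hc : (((kf l)⁻¹ * k : ↥F.nEight) : G) ∈ F.cEight := by rw [h2]; exact (cf l * c⁻¹).2
    have h3 := hkc _ (K.mul_mem (K.inv_mem (hkf l)) hk) hc
    rw [show (⟨_, hc⟩ : ↥F.cEight) = cf l * c⁻¹ from Subtype.ext h2, _root_.map_mul, map_inv,
      mul_inv_eq_one] at h3
    exact h3
  let β : ↥F.nEight →* ↥(alternatingGroup (Fin 6)) := MonoidHom.mk' (fun l => a (cf l)) fun l l' => by
    rw [← (show a (conjA (kf l')⁻¹ (cf l)) = a (cf l) from K.inv_mem (hkf l') (cf l)), ← _root_.map_mul]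
    refine hwell (l * l') (kf l * kf l') (K.mul_mem (hkf l) (hkf l')) _ ?_
    show (l : G) * l' = (kf l : G) * kf l' * ((kf l' : G)⁻¹ * cf l * (kf l' : G)⁻¹⁻¹ * cf l')
    rw [hcf l, hcf l']
    group
  have hβc : ∀ (c : ↥F.cEight) (h : (c : G) ∈ F.nEight), β ⟨c, h⟩ = a c := fun c h =>
    hwell _ 1 K.one_mem c (by simp)
  refine ⟨φ.prod β, fun p => ?_, fun l => ?_, ?_⟩
  · obtain ⟨l, hl⟩ := hφ p.1
    obtain ⟨c, hc⟩ := hasurj ((β l)⁻¹ * p.2)
    have hcn : (c : G) ∈ F.nEight := R.mem_nEight fun v hv => by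
      rw [(F.mem_cEight.1 c.2 v hv).eq, mul_inv_cancel_right]; exact hv
    refine ⟨l * ⟨c, hcn⟩, Prod.ext ?_ ?_⟩
    · show φ (l * ⟨c, hcn⟩) = p.1
      rw [_root_.map_mul, hl, (hφker _).2 c.2, mul_one]
    · show β (l * ⟨c, hcn⟩) = p.2
      rw [_root_.map_mul, hβc, hc, mul_inv_cancel_left]
  · rw [Prod.ext_iff]
    constructor
    · rintro ⟨h1, h2⟩
      have hc : (l : G) ∈ F.cEight := (hφker l).1 h1
      exact (haker ⟨l, hc⟩).1 ((hβc ⟨l, hc⟩ l.2).symm.trans h2)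
    · intro h
      refine ⟨(hφker l).2 h.1, ?_⟩
      exact (hβc ⟨l, h.1⟩ l.2).trans ((haker ⟨l, h.1⟩).2 h)
  · obtain ⟨k, -, hk⟩ := hj
    refine le_antisymm (sSup_le ?_) (le_sSup ⟨?_, ?_⟩)
    · rintro N ⟨hN, hN2⟩ l hl
      obtain ⟨w, hw, hw3⟩ := sl_three_cycle
      have e1 := eq_bot_of_two_group (hN.map φ hφ) (hN2.map φ) hw hw3
      have hβs : Function.Surjective β := fun p => by
        obtain ⟨c, hc⟩ := hasurj p
        exact ⟨⟨c, R.mem_nEight fun v hv => by rw [(F.mem_cEight.1 c.2 v hv).eq, mul_inv_cancel_right]; exact hv⟩,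
          (hβc c _).trans hc⟩
      have e2 := eq_bot_of_two_group (hN.map β hβs) (hN2.map β) hσ hσ3
      have h1 : φ l = 1 := Subgroup.mem_bot.1 (e1 ▸ ⟨l, hl, rfl⟩)
      have h2 : β l = 1 := Subgroup.mem_bot.1 (e2 ▸ ⟨l, hl, rfl⟩)
      have hc : (l : G) ∈ F.cEight := (hφker l).1 h1
      exact Subgroup.mem_subgroupOf.2 ((haker ⟨l, hc⟩).1 ((hβc ⟨l, hc⟩ l.2).symm.trans h2))
    · refine ⟨fun x hx h => ?_⟩
      rw [Subgroup.mem_subgroupOf] at hx ⊢
      exact (haker ⟨_, hconj h hx.1⟩).1 (hRn h ⟨x, hx.1⟩ ((haker ⟨x, hx.1⟩).2 hx))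
    · exact hR2.comap_of_injective F.nEight.subtype F.nEight.subtype_injective

end Coord

end CfsgLib.ThreeTrans.LargeFischer
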