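import Cfsg.Agent.Lib.ThreeTrans.LargeFischer.Stabiliser
import Cfsg.Agent.Lib.PGroups.Basic

/-!
The elementary group of order eight over the point of a conjugate of the central involution, and the
centraliser of it (owner: helper28).
-/

set_option autoImplicit false
set_option maxHeartbeats 1000000
set_option maxRecDepth 100000
set_option linter.unusedSectionVars false

namespace CfsgLib.ThreeTrans.LargeFischer

open Matrix Cfsg
open CfsgLib.Recog.SporBound.Fi22U6 (F4)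
open CfsgLib.Sporadic.U43Triple

/-- A row killing the root. -/
def rootRow : V6 := ![1, 1, 0, 0, 0, 0]

theorem row_cert : ∀ i, ((uLit 1 + 1)ᵀ *ᵥ rootRow) i = cj (rootB i) := by decide +kernel

theorem row_root : rootRow ⬝ᵥ rootB = 0 := by decide +kernel

theorem hf_root_of_move {v : V6} (h : (uLit 1 + 1) *ᵥ v = 0 ∨ (uLit 1 + 1) *ᵥ v = rootB) : hf v rootB = 0 := by
  have e : hf v rootB = rootRow ⬝ᵥ ((uLit 1 + 1) *ᵥ v) := by
    rw [Matrix.dotProduct_mulVec, ← Matrix.mulVec_transpose, hf_eq, dotProduct]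
    exact Finset.sum_congr rfl fun i _ => by rw [row_cert, mul_comm]
  rcases h with h | h <;> rw [e, h]
  · exact dotProduct_zero _
  · exact row_root

/-- The projection onto the vectors orthogonal to the root. -/
def perpPr : Mat := rows [[1, 0, 0, 0, 0, 0], [0, 1, 0, 0, 0, 0], [0, 0, 1, 0, 0, 0], [1, 1, 1, 0, 0, 0],
  [0, 0, 0, 0, 1, 0], [0, 0, 0, 0, 0, 1]]

theorem perp_image : ∀ n : Fin 16, ∀ j : Fin 6, ((uLit n + 1) * perpPr) 4 j = 0 ∧ ((uLit n + 1) * perpPr) 5 j = 0 ∧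
    ((uLit n + 1) * perpPr) 1 j = ((uLit n + 1) * perpPr) 0 j ∧
    ((uLit n + 1) * perpPr) 2 j = ((uLit n + 1) * perpPr) 0 j ∧
    ((uLit n + 1) * perpPr) 3 j = ((uLit n + 1) * perpPr) 0 j := by decide +kernel

theorem perpPr_eq : perpPr = 1 + Matrix.of fun (i j : Fin 6) => if i = 3 then cj (rootB j) else 0 := by
  decide +kernel

theorem perpPr_fix {v : V6} (h : hf v rootB = 0) : perpPr *ᵥ v = v := by
  have h0 : (Matrix.of fun (i j : Fin 6) => if i = 3 then cj (rootB j) else 0) *ᵥ v = 0 := by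
    funext i
    show ∑ j, (if i = 3 then cj (rootB j) else 0) * v j = 0
    by_cases hi : i = 3
    · rw [← h, hf_eq]
      exact Finset.sum_congr rfl fun j _ => by rw [if_pos hi, mul_comm]
    · exact Finset.sum_eq_zero fun j _ => by rw [if_neg hi, zero_mul]
  rw [perpPr_eq, Matrix.add_mulVec, Matrix.one_mulVec, h0, add_zero]

theorem move_perp (n : Fin 16) {v : V6} (h : hf v rootB = 0) : ∃ a : F4, mat (uElt n) *ᵥ v + v = a • rootB := by
  refine ⟨((uLit n + 1) *ᵥ v) 0, ?_⟩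
  have e : mat (uElt n) *ᵥ v + v = (uLit n + 1) *ᵥ v := by
    rw [Matrix.add_mulVec, Matrix.one_mulVec, mat_uElt]
  rw [e, ← perpPr_fix h, Matrix.mulVec_mulVec]
  have hp := perp_image n
  funext i
  simp only [Matrix.mulVec, dotProduct, Pi.smul_apply, smul_eq_mul]
  fin_cases i
  · simp [rootB]
  · simp [rootB, fun j => (hp j).2.2.1]
  · simp [rootB, fun j => (hp j).2.2.2.1]
  · simp [rootB, fun j => (hp j).2.2.2.2]
  · simp [rootB, fun j => (hp j).1]
  · simp [rootB, fun j => (hp j).2.1]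

/-- Vectors orthogonal to the root moved by each element. -/
def witnessCode : Fin 16 → ℕ := ![0, 5, 17, 5, 5, 17, 5, 256, 17, 5, 256, 5, 5, 256, 5, 17]

theorem witness_ok : ∀ n : Fin 16, n ≠ 0 →
    hf (vec6 (witnessCode n)) rootB = 0 ∧ uLit n *ᵥ vec6 (witnessCode n) ≠ vec6 (witnessCode n) := by
  simp only [hf_eq]
  decide +kernel

theorem uLit_root : ∀ (n : Fin 16) (a : F4), uLit n *ᵥ (a • rootB) = a • rootB := by
  intro n a
  rw [Matrix.mulVec_smul, ← mat_uElt, (genGroup_le (uElt_mem n)).2]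

theorem uElt_zero : uElt 0 = 1 := mat_injective (by rw [mat_uElt, uLit_zero, mat_one])

theorem smul_root_inj : ∀ a b : F4, a • rootB = b • rootB → a = b := by decide +kernel

theorem hf_smul_root (v : V6) (a : F4) : hf v (a • rootB) = cj a * hf v rootB := by
  rw [hf_eq, hf_eq, Finset.mul_sum]
  exact Finset.sum_congr rfl fun i _ => by rw [Pi.smul_apply, smul_eq_mul, cj_mul, mul_left_comm]

theorem real_pair : ∀ a : F4, cj a = a → cj (cj F4.om * a) = cj F4.om * a → a = 0 := by decide +kernel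

namespace Coord

variable {G : Type*} [Group G] {z : G} {Q : Subgroup G} (F : Coord z Q)

/-- The preimage of the point of the root. -/
def eight : Subgroup G where
  carrier := {v | ∃ h : v ∈ Q, ∃ a : F4, F.ψ ⟨v, h⟩ = a • rootB}
  one_mem' := ⟨Q.one_mem, 0, by rw [zero_smul]; exact F.map_one⟩
  mul_mem' := by
    rintro u v ⟨hu, a, ea⟩ ⟨hv, b, eb⟩
    refine ⟨Q.mul_mem hu hv, a + b, ?_⟩
    rw [add_smul, ← ea, ← eb]
    exact F.map_mul ⟨u, hu⟩ ⟨v, hv⟩
  inv_mem' := by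
    rintro u ⟨hu, a, ea⟩
    refine ⟨Q.inv_mem hu, a, ?_⟩
    rw [← ea]
    have h : F.ψ (⟨u, hu⟩ : ↥Q)⁻¹ + F.ψ ⟨u, hu⟩ = 0 := by rw [← F.map_mul, inv_mul_cancel, F.map_one]
    have key : ∀ x y : F4, x + y = 0 → x = y := by decide +kernel
    exact funext fun i => key _ _ (congrFun h i)

theorem mem_eight {v : G} : v ∈ F.eight ↔ ∃ h : v ∈ Q, ∃ a : F4, F.ψ ⟨v, h⟩ = a • rootB := Iff.rfl

theorem z_mem_eight : z ∈ F.eight :=
  ⟨F.large.z_mem, 0, by rw [zero_smul]; exact (F.eq_zero _).2 (Subgroup.mem_zpowers z)⟩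

theorem eight_le : F.eight ≤ Q := fun _ h => h.1

theorem commute_eight {q : ↥Q} (h : hf (F.ψ q) rootB = 0) {v : G} (hv : v ∈ F.eight) : Commute (q : G) v := by
  obtain ⟨hQ, a, ea⟩ := hv
  refine (F.commute_iff q ⟨v, hQ⟩).2 ?_
  rw [ea, hf_smul_root, h, mul_zero, cj_zero]

theorem perp_of_commute {q : ↥Q} (h : ∀ v ∈ F.eight, Commute (q : G) v) : hf (F.ψ q) rootB = 0 := by
  obtain ⟨a, ha⟩ := F.surj rootB
  obtain ⟨b, hb⟩ := F.surj (F4.om • rootB)
  have h1 := (F.commute_iff q a).1 (h a ⟨a.2, 1, by rw [one_smul, ← ha]⟩)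
  have h2 := (F.commute_iff q b).1 (h b ⟨b.2, F4.om, by rw [← hb]⟩)
  rw [ha] at h1
  rw [hb, hf_smul_root] at h2
  exact real_pair _ h1 h2

/-- The centraliser of the group of order eight. -/
def cEight : Subgroup G := Subgroup.centralizer (F.eight : Set G)

theorem mem_cEight {c : G} : c ∈ F.cEight ↔ ∀ v ∈ F.eight, Commute c v := by
  rw [cEight, Subgroup.mem_centralizer_iff]
  exact ⟨fun h v hv => (h v hv).symm, fun h v hv => (h v hv).symm⟩

theorem cEight_le : F.cEight ≤ Subgroup.centralizer ({z} : Set G) := fun c hc =>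
  mem_centralizer_singleton_iff'.2 (F.mem_cEight.1 hc z F.z_mem_eight).eq

/-- An element of the centralizer acting as one of the sixteen. -/
def InU (c : ↥(Subgroup.centralizer ({z} : Set G))) : Prop := ∃ n, ∀ v, F.act c v = mat (uElt n) *ᵥ v

/-- The elements of the centraliser acting as one of the sixteen. -/
def rEight : Subgroup G where
  carrier := {c | ∃ h : c ∈ F.cEight, F.InU ⟨c, F.cEight_le h⟩}
  one_mem' := ⟨one_mem _, 0, fun v => by
    show F.act 1 v = _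
    rw [_root_.map_one, uElt_zero, mat_one, Matrix.one_mulVec]; rfl⟩
  mul_mem' := by
    rintro a b ⟨ha, n, hn⟩ ⟨hb, m, hm⟩
    refine ⟨mul_mem ha hb, uAdd n m, fun v => ?_⟩
    show F.act (⟨a, F.cEight_le ha⟩ * ⟨b, F.cEight_le hb⟩) v = _
    rw [_root_.map_mul, Equiv.Perm.mul_apply, hm, hn, Matrix.mulVec_mulVec, ← mat_mul, uElt_mul]
  inv_mem' := by
    rintro a ⟨ha, n, hn⟩
    refine ⟨inv_mem ha, n, fun v => ?_⟩
    show F.act (⟨a, F.cEight_le ha⟩⁻¹) v = _
    have h2 : ∀ n, uAdd n n = 0 := by decide +kernel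
    rw [map_inv, Equiv.Perm.inv_eq_iff_eq, hn, Matrix.mulVec_mulVec, ← mat_mul, uElt_mul, h2, uElt_zero, mat_one,
      Matrix.one_mulVec]

theorem rEight_le : F.rEight ≤ F.cEight := fun _ h => h.1

theorem inf_le_rEight : Q ⊓ F.cEight ≤ F.rEight := fun c hc => ⟨hc.2, 0, fun v => by
  rw [(F.act_eq_one _).2 hc.1, uElt_zero, mat_one, Matrix.one_mulVec]; rfl⟩

variable {F} [Finite G] {g : G} (R : F.AtRoot g)
include R

theorem AtRoot.x_mem : g * z * g⁻¹ ∈ F.eight := ⟨R.mem, 1, by rw [one_smul]; exact R.root⟩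

theorem AtRoot.eight_le_right : F.eight ≤ Q.map (MulAut.conj g).toMonoidHom := by
  rintro v ⟨hv, a, ea⟩
  have hzP : z ∈ Q.map (MulAut.conj g).toMonoidHom := R.pair.hzP
  refine (inf_le_right : Q ⊓ Q.map (MulAut.conj g).toMonoidHom ≤ _) (F.large.mem_of_double_centralizer inf_le_left
    ⟨F.large.z_mem, hzP⟩ hv fun q hq hcom => ?_)
  have hqM : q ∈ Q ⊓ Q.map (MulAut.conj g).toMonoidHom := by
    have hcard := CfsgLib.PGroups.IsExtraspecial.card_centralizer_mul_card F.large.hE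
      (A := (Q ⊓ Q.map (MulAut.conj g).toMonoidHom).subgroupOf Q) (fun w hw => by
        rw [F.large.center_mem_iff] at hw
        exact Subgroup.mem_subgroupOf.2 ⟨w.2, Subgroup.zpowers_le.2 hzP hw⟩)
    rw [Nat.card_congr (Subgroup.subgroupOfEquivOfLe inf_le_left).toEquiv, R.counts.2.1, F.card] at hcard
    have hab : (Q ⊓ Q.map (MulAut.conj g).toMonoidHom).subgroupOf Q ≤
        Subgroup.centralizer ((Q ⊓ Q.map (MulAut.conj g).toMonoidHom).subgroupOf Q : Set ↥Q) := fun a ha =>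
      Subgroup.mem_centralizer_iff.2 fun b hb => Subtype.ext (by
        have := R.pair.inf_elementary.1.1.comm (⟨(b : G), Subgroup.mem_subgroupOf.1 hb⟩ : ↥(Q ⊓ Q.map (MulAut.conj g).toMonoidHom))
          ⟨(a : G), Subgroup.mem_subgroupOf.1 ha⟩
        exact (congrArg (fun w : ↥(Q ⊓ Q.map (MulAut.conj g).toMonoidHom) => (w : G)) this :))
    have heq := Subgroup.eq_of_le_of_card_ge hab (by
      rw [Nat.card_congr (Subgroup.subgroupOfEquivOfLe inf_le_left).toEquiv, R.counts.2.1]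
      omega)
    have hq' : (⟨q, hq⟩ : ↥Q) ∈ Subgroup.centralizer ((Q ⊓ Q.map (MulAut.conj g).toMonoidHom).subgroupOf Q : Set ↥Q) :=
      Subgroup.mem_centralizer_iff.2 fun b hb => Subtype.ext (hcom b (Subgroup.mem_subgroupOf.1 hb)).eq.symm
    exact Subgroup.mem_subgroupOf.1 (heq.ge hq')
  have hperp : hf (F.ψ ⟨q, hq⟩) rootB = 0 := by
    obtain ⟨-, e, he, het⟩ := R.image_uElt 1
    refine hf_root_of_move ?_
    have hcalc : (uLit 1 + 1) *ᵥ F.ψ ⟨q, hq⟩ = F.ψ ⟨(e : G) * q * (e : G)⁻¹, F.large.conj_mem (mem_C_commute e) hq⟩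
        + F.ψ ⟨q, hq⟩ := by
      rw [Matrix.add_mulVec, Matrix.one_mulVec, ← mat_uElt, ← het]
      exact congrArg (· + F.ψ ⟨q, hq⟩)
        (F.act_conj e ⟨q, hq⟩ ⟨_, F.large.conj_mem (mem_C_commute e) hq⟩ rfl)
    rcases R.pair.hp.conj_eq_or (R.mem_side.1 he) hqM.2 with h1 | h1
    · left
      rw [hcalc]
      simp only [h1]
      exact funext fun i => (by decide +kernel : ∀ a : F4, a + a = 0) _
    · right
      rw [hcalc]
      simp only [h1]
      have h2 : (⟨g * z * g⁻¹ * q, Q.mul_mem R.mem hq⟩ : ↥Q) = ⟨g * z * g⁻¹, R.mem⟩ * ⟨q, hq⟩ := rfl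
      rw [h2, F.map_mul, R.root]
      exact funext fun i => (by decide +kernel : ∀ a b : F4, a + b + b = a) _ _
  exact F.commute_eight hperp ⟨hv, a, ea⟩

theorem AtRoot.cEight_conj {c : G} (hc : c ∈ F.cEight) :
    ∀ p ∈ Q.map (MulAut.conj g).toMonoidHom, c * p * c⁻¹ ∈ Q.map (MulAut.conj g).toMonoidHom := fun _ hp =>
  R.pair.hp.conj_mem (F.mem_cEight.1 hc _ R.x_mem) hp

theorem AtRoot.exists_right (n : Fin 16) : ∃ e : G, e ∈ Q.map (MulAut.conj g).toMonoidHom ∧ ∃ h : e ∈ F.cEight,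
    ∀ v, F.act ⟨e, F.cEight_le h⟩ v = mat (uElt n) *ᵥ v := by
  obtain ⟨-, e, he, het⟩ := R.image_uElt n
  have hc : (e : G) ∈ F.cEight := by
    rw [F.mem_cEight]
    rintro v hv
    have hvP := R.eight_le_right hv
    obtain ⟨hvQ, a, ea⟩ := hv
    rcases R.pair.hp.conj_eq_or (R.mem_side.1 he) hvP with h1 | h1
    · exact mul_inv_eq_iff_eq_mul.1 h1
    · exfalso
      have h2 := F.act_conj e ⟨v, hvQ⟩ ⟨g * z * g⁻¹ * v, Q.mul_mem R.mem hvQ⟩ h1.symm
      rw [show (⟨g * z * g⁻¹ * v, Q.mul_mem R.mem hvQ⟩ : ↥Q) = ⟨g * z * g⁻¹, R.mem⟩ * ⟨v, hvQ⟩ from rfl, F.map_mul,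
        R.root, ea, het, mat_uElt, uLit_root] at h2
      exact (roots_ok.2.2.2.2.2.1) (add_eq_right.1 h2.symm)
  exact ⟨e, R.mem_side.1 he, hc, het⟩

theorem AtRoot.card_eight : Nat.card ↥F.eight = 8 := by
  classical
  choose s hs using fun a : F4 => F.surj (a • rootB)
  let f : F4 × Bool → ↥F.eight := fun p => ⟨(if p.2 then z else 1) * (s p.1 : G),
    mul_mem (by split; exacts [F.z_mem_eight, one_mem _]) ⟨(s p.1).2, p.1, hs p.1⟩⟩
  have hf : Function.Bijective f := by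
    constructor
    · rintro ⟨a, i⟩ ⟨b, j⟩ e
      have e' : (if i then z else 1) * (s a : G) = (if j then z else 1) * (s b : G) := congrArg Subtype.val e
      have hval : ∀ (a : F4) (i : Bool) (h : (if i then z else 1) * (s a : G) ∈ Q),
          F.ψ ⟨(if i then z else 1) * (s a : G), h⟩ = a • rootB := by
        intro a i h
        cases i
        · rw [← hs a]; exact congrArg F.ψ (Subtype.ext (one_mul _))
        · rw [show (⟨(if true = true then z else 1) * (s a : G), h⟩ : ↥Q) = ⟨z, F.large.z_mem⟩ * s a from rfl,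
            F.map_mul, (F.eq_zero _).2 (Subgroup.mem_zpowers z), zero_add, hs]
      have hm := (f (b, j)).2.1
      obtain rfl : a = b := smul_root_inj _ _ (by
        rw [← hval a i (f (a, i)).2.1, ← hval b j hm]
        exact congrArg F.ψ (Subtype.ext e'))
      have := mul_right_cancel e'
      cases i <;> cases j
      · rfl
      · exact absurd this.symm F.large.z_ne_one
      · exact absurd this F.large.z_ne_one
      · rfl
    · rintro ⟨v, hv, a, ea⟩
      rcases F.eq_or_of_eq (a := s a) (b := ⟨v, hv⟩) ((hs a).trans ea.symm) with e | e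
      · exact ⟨(a, false), Subtype.ext ((one_mul _).trans e.symm)⟩
      · exact ⟨(a, true), Subtype.ext e.symm⟩
  rw [← Nat.card_congr (Equiv.ofBijective f hf), Nat.card_prod, Nat.card_eq_fintype_card, F4.card,
    Nat.card_eq_fintype_card, Fintype.card_bool]
  norm_num

omit R in
theorem eight_elementary (F : Coord z Q) {u v : G} (hu : u ∈ F.eight) (hv : v ∈ F.eight) :
    Commute u v ∧ u * u = 1 := by
  obtain ⟨hQ, a, ea⟩ := hu
  have h0 : hf rootB rootB = 0 := by rw [hf_eq]; decide +kernel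
  have h1 : hf (a • rootB) rootB = 0 := by
    have : hf (a • rootB) rootB = a * hf rootB rootB := by
      rw [hf_eq, hf_eq, Finset.mul_sum]
      exact Finset.sum_congr rfl fun i _ => by rw [Pi.smul_apply, smul_eq_mul, mul_assoc]
    rw [this, h0, mul_zero]
  refine ⟨F.commute_eight (q := ⟨u, hQ⟩) (by rw [ea]; exact h1) hv, (F.sq_eq_one ⟨u, hQ⟩).1 ?_⟩
  rw [ea, hf_smul_root, h1, mul_zero]

theorem AtRoot.card_left : Nat.card ↥(Q ⊓ F.cEight) = 2 ^ 11 := by
  haveI : Fact (Nat.Prime 2) := ⟨Nat.prime_two⟩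
  have hcard := CfsgLib.PGroups.IsExtraspecial.card_centralizer_mul_card F.large.hE
    (A := F.eight.subgroupOf Q) (fun w hw => by
      rw [F.large.center_mem_iff] at hw
      exact Subgroup.mem_subgroupOf.2 (Subgroup.zpowers_le.2 F.z_mem_eight hw))
  rw [Nat.card_congr (Subgroup.subgroupOfEquivOfLe F.eight_le).toEquiv, R.card_eight, F.card] at hcard
  have he : Subgroup.centralizer (F.eight.subgroupOf Q : Set ↥Q) = (Q ⊓ F.cEight).subgroupOf Q := by
    ext q
    rw [Subgroup.mem_centralizer_iff, Subgroup.mem_subgroupOf, Subgroup.mem_inf, F.mem_cEight]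
    refine ⟨fun h => ⟨q.2, fun v hv => ?_⟩, fun h w hw => Subtype.ext (h.2 w (Subgroup.mem_subgroupOf.1 hw)).eq.symm⟩
    exact (congrArg Subtype.val (h ⟨v, F.eight_le hv⟩ (Subgroup.mem_subgroupOf.2 hv))).symm
  rw [he, Nat.card_congr (Subgroup.subgroupOfEquivOfLe inf_le_left).toEquiv] at hcard
  omega

theorem AtRoot.exists_product {r : G} (hr : r ∈ F.rEight) :
    ∃ e ∈ Q.map (MulAut.conj g).toMonoidHom ⊓ F.cEight, ∃ q ∈ Q ⊓ F.cEight, r = e * q := by
  obtain ⟨hc, n, hn⟩ := hr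
  obtain ⟨e, he, hec, hen⟩ := R.exists_right n
  refine ⟨e, ⟨he, hec⟩, e⁻¹ * r, ⟨?_, F.cEight.mul_mem (F.cEight.inv_mem hec) hc⟩, by rw [mul_inv_cancel_left]⟩
  have h1 : F.act (⟨e, F.cEight_le hec⟩⁻¹ * ⟨r, F.cEight_le hc⟩) = 1 := by
    rw [_root_.map_mul, map_inv, inv_mul_eq_one]
    exact Equiv.ext fun v => by rw [hen, hn]
  exact (F.act_eq_one _).1 h1

theorem AtRoot.right_le_rEight : Q.map (MulAut.conj g).toMonoidHom ⊓ F.cEight ≤ F.rEight := by
  intro e he
  let c : ↥(Subgroup.centralizer ({z} : Set G)) := ⟨e, F.cEight_le he.2⟩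
  have hside : c ∈ side z Q g := R.mem_side.2 he.1
  have hM : c ∈ F.M := by
    by_contra hM
    obtain ⟨t, -, ht⟩ := F.outer_form R.hg c hM
    obtain ⟨b, hb⟩ := F.surj (F4.om • rootB)
    have h1 := F.act_conj c b b (by
      have := F.mem_cEight.1 he.2 b ⟨b.2, F4.om, hb⟩
      show (b : G) = e * b * e⁻¹
      rw [this.eq, mul_inv_cancel_right])
    rw [hb, ht, outV_om_smul, Matrix.mulVec_smul, ← ht, R.fix_of_commute (R.commute_side hside)] at h1
    exact absurd (smul_root_inj _ _ h1) (by decide +kernel)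
  obtain ⟨t, ht, hte⟩ := F.act_M c hM
  obtain ⟨n, rfl⟩ := R.tripleImage_le ⟨ht, c, hside, hte⟩
  exact ⟨he.2, n, hte⟩

theorem AtRoot.card_rEight : Nat.card ↥F.rEight = 2 ^ 15 := by
  choose e he hec hen using R.exists_right
  let f : Fin 16 × ↥(Q ⊓ F.cEight) → ↥F.rEight := fun p =>
    ⟨e p.1 * p.2, mul_mem ⟨hec p.1, p.1, hen p.1⟩ (F.inf_le_rEight p.2.2)⟩
  have hf : Function.Bijective f := by
    constructor
    · rintro ⟨n, q⟩ ⟨m, q'⟩ h
      have h' : e n * q = e m * q' := congrArg Subtype.val h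
      have hn : ∀ v, mat (uElt n) *ᵥ v = mat (uElt m) *ᵥ v := fun v => by
        rw [← hen, ← hen]
        have h2 := congrArg F.act (show (⟨e n, F.cEight_le (hec n)⟩ * ⟨q.1, F.cEight_le q.2.2⟩ :
            ↥(Subgroup.centralizer ({z} : Set G))) = ⟨e m, F.cEight_le (hec m)⟩ * ⟨q'.1, F.cEight_le q'.2.2⟩
          from Subtype.ext h')
        rw [_root_.map_mul, _root_.map_mul, (F.act_eq_one ⟨q.1, F.cEight_le q.2.2⟩).2 q.2.1, (F.act_eq_one ⟨q'.1, F.cEight_le q'.2.2⟩).2 q'.2.1, mul_one, mul_one] at h2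
        rw [h2]
      obtain rfl : n = m := uElt_injective (mulVec_ext hn)
      exact Prod.ext rfl (Subtype.ext (mul_left_cancel h'))
    · rintro ⟨r, hc, n, hn⟩
      refine ⟨(n, ⟨(e n)⁻¹ * r, ?_, F.cEight.mul_mem (F.cEight.inv_mem (hec n)) hc⟩), Subtype.ext (mul_inv_cancel_left _ _)⟩
      have h1 : F.act (⟨e n, F.cEight_le (hec n)⟩⁻¹ * ⟨r, F.cEight_le hc⟩) = 1 := by
        rw [_root_.map_mul, map_inv, inv_mul_eq_one]
        exact Equiv.ext fun v => by rw [hen, hn]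
      exact (F.act_eq_one _).1 h1
  rw [← Nat.card_congr (Equiv.ofBijective f hf), Nat.card_prod, Nat.card_fin, R.card_left]
  norm_num

theorem AtRoot.center_rEight : (Subgroup.center ↥F.rEight).map F.rEight.subtype = F.eight := by
  refine le_antisymm ?_ fun v hv => ?_
  · rintro _ ⟨⟨c, hcc, n, hn⟩, hcen, rfl⟩
    have hcomm : ∀ q ∈ Q ⊓ F.cEight, Commute c q := fun q hq =>
      (congrArg Subtype.val (Subgroup.mem_center_iff.1 hcen ⟨q, F.inf_le_rEight hq⟩)).symm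
    have h0 : n = 0 := by
      by_contra hne
      obtain ⟨hp, hne'⟩ := witness_ok n hne
      obtain ⟨q, hq⟩ := F.surj (vec6 (witnessCode n))
      rw [← hq] at hp hne'
      refine hne' ?_
      rw [← mat_uElt, ← hn]
      refine F.act_conj _ q q ?_
      show (q : G) = c * q * c⁻¹
      rw [(hcomm q ⟨q.2, F.mem_cEight.2 fun v hv => F.commute_eight hp hv⟩).eq, mul_inv_cancel_right]
    have hcQ : c ∈ Q := (F.act_eq_one ⟨c, F.cEight_le hcc⟩).1 (Equiv.ext fun v => by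
      rw [hn, h0, uElt_zero, mat_one, Matrix.one_mulVec]; rfl)
    exact F.large.mem_of_double_centralizer F.eight_le F.z_mem_eight hcQ fun q hq hm =>
      (hcomm q ⟨hq, F.mem_cEight.2 hm⟩).symm
  · have hvc : v ∈ F.cEight := F.mem_cEight.2 fun w hw => (eight_elementary F hv hw).1
    refine ⟨⟨v, F.inf_le_rEight ⟨F.eight_le hv, hvc⟩⟩, Subgroup.mem_center_iff.2 fun r => Subtype.ext ?_, rfl⟩
    exact (F.mem_cEight.1 r.2.1 v hv).eq

theorem AtRoot.mixed {e q : G} (he : e ∈ Q.map (MulAut.conj g).toMonoidHom ⊓ F.cEight) (hq : q ∈ Q ⊓ F.cEight) :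
    e * q * e⁻¹ * q⁻¹ ∈ F.eight := by
  obtain ⟨hcc, n, hn⟩ := R.right_le_rEight he
  obtain ⟨a, ha⟩ := move_perp n (F.perp_of_commute (q := ⟨q, hq.1⟩) (F.mem_cEight.1 hq.2))
  let b : ↥Q := ⟨e * q * e⁻¹, F.large.conj_mem (mem_C_commute ⟨e, F.cEight_le he.2⟩) hq.1⟩
  refine ⟨Q.mul_mem b.2 (Q.inv_mem hq.1), a, ?_⟩
  have h1 : F.ψ (b * (⟨q, hq.1⟩ : ↥Q)⁻¹) = a • rootB := by
    have hi : F.ψ (⟨q, hq.1⟩ : ↥Q)⁻¹ = F.ψ ⟨q, hq.1⟩ := by
      have h : F.ψ (⟨q, hq.1⟩ : ↥Q)⁻¹ + F.ψ ⟨q, hq.1⟩ = 0 := by rw [← F.map_mul, inv_mul_cancel, F.map_one]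
      have key : ∀ x y : F4, x + y = 0 → x = y := by decide +kernel
      exact funext fun i => key _ _ (congrFun h i)
    rw [F.map_mul, hi, ← F.act_conj ⟨e, F.cEight_le he.2⟩ ⟨q, hq.1⟩ b rfl, hn, ha]
  exact h1

omit R in
theorem mem_of_eq_or (F : Coord z Q) {w : G} (h : w = 1 ∨ w = z) : w ∈ F.eight := by
  rcases h with rfl | rfl
  · exact one_mem _
  · exact F.z_mem_eight

theorem AtRoot.commutator_mem {a b : G} (ha : a ∈ F.rEight) (hb : b ∈ F.rEight) :
    a * b * a⁻¹ * b⁻¹ ∈ F.eight := by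
  set V := F.eight
  have hVc : ∀ v ∈ V, ∀ r ∈ F.rEight, Commute r v := fun v hv r hr => F.mem_cEight.1 hr.1 v hv
  have hright : ∀ e ∈ Q.map (MulAut.conj g).toMonoidHom, ∀ e' ∈ Q.map (MulAut.conj g).toMonoidHom,
      e * e' * e⁻¹ * e'⁻¹ ∈ V := fun e he e' he' => by
    rcases R.pair.hp.eq_or (R.pair.hp.comm_mem he he') with h | h <;> rw [h]
    exacts [one_mem _, R.x_mem]
  have hleft : ∀ q ∈ Q, ∀ q' ∈ Q, q * q' * q⁻¹ * q'⁻¹ ∈ V := fun q hq q' hq' =>
    mem_of_eq_or F (F.large.eq_or (F.large.comm_mem hq hq'))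
  -- an element commuting modulo the group of order eight with both sides
  let Cm : G → Prop := fun y => ∀ r ∈ F.rEight, r * y * r⁻¹ * y⁻¹ ∈ V
  have hmul : ∀ c u w, c ∈ F.rEight → u ∈ F.rEight → w ∈ F.rEight → c * u * c⁻¹ * u⁻¹ ∈ V →
      c * w * c⁻¹ * w⁻¹ ∈ V → c * (u * w) * c⁻¹ * (u * w)⁻¹ ∈ V := by
    intro c u w _ hu _ h1 h2
    rw [show c * (u * w) * c⁻¹ * (u * w)⁻¹ = (c * u * c⁻¹ * u⁻¹) * (u * (c * w * c⁻¹ * w⁻¹) * u⁻¹) by group,
      (hVc _ h2 u hu).eq, mul_inv_cancel_right]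
    exact mul_mem h1 h2
  have hinv : ∀ c u, c * u * c⁻¹ * u⁻¹ ∈ V → u * c * u⁻¹ * c⁻¹ ∈ V := fun c u h => by
    have := inv_mem h
    rwa [show (c * u * c⁻¹ * u⁻¹)⁻¹ = u * c * u⁻¹ * c⁻¹ by group] at this
  obtain ⟨e, he, q, hq, rfl⟩ := R.exists_product ha
  obtain ⟨e', he', q', hq', rfl⟩ := R.exists_product hb
  have re := R.right_le_rEight he
  have rq := F.inf_le_rEight hq
  have re' := R.right_le_rEight he'
  have rq' := F.inf_le_rEight hq'
  have k1 : (e' * q') * e * (e' * q')⁻¹ * e⁻¹ ∈ V := hinv _ _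
    (hmul e e' q' re re' rq' (hright e he.1 e' he'.1) (R.mixed he hq'))
  have k2 : (e' * q') * q * (e' * q')⁻¹ * q⁻¹ ∈ V := hinv _ _
    (hmul q e' q' rq re' rq' (hinv _ _ (R.mixed he' hq)) (hleft q hq.1 q' hq'.1))
  exact hinv _ _ (hmul (e' * q') e q hb re rq k1 k2)

theorem AtRoot.square_mem {a : G} (ha : a ∈ F.rEight) : a * a ∈ F.eight := by
  obtain ⟨e, he, q, hq, rfl⟩ := R.exists_product ha
  have hc := R.commutator_mem (F.inf_le_rEight hq) (R.right_le_rEight he)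
  have h1 : e * e ∈ F.eight := by
    rcases R.pair.hp.eq_or (R.pair.hp.sq_mem he.1) with h | h <;> rw [h]
    exacts [one_mem _, R.x_mem]
  have h2 : q * q ∈ F.eight := mem_of_eq_or F (F.large.eq_or (F.large.sq_mem hq.1))
  have h3 : e * q * (e * q) = e * (q * e * q⁻¹ * e⁻¹) * e⁻¹ * (e * e) * (q * q) := by group
  rw [h3, (F.mem_cEight.1 he.2 _ hc).eq, mul_inv_cancel_right]
  exact mul_mem (mul_mem hc h1) h2

theorem AtRoot.z_commutator : ∃ a ∈ F.rEight, ∃ b ∈ F.rEight, a * b * a⁻¹ * b⁻¹ = z := by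
  haveI : Fact (Nat.Prime 2) := ⟨Nat.prime_two⟩
  by_contra hc
  push Not at hc
  have hab : ∀ a ∈ Q ⊓ F.cEight, ∀ b ∈ Q ⊓ F.cEight, Commute a b := fun a ha b hb =>
    mul_inv_eq_iff_eq_mul.1 (mul_inv_eq_one.1 ((F.large.eq_or (F.large.comm_mem ha.1 hb.1)).resolve_right
      (hc a (F.inf_le_rEight ha) b (F.inf_le_rEight hb))))
  have hzc : z ∈ F.cEight := F.mem_cEight.2 fun v hv => (eight_elementary F F.z_mem_eight hv).1
  have hcard := CfsgLib.PGroups.IsExtraspecial.card_centralizer_mul_card F.large.hE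
    (A := (Q ⊓ F.cEight).subgroupOf Q) (fun w hw => by
      rw [F.large.center_mem_iff] at hw
      exact Subgroup.mem_subgroupOf.2 ⟨w.2, Subgroup.zpowers_le.2 hzc hw⟩)
  have hle : (Q ⊓ F.cEight).subgroupOf Q ≤ Subgroup.centralizer ((Q ⊓ F.cEight).subgroupOf Q : Set ↥Q) :=
    fun a ha => Subgroup.mem_centralizer_iff.2 fun b hb =>
      Subtype.ext (hab b (Subgroup.mem_subgroupOf.1 hb) a (Subgroup.mem_subgroupOf.1 ha)).eq
  have h := Nat.card_le_card_of_injective _ (Subgroup.inclusion_injective hle)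
  rw [Nat.card_congr (Subgroup.subgroupOfEquivOfLe inf_le_left).toEquiv, R.card_left] at hcard h
  rw [F.card] at hcard
  omega

end Coord

end CfsgLib.ThreeTrans.LargeFischer
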