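import Cfsg.Agent.Lib.Sporadic.U43Triple.Normal

/-!
# PSU(4, 3) has no elementary abelian subgroup of order 243 and no faithful action on 1024 vectors

(owner: helper28)
-/

set_option autoImplicit false
set_option maxRecDepth 100000
set_option maxHeartbeats 1000000

namespace CfsgLib.ThreeTrans.LargeFischer

open Matrix Cfsg Equiv
open CfsgLib.Recog.SporBound.Fi22U6 (F4)
open CfsgLib.Known.U43Mult (Mdl)
open CfsgLib.Sporadic.U43Triple

theorem twist_counts : ∀ a b : Fin 3, ¬(a = 0 ∧ b = 0) → (Finset.univ.filter fun d : Fin 6 → F4 =>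
    DiagOK d ∧ ∃ l : F4, ∀ x, d x = l * d ((cycA ^ a.1 * cycB ^ b.1) x)).card ≤ 27 := by
  decide +kernel

theorem exists_twist {b e : G} {σ : Perm (Fin 6)} (hb : ∀ i j, i ≠ σ j → mat b i j = 0) (he : e ∈ diagSub)
    {k : G} (hk : IsScalar k) (hbe : b * e = k * (e * b)) : ∃ l : F4, ∀ x, mat e x x = l * mat e (σ x) (σ x) := by
  obtain ⟨l, hl⟩ := hk
  refine ⟨l, eq_scale hb he l ?_⟩
  rw [hbe, mat_mul, hl, Matrix.smul_mul, one_mul]

/-- The simple group has no elementary abelian subgroup of order 243. -/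
theorem no_elementary (A : Subgroup Mdl) (hcard : Nat.card ↥A = 243) (hcomm : ∀ x ∈ A, ∀ y ∈ A, x * y = y * x) :
    False := by
  haveI : Fact (Nat.Prime 3) := ⟨by norm_num⟩
  -- the preimage and a conjugate in the Sylow subgroup
  let B₀ : Subgroup ↥triple := A.comap rho
  have hB₀ : Nat.card ↥B₀ = 729 := by
    rw [card_comap rho rho_surjective A, hcard, card_ker]
  let S₀ : Subgroup ↥triple := sylowThree.subgroupOf triple
  have hS₀le : sylowThree ≤ triple := (monoSub_mono nine_le_alt).trans monoEven_le_triple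
  have hS₀ : Nat.card ↥S₀ = 2187 :=
    (Nat.card_congr (Subgroup.subgroupOfEquivOfLe hS₀le).toEquiv).trans card_sylowThree
  have hidx : ¬ 3 ∣ S₀.index := by
    have := S₀.card_mul_index
    rw [hS₀, card_triple] at this
    omega
  let P : Sylow 3 ↥triple := (IsPGroup.of_card (n := 7) (by rw [hS₀]; norm_num) : IsPGroup 3 ↥S₀).toSylow hidx
  obtain ⟨R, hR⟩ := (IsPGroup.of_card (n := 6) (show Nat.card ↥B₀ = 3 ^ 6 by rw [hB₀]; norm_num)).exists_le_sylow
  obtain ⟨g, hg⟩ := MulAction.exists_smul_eq ↥triple R P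
  let B : Subgroup ↥triple := B₀.map (MulAut.conj g).toMonoidHom
  have hBS : B ≤ S₀ := by
    have : (g • R : Sylow 3 ↥triple).toSubgroup = S₀ := by rw [hg]; rfl
    rw [← this, Sylow.coe_subgroup_smul, Subgroup.pointwise_smul_def]
    exact Subgroup.map_mono hR
  have hBc : Nat.card ↥B = 729 := by
    rw [← hB₀]; exact (Nat.card_congr (B₀.equivMapOfInjective _ (MulAut.conj g).injective).toEquiv).symm
  have hscal : ∀ x ∈ B, ∀ y ∈ B, IsScalar ((x * y * x⁻¹ * y⁻¹ : ↥triple) : G) := by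
    rintro _ ⟨x, hx, rfl⟩ _ ⟨y, hy, rfl⟩
    refine rho_eq_one_iff.1 ?_
    rw [← map_inv, ← map_inv, ← map_mul, ← map_mul, ← map_mul]
    show rho (g * (x * y * x⁻¹ * y⁻¹) * g⁻¹) = 1
    have hc : rho x * rho y = rho y * rho x := hcomm _ hx _ hy
    simp only [map_mul, map_inv]
    rw [hc]; group
  -- the permutations
  have htop : ∀ b : ↥B, ((b : ↥triple) : G) ∈ monoTop := fun b => monoSub_mono le_top (hBS b.2)
  let f : ↥B →* Perm (Fin 6) := permPart.comp
    { toFun := fun b => ⟨((b : ↥triple) : G), htop b⟩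
      map_one' := rfl
      map_mul' := fun _ _ => rfl }
  have hf : ∀ b : ↥B, ∀ i j, i ≠ f b j → mat ((b : ↥triple) : G) i j = 0 :=
    fun b => permPart_spec ⟨_, htop b⟩
  have hrange : f.range ≤ nine := by
    rintro _ ⟨b, rfl⟩
    obtain ⟨h, hσ⟩ := mem_monoSub_iff.1 (show ((b : ↥triple) : G) ∈ sylowThree from hBS b.2)
    exact hσ
  have hkd : ∀ x : ↥f.ker, ((x.1 : ↥triple) : G) ∈ diagSub := fun x =>
    mem_diagSub_iff.2 ⟨htop x.1, MonoidHom.mem_ker.1 x.2⟩
  have htot : Nat.card ↥f.range * Nat.card ↥f.ker = 729 := by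
    rw [← hBc, ← Nat.card_congr (QuotientGroup.quotientKerEquivRange f).toEquiv,
      ← Subgroup.card_eq_card_quotient_mul_card_subgroup]
  have hker243 : Nat.card ↥f.ker ≤ 243 := by
    rw [← card_diagSub]
    refine Nat.card_le_card_of_injective (fun x => (⟨_, hkd x⟩ : ↥diagSub)) fun x y h => ?_
    have e : ((x.1 : ↥triple) : G) = ((y.1 : ↥triple) : G) := congrArg (fun t : ↥diagSub => (t : G)) h
    exact Subtype.ext (Subtype.ext (Subtype.ext e))
  have hne : f.range ≠ ⊥ := fun h => by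
    rw [h, Subgroup.card_bot, one_mul] at htot
    omega
  obtain ⟨σ, hσr, hσ1⟩ := f.range.bot_or_exists_ne_one.resolve_left hne
  obtain ⟨⟨a, b⟩, hab⟩ := hrange hσr
  replace hab : cycA ^ a.1 * cycB ^ b.1 = σ := hab
  have hab0 : ¬(a = 0 ∧ b = 0) := by
    rintro ⟨rfl, rfl⟩
    exact hσ1 (hab.symm.trans (by simp))
  obtain ⟨s, rfl⟩ := hσr
  have h27 : Nat.card ↥f.ker ≤ 27 := by
    refine le_trans ?_ (twist_counts a b hab0)
    rw [← Nat.card_eq_finsetCard]
    refine Nat.card_le_card_of_injective (fun x => ⟨fun i => mat ((x.1 : ↥triple) : G) i i,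
      Finset.mem_filter.2 ⟨Finset.mem_univ _, diagOK_of_mem (hkd x), ?_⟩⟩) ?_
    · rw [hab]
      refine exists_twist (hf s) (hkd x) (hscal _ s.2 _ x.1.2) ?_
      push_cast
      group
    · intro x y h
      refine Subtype.ext (Subtype.ext (Subtype.ext (mat_injective ?_)))
      rw [mat_diag (hkd x), mat_diag (hkd y)]
      exact congrArg diagonal (congrArg Subtype.val h)
  have h9 : Nat.card ↥f.range ≤ 9 := (Nat.le_of_dvd (by norm_num) (card_nine ▸ Subgroup.card_dvd_of_le hrange))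
  have := Nat.mul_le_mul h9 h27
  omega

/-- Five blocks of order three in the linear group of dimension ten. -/
theorem gl_elementary : ∃ A : Subgroup (GL (Fin 2 × Fin 5) (ZMod 2)), Nat.card ↥A = 243 ∧
    ∀ x ∈ A, ∀ y ∈ A, x * y = y * x := by
  let M : Matrix (Fin 2) (Fin 2) (ZMod 2) := !![0, 1; 1, 1]
  have hM : ∀ a b : ZMod 3, M ^ a.val * M ^ b.val = M ^ (a + b).val := by decide +kernel
  have hMinj : ∀ a b : ZMod 3, M ^ a.val = M ^ b.val → a = b := by decide +kernel
  let φ : Multiplicative (Fin 5 → ZMod 3) →* Matrix (Fin 2 × Fin 5) (Fin 2 × Fin 5) (ZMod 2) :=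
    { toFun := fun v => Matrix.blockDiagonal fun k => M ^ (Multiplicative.toAdd v k).val
      map_one' := by simp [Matrix.blockDiagonal_one, ← Pi.one_def]
      map_mul' := fun v w => by
        rw [← Matrix.blockDiagonal_mul]
        exact congrArg _ (funext fun k => (hM _ _).symm) }
  have hinj : Function.Injective φ.toHomUnits := fun v w h => by
    have e := Matrix.blockDiagonal_injective
      (show Matrix.blockDiagonal (fun k => M ^ (Multiplicative.toAdd v k).val) =
        Matrix.blockDiagonal (fun k => M ^ (Multiplicative.toAdd w k).val) from congrArg Units.val h)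
    exact Multiplicative.toAdd.injective (funext fun k => hMinj _ _ (congrFun e k))
  refine ⟨φ.toHomUnits.range, ?_, ?_⟩
  · rw [← Nat.card_congr (MonoidHom.ofInjective hinj).toEquiv, Nat.card_congr Multiplicative.toAdd, Nat.card_fun]
    simp
  · rintro _ ⟨v, rfl⟩ _ ⟨w, rfl⟩
    rw [← map_mul, ← map_mul, mul_comm]

theorem gl_card (d : ℕ) (hd : d ≤ 10) : Nat.card (GL (Fin d) (ZMod 2)) ≠ 0 ∧ ¬ 3 ^ 7 ∣ Nat.card (GL (Fin d) (ZMod 2)) ∧
    (3 ^ 6 ∣ Nat.card (GL (Fin d) (ZMod 2)) → d = 10) := by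
  rw [Matrix.card_GL_field, ZMod.card]
  interval_cases d <;> decide +kernel

theorem not_dvd_ten : ¬ 3 ^ 7 ∣ Nat.card (GL (Fin 2 × Fin 5) (ZMod 2)) := by
  let e : Fin 2 × Fin 5 ≃ Fin 10 := finProdFinEquiv
  rw [Nat.card_congr (Units.mapEquiv (Matrix.reindexAlgEquiv (ZMod 2) (ZMod 2) e).toMulEquiv).toEquiv]
  exact (gl_card 10 le_rfl).2.1

/-- No faithful representation of the simple group in dimension at most ten over two elements. -/
theorem no_embedding (d : ℕ) (hd : d ≤ 10) (f : Mdl →* GL (Fin d) (ZMod 2)) (hf : Function.Injective f) : False := by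
  haveI : Fact (Nat.Prime 3) := ⟨by norm_num⟩
  haveI : Fact (Nat.Prime 2) := ⟨Nat.prime_two⟩
  have hM : Nat.card Mdl = 3265920 := CfsgLib.Known.U43Mult.mdl_spec.2
  have hdvd := Subgroup.card_dvd_of_injective f hf
  have hd10 : d = 10 := (gl_card d hd).2.2 (dvd_trans (by rw [hM]; norm_num) hdvd)
  subst hd10
  let e : GL (Fin 10) (ZMod 2) ≃* GL (Fin 2 × Fin 5) (ZMod 2) :=
    Units.mapEquiv (Matrix.reindexAlgEquiv (ZMod 2) (ZMod 2) (finProdFinEquiv (m := 2) (n := 5)).symm).toMulEquiv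
  let f' : Mdl →* GL (Fin 2 × Fin 5) (ZMod 2) := e.toMonoidHom.comp f
  have hf' : Function.Injective f' := e.injective.comp hf
  obtain ⟨A, hA, hAc⟩ := gl_elementary
  obtain ⟨T⟩ : Nonempty (Sylow 3 Mdl) := inferInstance
  have hT : Nat.card ↥(T : Subgroup Mdl) = 729 := by
    obtain ⟨n, hn⟩ := T.isPGroup'.exists_card_eq
    have h1 : 3 ^ n ∣ 3265920 := hM ▸ hn ▸ Subgroup.card_subgroup_dvd_card _
    have h2 : 3 ^ 6 ∣ Nat.card ↥(T : Subgroup Mdl) := T.pow_dvd_card_of_pow_dvd_card (by rw [hM]; norm_num)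
    rw [hn] at h2 ⊢
    have hn6 : 6 ≤ n := (Nat.pow_dvd_pow_iff_le_right (by norm_num)).1 h2
    have : n < 7 := by
      by_contra h
      exact absurd (dvd_trans (pow_dvd_pow 3 (not_lt.1 h)) h1) (by norm_num)
    rw [show n = 6 by omega]; norm_num
  let T' : Subgroup (GL (Fin 2 × Fin 5) (ZMod 2)) := (T : Subgroup Mdl).map f'
  have hT' : Nat.card ↥T' = 729 := by
    rw [← hT]; exact (Nat.card_congr ((T : Subgroup Mdl).equivMapOfInjective _ hf').toEquiv).symm
  have hidx : ¬ 3 ∣ T'.index := fun h => not_dvd_ten (by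
    rw [← T'.card_mul_index, hT', pow_succ]
    exact Nat.mul_dvd_mul (by norm_num) h)
  let P := (IsPGroup.of_card (n := 6) (by rw [hT']; norm_num) : IsPGroup 3 ↥T').toSylow hidx
  obtain ⟨R, hR⟩ := (IsPGroup.of_card (n := 5) (show Nat.card ↥A = 3 ^ 5 by rw [hA]; norm_num)).exists_le_sylow
  obtain ⟨g, hg⟩ := MulAction.exists_smul_eq (GL (Fin 2 × Fin 5) (ZMod 2)) R P
  let A' := A.map (MulAut.conj g).toMonoidHom
  have hA' : A' ≤ T' := by
    have : (g • R : Sylow 3 _).toSubgroup = T' := by rw [hg]; rfl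
    rw [← this, Sylow.coe_subgroup_smul, Subgroup.pointwise_smul_def]
    exact Subgroup.map_mono hR
  refine no_elementary (A'.comap f') ?_ ?_
  · rw [← hA, Nat.card_congr (Subgroup.equivMapOfInjective A (MulAut.conj g).toMonoidHom (MulAut.conj g).injective).toEquiv,
      ← Subgroup.card_map_of_injective hf', Subgroup.map_comap_eq]
    exact congrArg (fun K : Subgroup _ => Nat.card ↥K) (inf_eq_right.2 (hA'.trans (by
      rintro _ ⟨x, -, rfl⟩; exact ⟨x, rfl⟩)))
  · rintro x ⟨a, ha, hax⟩ y ⟨b, hb, hby⟩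
    refine hf' ?_
    rw [map_mul, map_mul, ← hax, ← hby, ← map_mul, ← map_mul, hAc a ha b hb]

end CfsgLib.ThreeTrans.LargeFischer
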