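import Cfsg.Agent.Lib.ThreeTrans.LargeFischer.Linear
import Cfsg.Agent.Lib.ThreeTrans.LargeFischer.NoSmall

/-!
An element of order three generating the normal subgroup above `Q` acts without fixed points (owner: helper28).
-/

set_option autoImplicit false
set_option maxHeartbeats 1000000

namespace CfsgLib.ThreeTrans.LargeFischer

open Cfsg
open CfsgLib.Known.U43Mult (Mdl mdl_spec nonempty_equiv)

variable {G : Type*} [Group G]

/-- The type data: `Q`, the element of order three and the projection of the subgroup of index two onto the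
simple group. -/
structure Tower (z : G) (Q : Subgroup G) where
  /-- the subgroup of index two -/
  M : Subgroup ↥(Subgroup.centralizer ({z} : Set G))
  normal : M.Normal
  index : M.index = 2
  /-- the element of order three -/
  j : ↥M
  cube : j ^ 3 = 1
  notQ : ((j : ↥(Subgroup.centralizer ({z} : Set G))) : G) ∉ Q
  /-- the projection -/
  π : ↥M →* Mdl
  surj : Function.Surjective π
  ker_iff : ∀ m : ↥M, π m = 1 ↔
    ∃ i : ℕ, (((j ^ i)⁻¹ * m : ↥M) : ↥(Subgroup.centralizer ({z} : Set G))).1 ∈ Q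
  comm : ∀ m : ↥M, ((m * j * m⁻¹ * j⁻¹ : ↥M) : ↥(Subgroup.centralizer ({z} : Set G))).1 ∈ Q
  le_M : ∀ c : ↥(Subgroup.centralizer ({z} : Set G)), (c : G) ∈ Q → c ∈ M

theorem mdl_not_comm : ¬ ∀ a b : Mdl, a * b = b * a := by
  haveI := mdl_spec.1
  intro hc
  obtain ⟨x, hx⟩ : ∃ x : Mdl, orderOf x = 3 := by
    haveI : Fact (Nat.Prime 3) := ⟨by norm_num⟩
    exact exists_prime_orderOf_dvd_card' 3 (by rw [mdl_spec.2]; norm_num)
  have hn : (Subgroup.zpowers x).Normal := ⟨fun a ha g => by rwa [hc g a, mul_inv_cancel_right]⟩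
  rcases hn.eq_bot_or_eq_top with e | e
  · rw [Subgroup.zpowers_eq_bot] at e
    rw [e, orderOf_one] at hx
    omega
  · have := congrArg (fun K : Subgroup Mdl => Nat.card ↥K) e
    simp only [Nat.card_zpowers, hx, Subgroup.card_top, mdl_spec.2] at this
    omega

theorem map_bot_or_top {A B : Type*} [Group A] [Group B] [IsSimpleGroup B] {f : A →* B} (hf : Function.Surjective f)
    {K : Subgroup A} (hK : K.Normal) : K.map f = ⊥ ∨ K.map f = ⊤ :=
  (hK.map f hf).eq_bot_or_eq_top

variable {z : G} {Q : Subgroup G}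

namespace Tower

variable (T : Tower z Q) (L : Lin z Q)

/-- The action of the element of order three. -/
def J : V12 ≃ₗ[ZMod 2] V12 := L.act T.j

theorem J_cube : T.J L * T.J L * T.J L = 1 := by
  rw [J, ← map_mul, ← map_mul, ← pow_two, ← pow_succ, ← SubgroupClass.coe_pow, T.cube, Subgroup.coe_one, map_one]

theorem J_cube' (v : V12) : T.J L (T.J L (T.J L v)) = v := congrArg (fun f : V12 ≃ₗ[ZMod 2] V12 => f v) (T.J_cube L)

theorem act_comm (m : ↥T.M) : L.act m * T.J L = T.J L * L.act m := by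
  have h := (L.act_eq_one _).2 (T.comm m)
  rw [Subgroup.coe_mul, Subgroup.coe_mul, Subgroup.coe_mul, Subgroup.coe_inv, Subgroup.coe_inv, map_mul, map_mul,
    map_mul, map_inv, map_inv, mul_inv_eq_one, mul_inv_eq_iff_eq_mul] at h
  exact h

theorem act_of_ker {m : ↥T.M} (hm : T.π m = 1) : ∃ i : ℕ, L.act m = T.J L ^ i := by
  obtain ⟨i, hi⟩ := (T.ker_iff m).1 hm
  refine ⟨i, ?_⟩
  have h := (L.act_eq_one _).2 hi
  rw [Subgroup.coe_mul, Subgroup.coe_inv, SubgroupClass.coe_pow, map_mul, map_inv, map_pow, inv_mul_eq_one] at h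
  exact h.symm

theorem J_ne_one : T.J L ≠ 1 := fun h => T.notQ ((L.act_eq_one _).1 h)

end Tower

/-- Restriction of linear automorphisms to an invariant subspace. -/
noncomputable def restrictHom {A : Type*} [Group A] (f : A →* (V12 ≃ₗ[ZMod 2] V12)) (W : Submodule (ZMod 2) V12)
    (hW : ∀ a, ∀ v ∈ W, f a v ∈ W) : A →* GL (Fin (Module.finrank (ZMod 2) ↥W)) (ZMod 2) :=
  (Matrix.GeneralLinearGroup.toLin.trans
      (LinearMap.GeneralLinearGroup.congrLinearEquiv (Module.finBasis (ZMod 2) ↥W).equivFun.symm)).symm.toMonoidHom.comp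
    (MonoidHom.toHomUnits
      { toFun := fun a => ((f a : V12 →ₗ[ZMod 2] V12).restrict (fun v hv => hW a v hv) : Module.End (ZMod 2) ↥W)
        map_one' := by ext v; simp [LinearMap.restrict_apply]
        map_mul' := fun a b => by ext v; simp [LinearMap.restrict_apply] })

theorem restrictHom_eq_one {A : Type*} [Group A] (f : A →* (V12 ≃ₗ[ZMod 2] V12)) (W : Submodule (ZMod 2) V12)
    (hW : ∀ a, ∀ v ∈ W, f a v ∈ W) (a : A) : restrictHom f W hW a = 1 ↔ ∀ v ∈ W, f a v = v := by
  rw [restrictHom, MonoidHom.comp_apply, MulEquiv.coe_toMonoidHom, MulEquiv.map_eq_one_iff, Units.ext_iff,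
    MonoidHom.coe_toHomUnits, Units.val_one, LinearMap.ext_iff]
  constructor
  · intro h v hv
    have := congrArg Subtype.val (h ⟨v, hv⟩)
    simpa [LinearMap.restrict_apply] using this
  · intro h v
    exact Subtype.ext (by simpa [LinearMap.restrict_apply] using h v v.2)

theorem two_le_of_three {W : Submodule (ZMod 2) V12} {a b : V12} (ha : a ∈ W) (hb : b ∈ W) (ha0 : a ≠ 0)
    (hb0 : b ≠ 0) (hab : a ≠ b) : 2 ≤ Module.finrank (ZMod 2) ↥W := by
  by_contra hc
  have h := Module.natCard_eq_pow_finrank (K := ZMod 2) (V := ↥W)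
  rw [Nat.card_zmod] at h
  have hle : Nat.card ↥W ≤ 2 := by
    rw [h]; exact le_trans (Nat.pow_le_pow_right (by norm_num) (by omega : _ ≤ 1)) (by norm_num)
  let f : Fin 3 → ↥W := ![0, ⟨a, ha⟩, ⟨b, hb⟩]
  have hinj : Function.Injective f := by
    intro i j hij
    fin_cases i <;> fin_cases j <;> simp [f, Subtype.ext_iff, ha0, hb0, hab, ha0.symm, hb0.symm, hab.symm] at hij ⊢
  have := Nat.card_le_card_of_injective f hinj
  rw [Nat.card_fin] at this
  omega

theorem Tower.fpf [Finite G] (h : LargeData z Q) (hcard : Nat.card Q = 2 ^ 13) (T : Tower z Q) (L : Lin z Q)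
    (v : V12) (hv : T.J L v = v) : v = 0 := by
  haveI := mdl_spec.1
  by_contra hv0
  set J := T.J L with hJ
  let D : V12 →ₗ[ZMod 2] V12 := (J : V12 →ₗ[ZMod 2] V12) + LinearMap.id
  let K₁ : Submodule (ZMod 2) V12 := LinearMap.ker D
  let R : Submodule (ZMod 2) V12 := LinearMap.range D
  have hD : ∀ u, D u = J u + u := fun u => rfl
  have h22 : ∀ u : V12, u + u = 0 := fun u => funext fun i => CharTwo.add_self_eq_zero _
  have hK : ∀ u, u ∈ K₁ ↔ J u = u := fun u => by
    show D u = 0 ↔ _
    rw [hD]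
    constructor
    · intro e; rw [← sub_eq_zero, sub_eq_add_neg, show -u = u from neg_eq_of_add_eq_zero_left (h22 u)]; exact e
    · intro e; rw [e]; exact h22 u
  have hcomm : ∀ (m : ↥T.M) u, L.act m (J u) = J (L.act m u) := fun m u =>
    congrArg (fun f : V12 ≃ₗ[ZMod 2] V12 => f u) (T.act_comm L m)
  have hDcomm : ∀ (m : ↥T.M) u, L.act m (D u) = D (L.act m u) := fun m u => by rw [hD, hD, map_add, hcomm]
  let f : ↥T.M →* (V12 ≃ₗ[ZMod 2] V12) := L.act.comp T.M.subtype
  have hK₁ : ∀ a, ∀ u ∈ K₁, f a u ∈ K₁ := fun a u hu => by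
    rw [hK] at hu ⊢
    show J (L.act a u) = L.act a u
    rw [← hcomm, hu]
  have hR : ∀ a, ∀ u ∈ R, f a u ∈ R := fun a u ⟨w, hw⟩ => ⟨L.act a w, by
    rw [← hDcomm, hw]; rfl⟩
  have hdisj : ∀ u, u ∈ K₁ → u ∈ R → u = 0 := by
    rintro u hu ⟨w, rfl⟩
    rw [hK, hD, map_add] at hu
    have h2 : J (J w) = w := by
      have := congrArg (· + J w) hu
      simpa [add_assoc, h22, add_comm (J w)] using this
    have h3 : J w = w := by
      have := T.J_cube' L w
      rw [← hJ, h2] at this
      exact this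
    rw [hD, h3]; exact h22 w
  have hsum : ∀ u, ∃ a ∈ K₁, ∃ b ∈ R, u = a + b := fun u => by
    refine ⟨J (J u) + J u + u, (hK _).2 ?_, J (J u) + J u, ⟨J u, rfl⟩, ?_⟩
    · rw [map_add, map_add, show J (J (J u)) = u from T.J_cube' L u]; abel
    · rw [show J (J u) + J u + u + (J (J u) + J u) = u + ((J (J u) + J u) + (J (J u) + J u)) by abel, h22, add_zero]
  have hdim : Module.finrank (ZMod 2) ↥K₁ + Module.finrank (ZMod 2) ↥R = 12 := by
    rw [add_comm, LinearMap.finrank_range_add_finrank_ker, Module.finrank_fintype_fun_eq_card, Fintype.card_fin]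
  have hperp : ∀ a ∈ K₁, ∀ b ∈ R, L.bil a b = 0 := by
    rintro a ha _ ⟨w, rfl⟩
    rw [hK] at ha
    have hinv : L.bil (J a) (J w) = L.bil a w := by
      simp only [Lin.bil, ← map_add, hJ, Tower.J, L.act_q _ h]
    rw [hD, L.bil_comm, L.bil_add h, L.bil_comm (J w), L.bil_comm w]
    rw [ha] at hinv
    rw [hinv]
    exact CharTwo.add_self_eq_zero _
  have hR2 : 2 ≤ Module.finrank (ZMod 2) ↥R := by
    obtain ⟨w, hw⟩ : ∃ w, J w ≠ w := by
      by_contra hc
      push Not at hc
      exact T.J_ne_one L (LinearEquiv.ext hc)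
    have hu : D w ∈ R := ⟨w, rfl⟩
    have hu0 : D w ≠ 0 := fun e => hw ((hK w).1 e)
    refine two_le_of_three hu (show J (D w) ∈ R from ⟨J w, by rw [hD, hD, map_add]⟩) hu0
      (fun e => hu0 (J.map_eq_zero_iff.1 e)) fun e => hu0 (hdisj _ ((hK _).2 e.symm) hu)
  have hK2 : 2 ≤ Module.finrank (ZMod 2) ↥K₁ := by
    obtain ⟨u, hu⟩ : ∃ u, L.bil v u ≠ 0 := by
      by_contra hc
      push Not at hc
      exact hv0 (L.bil_nondeg h v hc)
    obtain ⟨a, ha, b, hb, rfl⟩ := hsum u
    have hva : L.bil v a ≠ 0 := by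
      rw [L.bil_comm, L.bil_add h, L.bil_comm a, L.bil_comm b, hperp v ((hK v).2 hv) b hb, add_zero] at hu
      exact hu
    refine two_le_of_three ((hK v).2 hv) ha hv0 (fun e => hva ?_) fun e => hva ?_
    · have := L.bil_self h v
      rw [e, L.bil_comm, ← show (0 : V12) + 0 = 0 from add_zero 0, L.bil_add h]
      exact CharTwo.add_self_eq_zero _
    · rw [← e]; exact L.bil_self h v
  -- kernels
  let gK := restrictHom f K₁ hK₁
  let gR := restrictHom f R hR
  have hboth : ∀ m : ↥T.M, gK m = 1 → gR m = 1 → T.π m = 1 := by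
    intro m hm1 hm2
    rw [restrictHom_eq_one] at hm1 hm2
    have e : L.act m = 1 := LinearEquiv.ext fun u => by
      obtain ⟨a, ha, b, hb, rfl⟩ := hsum u
      rw [map_add, show L.act m a = a from hm1 a ha, show L.act m b = b from hm2 b hb]; rfl
    exact (T.ker_iff m).2 ⟨0, by simpa using (L.act_eq_one _).1 e⟩
  rcases map_bot_or_top T.surj (MonoidHom.normal_ker gK) with eK | eK
  · -- the kernel on the fixed space lies in the kernel of the projection
    have hkle : ∀ m : ↥T.M, gK m = 1 ↔ T.π m = 1 := fun m => ⟨fun hm =>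
      (Subgroup.mem_bot).1 (eK ▸ ⟨m, hm, rfl⟩ : T.π m ∈ (⊥ : Subgroup Mdl)), fun hm => by
        obtain ⟨i, hi⟩ := T.act_of_ker L hm
        rw [restrictHom_eq_one]
        intro u hu
        show L.act m u = u
        rw [hi]
        clear hi
        induction i with
        | zero => rfl
        | succ n ih =>
          rw [pow_succ]
          show (T.J L ^ n) (J u) = u
          rw [(hK u).1 hu]; exact ih⟩
    let g : Mdl →* GL (Fin (Module.finrank (ZMod 2) ↥K₁)) (ZMod 2) :=
      (T.π.liftOfSurjective T.surj) ⟨gK, fun m hm => (hkle m).2 hm⟩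
    refine no_embedding _ (by omega) g ((injective_iff_map_eq_one g).2 fun x hx => ?_)
    obtain ⟨m, rfl⟩ := T.surj x
    rw [show g (T.π m) = gK m from MonoidHom.liftOfRightInverse_comp_apply _ _ _ _ m] at hx
    exact (hkle m).1 hx
  · rcases map_bot_or_top T.surj (MonoidHom.normal_ker gR) with eR | eR
    · -- the action on the moved space is faithful modulo Q
      have hker : ∀ m : ↥T.M, gR m = 1 → ((m : ↥(Subgroup.centralizer ({z} : Set G))) : G) ∈ Q := by
        intro m hm
        have hπ : T.π m = 1 := (Subgroup.mem_bot).1 (eR ▸ ⟨m, hm, rfl⟩ : T.π m ∈ (⊥ : Subgroup Mdl))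
        obtain ⟨i, hi⟩ := T.act_of_ker L hπ
        rw [restrictHom_eq_one] at hm
        replace hm : ∀ u ∈ R, L.act m u = u := hm
        refine (L.act_eq_one _).1 ?_
        rw [hi] at hm ⊢
        have h3 : T.J L ^ 3 = 1 := by rw [pow_succ, pow_two, T.J_cube L]
        rw [pow_eq_pow_mod i h3] at hm ⊢
        have hw : ∀ b ∈ R, J b = b → b = 0 := fun b hb e => hdisj b ((hK b).2 e) hb
        obtain ⟨b, hb, hb0⟩ := Submodule.exists_mem_ne_zero_of_ne_bot (p := R) (fun e => by
          rw [e, finrank_bot] at hR2; omega)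
        have hi3 : i % 3 = 0 ∨ i % 3 = 1 ∨ i % 3 = 2 := by omega
        rcases hi3 with e | e | e <;> rw [e] at hm ⊢
        · exact pow_zero _
        · rw [pow_one] at hm; exact absurd (hw b hb (hm b hb)) hb0
        · rw [pow_two] at hm
          refine absurd (hw b hb ?_) hb0
          calc J b = J (J (J b)) := congrArg J (hm b hb).symm
            _ = b := T.J_cube' L b
      let Q' : Subgroup ↥T.M := (Q.subgroupOf _).subgroupOf T.M
      have hQ' : Nat.card ↥Q' = 2 ^ 13 := by
        rw [← hcard]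
        exact (Nat.card_congr (Subgroup.subgroupOfEquivOfLe (fun c hc => T.le_M c hc)).toEquiv).trans
          (Nat.card_congr (Subgroup.subgroupOfEquivOfLe (show Q ≤ _ from h.le_centralizer)).toEquiv)
      have hkerQ : gR.ker ≤ Q' := fun m hm => hker m hm
      have hkerπ : Nat.card ↥T.π.ker * 3265920 = Nat.card ↥T.M := by
        have := T.π.ker.card_mul_index
        rw [Subgroup.index_ker, Nat.card_congr (MonoidHom.range_eq_top.2 T.surj ▸ Subgroup.topEquiv :
          ↥T.π.range ≃* Mdl).toEquiv, mdl_spec.2] at this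
        exact this
      have h3ker : 3 ∣ Nat.card ↥T.π.ker := by
        have hj : T.j ∈ T.π.ker := (T.ker_iff _).2 ⟨1, by simp⟩
        have ho : orderOf T.j = 3 := by
          haveI : Fact (Nat.Prime 3) := ⟨by norm_num⟩
          refine orderOf_eq_prime T.cube fun e => T.notQ ?_
          rw [e]; exact one_mem _
        have hd := Subgroup.orderOf_dvd_natCard _ hj
        rwa [ho] at hd
      have hrange : 3 ^ 7 ∣ Nat.card ↥gR.range := by
        have e : Nat.card ↥gR.ker * Nat.card ↥gR.range = Nat.card ↥T.M := by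
          rw [← Subgroup.index_ker, Subgroup.card_mul_index]
        obtain ⟨k, hk⟩ := (Nat.dvd_prime_pow Nat.prime_two).1 (hQ' ▸ Subgroup.card_dvd_of_le hkerQ)
        obtain ⟨t, ht⟩ := h3ker
        rw [hk.2, ← hkerπ, ht] at e
        have h7 : 3 ^ 7 ∣ 2 ^ k * Nat.card ↥gR.range := ⟨t * 4480, by rw [e]; ring⟩
        exact (Nat.Coprime.dvd_of_dvd_mul_left (Nat.Coprime.pow 7 k (by norm_num)) h7)
      exact (gl_card _ (by omega)).2.1 (hrange.trans (Subgroup.card_subgroup_dvd_card _))
    · refine mdl_not_comm fun a b => ?_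
      obtain ⟨x, hx, rfl⟩ := (eK.ge (Subgroup.mem_top a))
      obtain ⟨y, hy, rfl⟩ := (eR.ge (Subgroup.mem_top b))
      have h1 : x * y * x⁻¹ * y⁻¹ ∈ gK.ker := by
        have hx' : gK x = 1 := hx
        rw [MonoidHom.mem_ker]
        simp [hx']
      have h2 : x * y * x⁻¹ * y⁻¹ ∈ gR.ker := by
        have hy' : gR y = 1 := hy
        rw [MonoidHom.mem_ker]
        simp [hy']
      have := hboth _ h1 h2
      rw [map_mul, map_mul, map_mul, map_inv, map_inv, mul_inv_eq_one, mul_inv_eq_iff_eq_mul] at this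
      exact this

end CfsgLib.ThreeTrans.LargeFischer
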