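import Cfsg.Agent.Lib.ThreeTrans.LargeFischer.Fpf
import Cfsg.Agent.Lib.Classical.Unitary.Form
import Cfsg.Agent.Lib.Sporadic.U43Triple.Classes

/-!
The element of order three makes `Q` modulo its centre a Hermitian space of dimension six over four elements
on which the subgroup of index two acts as the triple cover of PSU(4, 3) (owner: helper28).
-/

set_option autoImplicit false
set_option maxHeartbeats 1000000
set_option maxRecDepth 100000

namespace CfsgLib.ThreeTrans.LargeFischer

open Matrix Cfsg
open CfsgLib.Recog.SporBound.Fi22U6 (F4)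
open CfsgLib.Sporadic.U43Triple
open CfsgLib.Known.U43Mult (Mdl mdl_spec)

/-- The two elements inside the four. -/
def emb (x : ZMod 2) : F4 := if x = 0 then 0 else 1

theorem emb_add : ∀ x y, emb (x + y) = emb x + emb y := by decide +kernel

theorem emb_eq_zero : ∀ x, emb x = 0 ↔ x = 0 := by decide +kernel

theorem emb_pair : ∀ x y, emb x + emb y * F4.om = 0 → y = 0 := by decide +kernel

theorem self_add (v : V12) : v + v = 0 := funext fun i => CharTwo.add_self_eq_zero _

theorem self_add_left (v w : V12) : v + (v + w) = w := by rw [← add_assoc, self_add, zero_add]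

/-- The square as an automorphism of the field. -/
def cjHom : F4 →+* F4 where
  toFun := cj
  map_zero' := cj_zero
  map_one' := by decide +kernel
  map_add' := cj_add
  map_mul' := cj_mul

variable {G : Type*} [Group G] {z : G} {Q : Subgroup G}

namespace Tower

variable (T : Tower z Q) (L : Lin z Q)

/-- The form over four elements. -/
def herm (u v : V12) : F4 := emb (L.bil (T.J L u) v + L.bil u v) + emb (L.bil u v) * F4.om

variable [Finite G] (h : LargeData z Q) (hcard : Nat.card Q = 2 ^ 13)
include h hcard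

theorem J_sq (v : V12) : T.J L (T.J L v) = T.J L v + v := by
  have hf : T.J L (T.J L (T.J L v) + T.J L v + v) = T.J L (T.J L v) + T.J L v + v := by
    rw [map_add, map_add, T.J_cube' L v]; abel
  have h0 := T.fpf h hcard L _ hf
  calc T.J L (T.J L v) = T.J L (T.J L v) + (T.J L (T.J L v) + T.J L v + v) + (T.J L v + v + (T.J L v + v)) := by
        rw [h0, add_zero, self_add, add_zero]
    _ = T.J L v + v + ((T.J L (T.J L v) + T.J L (T.J L v)) + ((T.J L v + T.J L v) + (v + v))) := by abel
    _ = T.J L v + v := by simp [self_add]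

omit hcard in
theorem bil_J (u v : V12) : L.bil (T.J L u) (T.J L v) = L.bil u v := by
  simp only [Lin.bil, ← map_add, Tower.J, L.act_q _ h]

theorem herm_J (u v : V12) : T.herm L (T.J L u) v = F4.om * T.herm L u v := by
  have key : ∀ a c : ZMod 2, emb (a + c + a) + emb a * F4.om = F4.om * (emb (a + c) + emb c * F4.om) := by
    decide +kernel
  simp only [herm]
  rw [T.J_sq L h hcard, L.bil_add h, key]

theorem herm_symm (u v : V12) : T.herm L v u = cj (T.herm L u v) := by
  have key : ∀ a c : ZMod 2, emb (c + a + c) + emb c * F4.om = cj (emb (a + c) + emb c * F4.om) := by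
    decide +kernel
  have e : L.bil (T.J L v) u = L.bil u v + L.bil (T.J L u) v := by
    rw [L.bil_comm _ u, ← T.bil_J L h u, T.J_sq L h hcard, L.bil_comm, L.bil_add h, L.bil_comm _ (T.J L u),
      L.bil_comm v, T.bil_J L h]
  simp only [herm]
  rw [e, L.bil_comm v u, key]

theorem herm_self (v : V12) : T.herm L v v = emb (L.q v) := by
  have e : L.bil (T.J L v) v = L.q v := by
    simp only [Lin.bil]
    rw [← T.J_sq L h hcard]
    simp only [Tower.J, L.act_q _ h]
    have : ∀ x : ZMod 2, x + x + x = x := by decide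
    exact this _
  simp only [herm]
  rw [e, L.bil_self h, add_zero, show emb 0 = 0 from rfl, zero_mul, add_zero]

omit hcard in
theorem herm_add (u u' v : V12) : T.herm L (u + u') v = T.herm L u v + T.herm L u' v := by
  simp only [herm, map_add, L.bil_add h, emb_add]
  ring

end Tower

/-- Coordinates over four elements. -/
structure Frame (T : Tower z Q) (L : Lin z Q) where
  /-- the coordinates -/
  e : V12 ≃+ (Fin 6 → F4)
  map_J : ∀ v, e (T.J L v) = F4.om • e v
  map_herm : ∀ u v, hf (e u) (e v) = T.herm L u v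

theorem four_cases' : ∀ a : F4, a = 0 ∨ a = 1 ∨ a = F4.om ∨ a = F4.om + 1 := by decide +kernel

theorem exists_frame [Finite G] (h : LargeData z Q) (hcard : Nat.card Q = 2 ^ 13) (T : Tower z Q) (L : Lin z Q) :
    Nonempty (Frame T L) := by
  classical
  let sc : F4 → V12 → V12 := fun a v =>
    match a with
    | .zero => 0
    | .one => v
    | .om => T.J L v
    | .om' => T.J L v + v
  have hJ := T.J_sq L h hcard
  letI : Module F4 V12 :=
    { smul := sc
      mul_smul := fun a b v => by
        show sc (a * b) v = sc a (sc b v)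
        rw [show a * b = F4.mul a b from rfl]
        cases a <;> cases b <;> simp [sc, F4.mul, map_add, hJ, add_assoc, add_left_comm, add_comm, self_add, self_add_left]
      one_smul := fun v => rfl
      smul_zero := fun a => by
        show sc a 0 = 0
        cases a <;> simp [sc]
      smul_add := fun a u v => by
        show sc a (u + v) = sc a u + sc a v
        cases a <;> simp only [sc, map_add, add_zero] <;> abel
      add_smul := fun a b v => by
        show sc (a + b) v = sc a v + sc b v
        rw [show a + b = F4.add a b from rfl]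
        cases a <;> cases b <;> simp [sc, F4.add, add_assoc, add_left_comm, add_comm, self_add, self_add_left]
      zero_smul := fun v => rfl }
  have hsmul : ∀ a v, a • v = sc a v := fun _ _ => rfl
  have hl : ∀ (a : F4) u v, T.herm L (a • u) v = a * T.herm L u v := by
    intro a u v
    have h0 : T.herm L 0 v = 0 := by
      have := T.herm_add L h 0 0 v
      rw [add_zero] at this
      exact add_eq_left.1 this.symm
    rcases four_cases' a with rfl | rfl | rfl | rfl
    · rw [zero_smul, zero_mul, h0]
    · rw [one_smul, one_mul]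
    · exact T.herm_J L h hcard u v
    · rw [add_smul, one_smul, T.herm_add L h, add_mul, one_mul]
      exact congrArg (· + _) (T.herm_J L h hcard u v)
  let B : V12 →ₛₗ[cjHom] V12 →ₗ[F4] F4 :=
    { toFun := fun x =>
        { toFun := fun y => T.herm L y x
          map_add' := fun y y' => T.herm_add L h y y' x
          map_smul' := fun a y => hl a y x }
      map_add' := fun x x' => LinearMap.ext fun y => by
        show T.herm L y (x + x') = T.herm L y x + T.herm L y x'
        rw [T.herm_symm L h hcard, T.herm_add L h, cj_add, ← T.herm_symm L h hcard, ← T.herm_symm L h hcard]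
      map_smul' := fun a x => LinearMap.ext fun y => by
        show T.herm L y (a • x) = cj a * T.herm L y x
        rw [T.herm_symm L h hcard, hl, cj_mul, ← T.herm_symm L h hcard] }
  have hH : CfsgLib.Classical.Herm.IsHerm B :=
    { invol :=
        { ne_id := fun e => absurd (DFunLike.congr_fun e F4.om) (by decide +kernel)
          invol := cj_cj }
      symm := fun x y => (T.herm_symm L h hcard y x).symm
      nondeg := fun x hx => L.bil_nondeg h x fun v => by
        have : T.herm L v x = 0 := hx v
        rw [L.bil_comm]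
        exact emb_pair _ _ this }
  have hfin : Module.finrank F4 V12 = 6 := by
    have := Module.natCard_eq_pow_finrank (K := F4) (V := V12)
    rw [Nat.card_eq_fintype_card (α := F4), F4.card, Nat.card_eq_fintype_card, Fintype.card_fun, ZMod.card,
      Fintype.card_fin, ← pow_mul] at this
    have := Nat.pow_right_injective le_rfl this
    omega
  obtain ⟨b, hb⟩ := hH.exists_orthonormal_basis hfin
  refine ⟨{ e := b.equivFun.toAddEquiv, map_J := ?_, map_herm := ?_ }⟩
  · exact fun v => b.equivFun.map_smul F4.om v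
  · intro u v
    show hf (b.equivFun u) (b.equivFun v) = B v u
    conv_rhs => rw [← b.sum_equivFun v, ← b.sum_equivFun u]
    rw [hf_eq]
    simp only [map_sum, LinearMap.sum_apply, CfsgLib.Classical.Herm.smul_left, CfsgLib.Classical.Herm.smul_right, hb]
    simp [Finset.sum_ite_eq', cjHom, mul_comm]

namespace Frame

variable {T : Tower z Q} {L : Lin z Q} (F : Frame T L) [Finite G]

/-- The action of an element of the subgroup of index two in coordinates. -/
def lmap (m : ↥T.M) : (Fin 6 → F4) →ₗ[F4] (Fin 6 → F4) where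
  toFun u := F.e (L.act m (F.e.symm u))
  map_add' u u' := by simp only [map_add]
  map_smul' a u := by
    have key : ∀ u, F.e.symm (F4.om • u) = T.J L (F.e.symm u) := fun u => by
      rw [AddEquiv.symm_apply_eq, F.map_J, F.e.apply_symm_apply]
    have hom : ∀ u, F.e (L.act m (F.e.symm (F4.om • u))) = F4.om • F.e (L.act m (F.e.symm u)) := fun u => by
      rw [key, ← F.map_J]
      exact congrArg F.e (congrArg (fun f : V12 ≃ₗ[ZMod 2] V12 => f (F.e.symm u)) (T.act_comm L m))
    rcases four_cases' a with rfl | rfl | rfl | rfl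
    · simp
    · simp
    · exact hom u
    · rw [RingHom.id_apply, add_smul, one_smul, add_smul, one_smul, map_add, map_add, map_add, hom]

/-- Its matrix. -/
def lmat (m : ↥T.M) : Mat := LinearMap.toMatrix' (F.lmap m)

theorem lmat_apply (m : ↥T.M) (u : Fin 6 → F4) : F.lmat m *ᵥ u = F.e (L.act m (F.e.symm u)) :=
  LinearMap.toMatrix'_mulVec (F.lmap m) u

theorem lmat_e (m : ↥T.M) (v : V12) : F.lmat m *ᵥ F.e v = F.e (L.act m v) := by
  rw [lmat_apply, F.e.symm_apply_apply]

theorem lmat_hf (h : LargeData z Q) (m : ↥T.M) (u v : Fin 6 → F4) : hf (F.lmat m *ᵥ u) (F.lmat m *ᵥ v) = hf u v := by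
  obtain ⟨u, rfl⟩ := F.e.surjective u
  obtain ⟨v, rfl⟩ := F.e.surjective v
  rw [lmat_e, lmat_e, F.map_herm, F.map_herm]
  have hb : ∀ x y, L.bil (L.act m x) (L.act m y) = L.bil x y := fun x y => by
    simp only [Lin.bil, ← map_add, L.act_q _ h]
  have hc : T.J L (L.act m u) = L.act m (T.J L u) :=
    (congrArg (fun f : V12 ≃ₗ[ZMod 2] V12 => f u) (T.act_comm L m)).symm
  simp only [Tower.herm]
  rw [hc, hb, hb]

theorem lmat_mul (m n : ↥T.M) : F.lmat (m * n) = F.lmat m * F.lmat n := by
  refine Matrix.toLin'.injective (LinearMap.ext fun u => ?_)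
  simp only [Matrix.toLin'_apply, ← Matrix.mulVec_mulVec, lmat_apply, F.e.symm_apply_apply, Subgroup.coe_mul, map_mul,
    LinearEquiv.mul_apply]

theorem lmat_one : F.lmat 1 = 1 := by
  refine Matrix.toLin'.injective (LinearMap.ext fun u => ?_)
  simp [Matrix.toLin'_apply, lmat_apply]

theorem lmat_eq_one (m : ↥T.M) : F.lmat m = 1 ↔ ((m : ↥(Subgroup.centralizer ({z} : Set G))) : G) ∈ Q := by
  rw [← L.act_eq_one]
  constructor
  · intro e
    refine LinearEquiv.ext fun v => F.e.injective ?_
    rw [← F.lmat_e, e, Matrix.one_mulVec]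
    rfl
  · intro e
    refine Matrix.toLin'.injective (LinearMap.ext fun u => ?_)
    simp [Matrix.toLin'_apply, lmat_apply, e]

theorem lmat_j : F.lmat T.j = F4.om • (1 : Mat) := by
  refine Matrix.toLin'.injective (LinearMap.ext fun u => ?_)
  rw [Matrix.toLin'_apply, Matrix.toLin'_apply, lmat_apply, Matrix.smul_mulVec, Matrix.one_mulVec]
  exact (F.map_J _).trans (congrArg _ (F.e.apply_symm_apply u))

/-- The matrices as a homomorphism. -/
def lmatHom : ↥T.M →* Mat where
  toFun := F.lmat
  map_one' := F.lmat_one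
  map_mul' := F.lmat_mul

theorem lmat_j_pow (i : ℕ) : F.lmat (T.j ^ i) = (F4.om ^ i) • (1 : Mat) := by
  show F.lmatHom (T.j ^ i) = _
  rw [map_pow]
  show F.lmat T.j ^ i = _
  rw [F.lmat_j, smul_pow, one_pow]

theorem lmat_ker {m : ↥T.M} (hm : T.π m = 1) : ∃ i : ℕ, F.lmat m = (F4.om ^ i) • (1 : Mat) := by
  obtain ⟨i, hi⟩ := (T.ker_iff m).1 hm
  refine ⟨i, ?_⟩
  rw [← F.lmat_j_pow, ← mul_inv_cancel_left (T.j ^ i) m, F.lmat_mul, (F.lmat_eq_one _).2 hi, mul_one]

theorem lmat_det (m : ↥T.M) : (F.lmat m).det = 1 := by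
  haveI := mdl_spec.1
  let d : ↥T.M →* F4 := Matrix.detMonoidHom.comp F.lmatHom
  have hker : ∀ x : ↥T.M, T.π x = 1 → d x = 1 := fun x hx => by
    obtain ⟨i, hi⟩ := F.lmat_ker hx
    show (F.lmat x).det = 1
    rw [hi, Matrix.det_smul, Matrix.det_one, mul_one, ← pow_mul, mul_comm, pow_mul, Fintype.card_fin,
      show F4.om ^ 6 = 1 by decide +kernel, one_pow]
  rcases map_bot_or_top T.surj d.toHomUnits.normal_ker with e | e
  · refine absurd (fun a b => ?_) mdl_not_comm
    obtain ⟨a, rfl⟩ := T.surj a
    obtain ⟨b, rfl⟩ := T.surj b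
    have hc : a * b * a⁻¹ * b⁻¹ ∈ d.toHomUnits.ker := by
      rw [MonoidHom.mem_ker, map_mul, map_mul, map_mul, map_inv, map_inv, mul_comm (d.toHomUnits a),
        mul_inv_cancel_right, mul_inv_cancel]
    have h1 : T.π (a * b * a⁻¹ * b⁻¹) ∈ d.toHomUnits.ker.map T.π := ⟨_, hc, rfl⟩
    rw [e, Subgroup.mem_bot, map_mul, map_mul, map_mul, map_inv, map_inv, mul_inv_eq_one, mul_inv_eq_iff_eq_mul] at h1
    exact h1
  · obtain ⟨n, hn, en⟩ := (e.ge (Subgroup.mem_top (T.π m)) : T.π m ∈ d.toHomUnits.ker.map T.π)
    have h1 : d (n⁻¹ * m) = 1 := hker _ (by rw [map_mul, map_inv, en, inv_mul_cancel])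
    have h2 : d n = 1 := congrArg Units.val (MonoidHom.mem_ker.1 hn)
    have : d m = 1 := by rw [← mul_inv_cancel_left n m, map_mul, h1, h2, one_mul]
    exact this

/-- The representation in the special unitary group. -/
def rep (h : LargeData z Q) : ↥T.M →* CfsgLib.Sporadic.U43Triple.G where
  toFun m := ⟨⟨F.lmat m, F.lmat_det m⟩, fun u v => F.lmat_hf h m u v⟩
  map_one' := mat_injective F.lmat_one
  map_mul' m n := mat_injective (F.lmat_mul m n)

theorem mat_rep (h : LargeData z Q) (m : ↥T.M) : mat (F.rep h m) = F.lmat m := rfl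

/-- The image is a triple cover. -/
noncomputable def cover (h : LargeData z Q) : Cover (F.rep h).range :=
  have hk : (F.rep h).rangeRestrict.ker ≤ T.π.ker := fun x hx => by
    rw [MonoidHom.ker_rangeRestrict, MonoidHom.mem_ker] at hx
    refine (T.ker_iff x).2 ⟨0, ?_⟩
    rw [pow_zero, inv_one, one_mul]
    exact (F.lmat_eq_one x).1 (congrArg mat hx)
  let p : ↥(F.rep h).range →* Mdl :=
    (F.rep h).rangeRestrict.liftOfSurjective (F.rep h).rangeRestrict_surjective ⟨T.π, hk⟩
  have hp : ∀ x, p ((F.rep h).rangeRestrict x) = T.π x := fun x =>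
    MonoidHom.liftOfRightInverse_comp_apply _ _ _ ⟨T.π, hk⟩ x
  have hsurj : Function.Surjective p := fun y => by
    obtain ⟨x, rfl⟩ := T.surj y
    exact ⟨_, hp x⟩
  have hscal : ∀ x, p x = 1 → ∃ i : ℕ, x.1 = F.rep h T.j ^ i := fun x hx => by
    obtain ⟨x, rfl⟩ := (F.rep h).rangeRestrict_surjective x
    rw [hp] at hx
    obtain ⟨i, hi⟩ := F.lmat_ker hx
    refine ⟨i, mat_injective ?_⟩
    rw [← map_pow, mat_rep, F.lmat_j_pow]
    exact hi
  have hker : p.ker = Subgroup.center ↥(F.rep h).range := by
    haveI := mdl_spec.1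
    ext x
    rw [MonoidHom.mem_ker, Subgroup.mem_center_iff]
    constructor
    · intro hx y
      obtain ⟨i, hi⟩ := hscal x hx
      refine Subtype.ext (mat_injective ?_)
      rw [Subgroup.coe_mul, Subgroup.coe_mul, mat_mul, mat_mul, hi, ← map_pow, mat_rep, F.lmat_j_pow]
      simp
    · intro hx
      have hz : Subgroup.center Mdl = ⊥ := by
        rcases (show (Subgroup.center Mdl).Normal from inferInstance).eq_bot_or_eq_top with e | e
        · exact e
        · exact absurd (fun a b => (Subgroup.mem_center_iff.1 (e.ge (Subgroup.mem_top b)) a)) mdl_not_comm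
      have : p x ∈ Subgroup.center Mdl := by
        rw [Subgroup.mem_center_iff]
        intro y
        obtain ⟨y, rfl⟩ := hsurj y
        rw [← map_mul, ← map_mul, hx]
      rwa [hz, Subgroup.mem_bot] at this
  { proj := p
    surj := hsurj
    ker_eq := hker
    card_center := by
      have ej : orderOf (F.rep h T.j) = 3 := by
        haveI : Fact (Nat.Prime 3) := ⟨by norm_num⟩
        refine orderOf_eq_prime (by rw [← map_pow, T.cube, map_one]) fun e => T.notQ ?_
        exact (F.lmat_eq_one T.j).1 (congrArg mat e)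
      have hz : Subgroup.center ↥(F.rep h).range = Subgroup.zpowers ((F.rep h).rangeRestrict T.j) := by
        rw [← hker]
        refine le_antisymm (fun x hx => ?_) ?_
        · obtain ⟨i, hi⟩ := hscal x hx
          refine ⟨i, Subtype.ext ?_⟩
          show (((F.rep h).rangeRestrict T.j ^ (i : ℤ) : ↥(F.rep h).range) : CfsgLib.Sporadic.U43Triple.G) = _
          rw [zpow_natCast, Subgroup.coe_pow]
          exact hi.symm
        · rw [Subgroup.zpowers_le, MonoidHom.mem_ker, hp, T.ker_iff]
          exact ⟨1, by rw [pow_one, inv_mul_cancel]; exact one_mem _⟩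
      rw [hz, Nat.card_zpowers, ← Subgroup.orderOf_coe]
      exact ej }

end Frame

theorem star_star (A : Mat) : star' (star' A) = A := by
  ext i j; simp [star', cj_cj]

/-- The coordinates can be chosen so that the image is the model. -/
theorem exists_good_frame [Finite G] (h : LargeData z Q) (hcard : Nat.card Q = 2 ^ 13) (T : Tower z Q) (L : Lin z Q) :
    ∃ F : Frame T L, (F.rep h).range = triple := by
  obtain ⟨F⟩ := exists_frame h hcard T L
  obtain ⟨g, k, hgk⟩ := classify (F.cover h)
  obtain ⟨d1, d2, -⟩ := outer_checks k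
  set D := outerDiag k with hD
  have hP : ∀ u v, hf ((star' D * mat g) *ᵥ u) ((star' D * mat g) *ᵥ v) = hf u v := fun u v => by
    rw [← Matrix.mulVec_mulVec, ← Matrix.mulVec_mulVec, hf_mulVec (by rw [star_star]; exact d2),
      hf_mulVec (star_mul_self g)]
  have hinv1 : (mat g⁻¹ * D) * (star' D * mat g) = 1 := by
    rw [mul_assoc, ← mul_assoc D, d2, one_mul, ← mat_mul, inv_mul_cancel, mat_one]
  have hinv2 : (star' D * mat g) * (mat g⁻¹ * D) = 1 := by
    rw [mul_assoc, ← mul_assoc (mat g), ← mat_mul, mul_inv_cancel, mat_one, one_mul, d1]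
  let P : (Fin 6 → F4) ≃ₗ[F4] (Fin 6 → F4) :=
    LinearEquiv.ofLinearMap (Matrix.mulVecLin (star' D * mat g)) (Matrix.mulVecLin (mat g⁻¹ * D))
      (by rw [← Matrix.mulVecLin_mul, hinv2, Matrix.mulVecLin_one])
      (by rw [← Matrix.mulVecLin_mul, hinv1, Matrix.mulVecLin_one])
  let F' : Frame T L :=
    { e := F.e.trans P.toAddEquiv
      map_J := fun v => (congrArg P (F.map_J v)).trans (P.map_smul _ _)
      map_herm := fun u v => (hP (F.e u) (F.e v)).trans (F.map_herm u v) }
  refine ⟨F', ?_⟩
  have hrep : ∀ m, F'.rep h m = outer (-k) (g * F.rep h m * g⁻¹) := fun m => by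
    refine outer_injective k ?_
    rw [outer_neg]
    refine mat_injective (Matrix.toLin'.injective (LinearMap.ext fun u => ?_))
    rw [mat_outer, mat_mul, mat_mul, Frame.mat_rep, Frame.mat_rep, Matrix.toLin'_apply, Matrix.toLin'_apply]
    have e : F'.lmat m = (star' D * mat g) * F.lmat m * (mat g⁻¹ * D) :=
      Matrix.toLin'.injective (LinearMap.ext fun w => by
        rw [Matrix.toLin'_apply, Matrix.toLin'_apply, Frame.lmat_apply, ← Matrix.mulVec_mulVec,
          ← Matrix.mulVec_mulVec, Frame.lmat_apply]
        rfl)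
    rw [e]
    congr 1
    rw [← hD, show D * ((star' D * mat g) * F.lmat m * (mat g⁻¹ * D)) * star' D
      = (D * star' D) * (mat g * F.lmat m * mat g⁻¹) * (D * star' D) by simp [mul_assoc], d2, one_mul, mul_one]
  ext x
  constructor
  · rintro ⟨m, rfl⟩
    have : g * F.rep h m * g⁻¹ ∈ model k := hgk ▸ ⟨_, ⟨m, rfl⟩, rfl⟩
    obtain ⟨t, ht, et⟩ := this
    rw [hrep]
    have : outer k (outer (-k) (g * F.rep h m * g⁻¹)) = outer k t := by rw [outer_neg, et]
    rw [outer_injective k this]
    exact ht
  · intro hx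
    have : outer k x ∈ (F.rep h).range.map (MulAut.conj g).toMonoidHom := hgk ▸ ⟨x, hx, rfl⟩
    obtain ⟨_, ⟨m, rfl⟩, em⟩ := this
    refine ⟨m, outer_injective k ?_⟩
    rw [hrep, outer_neg]
    exact em

end CfsgLib.ThreeTrans.LargeFischer
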