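import Cfsg.Agent.Lib.ThreeTrans.LargeExtra

/-!
The quotient of a large extraspecial group by its centre as a quadratic space over two elements, and the
action of the centralizer on it (owner: helper28).
-/

set_option autoImplicit false
set_option maxHeartbeats 1000000

namespace CfsgLib.ThreeTrans.LargeFischer

open Cfsg

variable {G : Type*} [Group G]

/-- Twelve coordinates over two elements. -/
abbrev V12 : Type := Fin 12 → ZMod 2

/-- Coordinates on `Q` modulo its centre with the squaring form and the action of the centralizer. -/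
structure Lin (z : G) (Q : Subgroup G) where
  /-- the coordinates -/
  ψ : ↥Q → V12
  /-- the squaring form -/
  q : V12 → ZMod 2
  /-- the action -/
  act : ↥(Subgroup.centralizer ({z} : Set G)) →* (V12 ≃ₗ[ZMod 2] V12)
  map_mul : ∀ a b, ψ (a * b) = ψ a + ψ b
  surj : Function.Surjective ψ
  eq_zero : ∀ a : ↥Q, ψ a = 0 ↔ (a : G) ∈ Subgroup.zpowers z
  q_eq_zero : ∀ a : ↥Q, q (ψ a) = 0 ↔ (a : G) * a = 1
  act_conj : ∀ (c : ↥(Subgroup.centralizer ({z} : Set G))) (a : ↥Q) (b : ↥Q),
    (b : G) = (c : G) * a * (c : G)⁻¹ → act c (ψ a) = ψ b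
  act_eq_one : ∀ c, act c = 1 ↔ (c : G) ∈ Q

variable {z : G} {Q : Subgroup G}

theorem two_cases' (x : ZMod 2) : x = 0 ∨ x = 1 := by revert x; decide

theorem exists_lin [Finite G] (h : LargeData z Q) (hcard : Nat.card Q = 2 ^ 13) : Nonempty (Lin z Q) := by
  classical
  haveI : Fact (Nat.Prime 2) := ⟨Nat.prime_two⟩
  have hcomm : ∀ a b : ↥Q ⧸ Subgroup.center ↥Q, a * b = b * a := by
    intro a b
    obtain ⟨a, rfl⟩ := QuotientGroup.mk_surjective a
    obtain ⟨b, rfl⟩ := QuotientGroup.mk_surjective b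
    have e : (QuotientGroup.mk (a * b * a⁻¹ * b⁻¹) : ↥Q ⧸ Subgroup.center ↥Q) = 1 :=
      (QuotientGroup.eq_one_iff _).2
        (by simpa [commutatorElement_def] using CfsgLib.PGroups.IsExtraspecial.comm_mem h.hE a b)
    rw [QuotientGroup.mk_mul, QuotientGroup.mk_mul, QuotientGroup.mk_mul,
      QuotientGroup.mk_inv, QuotientGroup.mk_inv, mul_inv_eq_one, mul_inv_eq_iff_eq_mul] at e
    exact e
  letI : CommGroup (↥Q ⧸ Subgroup.center ↥Q) :=
    { (inferInstance : Group (↥Q ⧸ Subgroup.center ↥Q)) with mul_comm := hcomm }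
  letI : Module (ZMod 2) (Additive (↥Q ⧸ Subgroup.center ↥Q)) := AddCommGroup.zmodModule (fun x => by
    obtain ⟨y, hy⟩ := QuotientGroup.mk_surjective (Additive.toMul x)
    apply Additive.toMul.injective
    rw [toMul_nsmul, ← hy, toMul_zero, ← QuotientGroup.mk_pow, QuotientGroup.eq_one_iff]
    exact CfsgLib.PGroups.IsExtraspecial.pow_mem_center h.hE y)
  let W := Additive (↥Q ⧸ Subgroup.center ↥Q)
  have hW : Nat.card W = 2 ^ 12 := by
    have := (Subgroup.center ↥Q).card_mul_index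
    rw [h.hE.2, hcard, Subgroup.index_eq_card] at this
    show Nat.card (↥Q ⧸ Subgroup.center ↥Q) = _
    omega
  have hfin : Module.finrank (ZMod 2) W = 12 := by
    have := Module.natCard_eq_pow_finrank (K := ZMod 2) (V := W)
    rw [hW, Nat.card_zmod] at this
    exact (Nat.pow_right_injective le_rfl this).symm
  let b : Module.Basis (Fin 12) (ZMod 2) W := Module.finBasisOfFinrankEq _ _ hfin
  let L : W ≃ₗ[ZMod 2] V12 := b.equivFun
  let ψ : ↥Q → V12 := fun a => L (Additive.ofMul (QuotientGroup.mk a))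
  have hmul : ∀ a c, ψ (a * c) = ψ a + ψ c := fun a c => by
    show L _ = L _ + L _
    rw [← map_add, ← ofMul_mul, ← QuotientGroup.mk_mul]
  have hsurj : Function.Surjective ψ := fun v => by
    obtain ⟨a, ha⟩ := QuotientGroup.mk_surjective (Additive.toMul (L.symm v))
    exact ⟨a, by show L _ = v; rw [ha]; exact L.apply_symm_apply v⟩
  have hzero : ∀ a : ↥Q, ψ a = 0 ↔ (a : G) ∈ Subgroup.zpowers z := fun a => by
    rw [← h.center_mem_iff, ← QuotientGroup.eq_one_iff]
    show L _ = 0 ↔ _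
    rw [LinearEquiv.map_eq_zero_iff]
    exact ofMul_eq_zero
  have hsq : ∀ a c : ↥Q, ψ a = ψ c → ((a : G) * a = 1 ↔ (c : G) * c = 1) := by
    intro a c e
    have e2 : ψ a⁻¹ + ψ c = 0 := by
      have h1 : ψ a⁻¹ + ψ a = 0 := by
        rw [← hmul, inv_mul_cancel]; exact (hzero 1).2 (one_mem _)
      rw [← e, h1]
    rw [← hmul] at e2
    rcases h.eq_or ((hzero _).1 e2) with e1 | e1
    · have e3 : a⁻¹ * c = 1 := Subtype.ext e1
      rw [inv_mul_eq_one.1 e3]
    · have : (c : G) = a * z := by rw [← e1]; simp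
      rw [this, (h.commute_z a.2).symm.mul_mul_mul_comm, h.mul_self_z, mul_one]
  let sec : V12 → ↥Q := Function.surjInv hsurj
  let q : V12 → ZMod 2 := fun v => if (sec v : G) * sec v = 1 then 0 else 1
  have hq : ∀ a : ↥Q, q (ψ a) = 0 ↔ (a : G) * a = 1 := fun a => by
    rw [← hsq _ a (Function.surjInv_eq hsurj (ψ a))]
    show (if (sec (ψ a) : G) * sec (ψ a) = 1 then (0 : ZMod 2) else 1) = 0 ↔ _
    split_ifs with hh
    · exact iff_of_true rfl hh
    · exact iff_of_false one_ne_zero hh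
  let C := Subgroup.centralizer ({z} : Set G)
  let cj : ↥C → ↥Q → ↥Q := fun c a => ⟨(c : G) * a * (c : G)⁻¹,
    h.conj_mem (mem_centralizer_singleton_iff'.1 c.2) a.2⟩
  have hcjmul : ∀ c a a', cj c (a * a') = cj c a * cj c a' := fun c a a' => Subtype.ext (by simp [cj, mul_assoc])
  have hresp : ∀ c a a', ψ a = ψ a' → ψ (cj c a) = ψ (cj c a') := by
    intro c a a' e
    have e2 : ψ (a⁻¹ * a') = 0 := by
      rw [hmul, ← e, ← hmul, inv_mul_cancel]; exact (hzero 1).2 (one_mem _)
    have e3 : ψ (cj c (a⁻¹ * a')) = 0 := by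
      refine (hzero _).2 ?_
      show (c : G) * ((a⁻¹ * a' : ↥Q) : G) * (c : G)⁻¹ ∈ _
      rcases h.eq_or ((hzero _).1 e2) with e1 | e1 <;> rw [e1]
      · simp
      · rw [mem_centralizer_singleton_iff'.1 c.2, mul_inv_cancel_right]; exact Subgroup.mem_zpowers z
    have : ψ (cj c a') = ψ (cj c a) + ψ (cj c (a⁻¹ * a')) := by
      rw [← hmul, ← hcjmul, mul_inv_cancel_left]
    rw [this, e3, add_zero]
  let f : ↥C → V12 → V12 := fun c v => ψ (cj c (sec v))
  have hf : ∀ c a, f c (ψ a) = ψ (cj c a) := fun c a => hresp c _ _ (Function.surjInv_eq hsurj _)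
  have hfadd : ∀ c v w, f c (v + w) = f c v + f c w := by
    intro c v w
    obtain ⟨a, rfl⟩ := hsurj v
    obtain ⟨a', rfl⟩ := hsurj w
    rw [← hmul, hf, hf, hf, hcjmul, hmul]
  have hfone : ∀ v, f 1 v = v := by
    intro v
    obtain ⟨a, rfl⟩ := hsurj v
    rw [hf]; exact congrArg ψ (Subtype.ext (by simp [cj]))
  have hfmul : ∀ c d v, f (c * d) v = f c (f d v) := by
    intro c d v
    obtain ⟨a, rfl⟩ := hsurj v
    rw [hf (c * d), hf d, hf c]; exact congrArg ψ (Subtype.ext (by simp [cj, mul_assoc]))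
  let fl : ↥C → (V12 ≃ₗ[ZMod 2] V12) := fun c =>
      { toFun := f c, invFun := f c⁻¹
        left_inv := fun v => by rw [← hfmul, inv_mul_cancel, hfone]
        right_inv := fun v => by rw [← hfmul, mul_inv_cancel, hfone]
        map_add' := hfadd c
        map_smul' := fun r v => by
          rcases two_cases' r with rfl | rfl
          · rw [zero_smul, RingHom.id_apply, zero_smul, ← (hzero 1).2 (one_mem _), hf]
            exact congrArg ψ (Subtype.ext (by simp [cj]))
          · rw [one_smul, RingHom.id_apply, one_smul] }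
  let act : ↥C →* (V12 ≃ₗ[ZMod 2] V12) :=
    { toFun := fl
      map_one' := LinearEquiv.ext fun v => hfone v
      map_mul' := fun c d => LinearEquiv.ext fun v => hfmul c d v }
  refine ⟨{ ψ := ψ, q := q, act := act, map_mul := hmul, surj := hsurj, eq_zero := hzero, q_eq_zero := hq,
            act_conj := fun c a a' e => (hf c a).trans (congrArg ψ (Subtype.ext e.symm)), act_eq_one := ?_ }⟩
  intro c
  constructor
  · intro hc
    refine h.mem_of_trivial (mem_centralizer_singleton_iff'.1 c.2) fun x hx => ?_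
    have e : ψ (cj c ⟨x, hx⟩) = ψ ⟨x, hx⟩ := by
      rw [← hf]; exact congrFun (congrArg (fun l : V12 ≃ₗ[ZMod 2] V12 => ⇑l) hc) _
    have e2 : ψ (cj c ⟨x, hx⟩ * ⟨x, hx⟩⁻¹) = 0 := by
      rw [hmul, e, ← hmul, mul_inv_cancel]; exact (hzero 1).2 (one_mem _)
    exact (hzero _).1 e2
  · intro hc
    refine LinearEquiv.ext fun v => ?_
    obtain ⟨a, rfl⟩ := hsurj v
    show f c (ψ a) = ψ a
    rw [hf]
    have h1 : cj c a = (⟨(c : G), hc⟩ : ↥Q) * a * (⟨(c : G), hc⟩ : ↥Q)⁻¹ := Subtype.ext rfl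
    have h2 : ψ (⟨(c : G), hc⟩ : ↥Q)⁻¹ + ψ ⟨(c : G), hc⟩ = 0 := by
      rw [← hmul, inv_mul_cancel]; exact (hzero 1).2 (one_mem _)
    rw [h1, hmul, hmul, add_comm (ψ ⟨(c : G), hc⟩), add_assoc, add_comm (ψ ⟨(c : G), hc⟩), h2, add_zero]

namespace Lin

variable (L : Lin z Q)

/-- The polar form. -/
def bil (u v : V12) : ZMod 2 := L.q (u + v) + L.q u + L.q v

theorem map_one : L.ψ 1 = 0 := by
  have := L.map_mul 1 1
  rw [mul_one] at this
  exact add_eq_left.1 this.symm

theorem act_q (c : ↥(Subgroup.centralizer ({z} : Set G))) [Finite G] (h : LargeData z Q) (v : V12) :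
    L.q (L.act c v) = L.q v := by
  obtain ⟨a, rfl⟩ := L.surj v
  let b : ↥Q := ⟨(c : G) * a * (c : G)⁻¹, h.conj_mem (mem_centralizer_singleton_iff'.1 c.2) a.2⟩
  rw [L.act_conj c a b rfl]
  have e : (b : G) * b = 1 ↔ (a : G) * a = 1 := by
    show (c : G) * a * (c : G)⁻¹ * ((c : G) * a * (c : G)⁻¹) = 1 ↔ _
    rw [conj_mul, conj_eq_one_iff]
  rcases two_cases' (L.q (L.ψ b)) with e1 | e1 <;> rcases two_cases' (L.q (L.ψ a)) with e2 | e2 <;>
    rw [e1, e2] <;> simp_all [← L.q_eq_zero]

theorem q_zero [Finite G] (h : LargeData z Q) : L.q 0 = 0 := by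
  rw [← (L.eq_zero 1).2 (one_mem _), L.q_eq_zero]
  simp

theorem bil_eq_zero [Finite G] (h : LargeData z Q) (a b : ↥Q) :
    L.bil (L.ψ a) (L.ψ b) = 0 ↔ Commute (a : G) b := by
  have hz := h.mul_self_z
  have hza : ∀ x : ↥Q, (x : G) * x = if L.q (L.ψ x) = 0 then 1 else z := fun x => by
    rcases h.eq_or (h.sq_mem x.2) with e | e
    · rw [if_pos ((L.q_eq_zero x).2 e), e]
    · rw [if_neg (fun h0 => h.z_ne_one (e ▸ (L.q_eq_zero x).1 h0)), e]
  have ha := hza a
  have hb := hza b
  have hab := hza (a * b)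
  rw [L.map_mul, Subgroup.coe_mul] at hab
  have hne := h.z_ne_one
  rcases h.conj_eq_or b.2 a.2 with e | e
  · have hc : Commute (b : G) a := mul_inv_eq_iff_eq_mul.1 e
    refine iff_of_true ?_ hc.symm
    rw [hc.mul_mul_mul_comm] at hab
    rw [ha, hb] at hab
    simp only [bil]
    rcases two_cases' (L.q (L.ψ a)) with e1 | e1 <;> rcases two_cases' (L.q (L.ψ b)) with e2 | e2 <;>
      rcases two_cases' (L.q (L.ψ a + L.ψ b)) with e3 | e3 <;>
      simp [e1, e2, e3, hz, hne, hne.symm] at hab ⊢ <;> decide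
  · have hc : (b : G) * a = z * a * b := mul_inv_eq_iff_eq_mul.1 e
    refine iff_of_false ?_ fun hcm => hne ?_
    · have hzc : (a : G) * z = z * a := h.commute_z a.2
      have key : (a : G) * b * (a * b) = z * ((a : G) * a * (b * b)) := by
        calc (a : G) * b * (a * b) = a * (b * a) * b := by group
          _ = a * (z * a * b) * b := by rw [hc]
          _ = (a * z) * a * (b * b) := by group
          _ = z * (a * a * (b * b)) := by rw [hzc]; group
      rw [key, ha, hb] at hab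
      simp only [bil]
      rcases two_cases' (L.q (L.ψ a)) with e1 | e1 <;> rcases two_cases' (L.q (L.ψ b)) with e2 | e2 <;>
        rcases two_cases' (L.q (L.ψ a + L.ψ b)) with e3 | e3 <;>
        simp [e1, e2, e3, hz, hne, hne.symm] at hab ⊢ <;> decide
    · have : (z : G) * ((a : G) * b) = (a : G) * b := by rw [← mul_assoc, ← hc, hcm.eq]
      exact mul_eq_right.1 this

theorem bil_comm (u v : V12) : L.bil u v = L.bil v u := by
  simp only [bil, add_comm u v]; ring

theorem bil_self [Finite G] (h : LargeData z Q) (u : V12) : L.bil u u = 0 := by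
  obtain ⟨a, rfl⟩ := L.surj u
  exact (L.bil_eq_zero h a a).2 (Commute.refl _)

theorem bil_add [Finite G] (h : LargeData z Q) (u u' v : V12) : L.bil (u + u') v = L.bil u v + L.bil u' v := by
  obtain ⟨a, rfl⟩ := L.surj u
  obtain ⟨a', rfl⟩ := L.surj u'
  obtain ⟨b, rfl⟩ := L.surj v
  classical
  have hd : ∀ x y : ↥Q, L.bil (L.ψ x) (L.ψ y) = if Commute (x : G) y then 0 else 1 := fun x y => by
    split_ifs with hh
    · exact (L.bil_eq_zero h x y).2 hh
    · exact (two_cases' _).resolve_left fun e => hh ((L.bil_eq_zero h x y).1 e)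
  classical
  rw [← L.map_mul, hd, hd, hd, Subgroup.coe_mul]
  let χ : G → G := fun x => if Commute x b then 1 else z
  have hm : ∀ x : ↥Q, (b : G) * x * (b : G)⁻¹ = χ x * x := fun x => by
    simp only [χ]
    split_ifs with hh
    · rw [← hh.eq, mul_inv_cancel_right, one_mul]
    · refine (h.conj_eq_or b.2 x.2).resolve_left fun e => hh ?_
      exact (mul_inv_eq_iff_eq_mul.1 e).symm
  have hprod := hm (a * a')
  rw [Subgroup.coe_mul, ← conj_mul, hm a, hm a'] at hprod
  have hcen : Commute (a : G) (χ a') := by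
    simp only [χ]
    split_ifs
    · exact Commute.one_right _
    · exact h.commute_z a.2
  rw [hcen.mul_mul_mul_comm, mul_left_inj] at hprod
  have hz1 := h.z_ne_one
  have hz2 := h.mul_self_z
  simp only [χ] at hprod
  by_cases c1 : Commute (a : G) b <;> by_cases c2 : Commute (a' : G) b <;>
    by_cases c3 : Commute ((a : G) * a') b <;> simp [c1, c2, c3, hz1, hz2, hz1.symm] at hprod ⊢ <;> decide

theorem bil_nondeg [Finite G] (h : LargeData z Q) (u : V12) (hu : ∀ v, L.bil u v = 0) : u = 0 := by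
  obtain ⟨a, rfl⟩ := L.surj u
  rw [L.eq_zero]
  rw [← h.hcent, Subgroup.mem_centralizer_iff]
  intro x hx
  exact ((L.bil_eq_zero h a ⟨x, hx⟩).1 (hu _)).eq.symm

end Lin

end CfsgLib.ThreeTrans.LargeFischer
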