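import Cfsg.Agent.Lib.Sporadic.U43Triple.Normal
import Cfsg.Agent.Lib.ThreeTrans.LargeFischer.OrbitData
import Cfsg.Agent.Lib.ThreeTrans.LargeFischer.MaskData

/-!
The two orbits of the triple cover of PSU(4, 3) on non-zero isotropic vectors (owner: helper28).
-/

set_option autoImplicit false
set_option maxRecDepth 100000
set_option maxHeartbeats 2000000
set_option Elab.async false

namespace CfsgLib.ThreeTrans.LargeFischer

open Matrix Cfsg Equiv
open CfsgLib.Recog.SporBound.Fi22U6 (F4)
open CfsgLib.Sporadic.U43Triple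

/-- Six coordinates over four elements. -/
abbrev V6 : Type := Fin 6 → F4

/-- The vector of a code. -/
def vec6 (c : ℕ) : V6 := fun i => F4.ofNat4 (c / 4 ^ i.1 % 4)

/-- A generator as a literal. -/
def genLit (k : Fin 4) : Mat := rows (genRows.getD k.1 [])

theorem genLit_eq : ∀ k : Fin 4, genLit k = (if k.1 = 3 then blk 1 0 * blk 0 1 * pmat (Equiv.swap 0 1)
    else mat (genK k)) := by decide +kernel

theorem mat_gen (k : Fin 4) : mat (genK k) = genLit k := by
  rw [genLit_eq]
  split_ifs with h
  · rw [show k = 3 from Fin.ext h]; exact mat_rZero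
  · rfl

/-- The set of codes built along a tree, when every step is correct. -/
def run : List (ℕ × ℕ × Fin 4) → ℕ → Option ℕ
  | [], m => some m
  | (y, x, k) :: t, m =>
    if Nat.testBit m x && Nat.ble (Nat.succ y) 4096 && Nat.beq (code (genLit k *ᵥ vec6 x)) y then
      run t (Nat.lor m (2 ^ y))
    else none

/-- Running all chunks. -/
def runAll : List (List (ℕ × ℕ × Fin 4)) → ℕ → Option ℕ
  | [], m => some m
  | l :: t, m => (run l m).bind (runAll t)

/-- The codes satisfying a predicate. -/
def maskOf (p : ℕ → Bool) : ℕ → ℕ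
  | 0 => 0
  | n + 1 => if p n then Nat.lor (maskOf p n) (2 ^ n) else maskOf p n

theorem testBit_maskOf (p : ℕ → Bool) : ∀ n i, (maskOf p n).testBit i = (decide (i < n) && p i)
  | 0, i => by simp [maskOf]
  | n + 1, i => by
    rw [maskOf]
    have h1 : decide (i < n + 1) = (decide (i < n) || decide (n = i)) := by
      rw [← Bool.decide_or]; exact decide_eq_decide.2 (by omega)
    rw [h1]
    by_cases hin : n = i
    · subst hin
      cases hp : p n <;> simp [testBit_maskOf p n n, hp]
    · cases hp : p n <;> simp [testBit_maskOf p n i, Nat.testBit_two_pow, hin]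

theorem testBit_piece {p : ℕ → Bool} {m o : ℕ} (e : maskOf (fun i => p (o + i)) 512 = Nat.shiftRight m o % 2 ^ 512)
    (i : ℕ) (hi : i < 512) : m.testBit (o + i) = p (o + i) := by
  have h := congrArg (fun x => Nat.testBit x i) e
  simp only [testBit_maskOf, hi, decide_true, Bool.true_and, Nat.testBit_mod_two_pow] at h
  rw [show Nat.shiftRight m o = m >>> o from rfl, Nat.testBit_shiftRight] at h
  exact h.symm

theorem runAll_cons {l : List (ℕ × ℕ × Fin 4)} {t : List (List (ℕ × ℕ × Fin 4))} {m m1 : ℕ} {r : Option ℕ}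
    (h1 : run l m = some m1) (h2 : runAll t m1 = r) : runAll (l :: t) m = r := by
  rw [runAll, h1, Option.bind_some, h2]

/-- An isotropic non-zero vector. -/
def IsoV (v : V6) : Prop := v ≠ 0 ∧ ∑ i, v i * cj (v i) = 0

instance : DecidablePred IsoV := fun _ => inferInstanceAs (Decidable (_ ∧ _))

/-- The root of the small orbit. -/
def rootA : V6 := ![1, 1, 0, 0, 0, 0]

/-- The root of the large orbit. -/
def rootB : V6 := ![1, 1, 1, 1, 0, 0]

/-- The small class on codes. -/
def kindA (n : ℕ) : Bool := decide (IsoV (vec6 n) ∧ Om 1 (vec6 n))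

/-- The large class on codes. -/
def kindB (n : ℕ) : Bool := decide (IsoV (vec6 n) ∧ ¬ Om 1 (vec6 n))

theorem treeARun0 : run treeA0 treeAMask0 = some treeAMask1 := by decide +kernel

theorem treeARun1 : run treeA1 treeAMask1 = some treeAMask2 := by decide +kernel

theorem treeA_runAll : runAll treeA treeAMask0 = some treeAMask2 :=
  runAll_cons treeARun0 (runAll_cons treeARun1 rfl)

theorem treeBRun0 : run treeB0 treeBMask0 = some treeBMask1 := by decide +kernel

theorem treeBRun1 : run treeB1 treeBMask1 = some treeBMask2 := by decide +kernel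

theorem treeBRun2 : run treeB2 treeBMask2 = some treeBMask3 := by decide +kernel

theorem treeBRun3 : run treeB3 treeBMask3 = some treeBMask4 := by decide +kernel

theorem treeBRun4 : run treeB4 treeBMask4 = some treeBMask5 := by decide +kernel

theorem treeBRun5 : run treeB5 treeBMask5 = some treeBMask6 := by decide +kernel

theorem treeBRun6 : run treeB6 treeBMask6 = some treeBMask7 := by decide +kernel

theorem treeBRun7 : run treeB7 treeBMask7 = some treeBMask8 := by decide +kernel

theorem treeBRun8 : run treeB8 treeBMask8 = some treeBMask9 := by decide +kernel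

theorem treeB_runAll : runAll treeB treeBMask0 = some treeBMask9 :=
  runAll_cons treeBRun0 (runAll_cons treeBRun1 (runAll_cons treeBRun2 (runAll_cons treeBRun3 (runAll_cons treeBRun4 (runAll_cons treeBRun5 (runAll_cons treeBRun6 (runAll_cons treeBRun7 (runAll_cons treeBRun8 rfl))))))))

theorem treeAKind0 : maskOf (fun i => kindA (512 * 0 + i)) 512 =
    Nat.shiftRight treeAMask2 (512 * 0) % 2 ^ 512 := by
  decide +kernel

theorem treeAKind1 : maskOf (fun i => kindA (512 * 1 + i)) 512 =
    Nat.shiftRight treeAMask2 (512 * 1) % 2 ^ 512 := by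
  decide +kernel

theorem treeAKind2 : maskOf (fun i => kindA (512 * 2 + i)) 512 =
    Nat.shiftRight treeAMask2 (512 * 2) % 2 ^ 512 := by
  decide +kernel

theorem treeAKind3 : maskOf (fun i => kindA (512 * 3 + i)) 512 =
    Nat.shiftRight treeAMask2 (512 * 3) % 2 ^ 512 := by
  decide +kernel

theorem treeAKind4 : maskOf (fun i => kindA (512 * 4 + i)) 512 =
    Nat.shiftRight treeAMask2 (512 * 4) % 2 ^ 512 := by
  decide +kernel

theorem treeAKind5 : maskOf (fun i => kindA (512 * 5 + i)) 512 =
    Nat.shiftRight treeAMask2 (512 * 5) % 2 ^ 512 := by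
  decide +kernel

theorem treeAKind6 : maskOf (fun i => kindA (512 * 6 + i)) 512 =
    Nat.shiftRight treeAMask2 (512 * 6) % 2 ^ 512 := by
  decide +kernel

theorem treeAKind7 : maskOf (fun i => kindA (512 * 7 + i)) 512 =
    Nat.shiftRight treeAMask2 (512 * 7) % 2 ^ 512 := by
  decide +kernel

theorem treeA_mask {n : ℕ} (h : n < 4096) : treeAMask2.testBit n = kindA n := by
  obtain ⟨k, i, hi, rfl⟩ : ∃ k i, i < 512 ∧ n = 512 * k + i := ⟨n / 512, n % 512, Nat.mod_lt _ (by norm_num), (Nat.div_add_mod n 512).symm⟩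
  have hk : k < 8 := by omega
  interval_cases k
  · exact testBit_piece (o := 512 * 0) treeAKind0 i hi
  · exact testBit_piece (o := 512 * 1) treeAKind1 i hi
  · exact testBit_piece (o := 512 * 2) treeAKind2 i hi
  · exact testBit_piece (o := 512 * 3) treeAKind3 i hi
  · exact testBit_piece (o := 512 * 4) treeAKind4 i hi
  · exact testBit_piece (o := 512 * 5) treeAKind5 i hi
  · exact testBit_piece (o := 512 * 6) treeAKind6 i hi
  · exact testBit_piece (o := 512 * 7) treeAKind7 i hi

theorem treeBKind0 : maskOf (fun i => kindB (512 * 0 + i)) 512 =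
    Nat.shiftRight treeBMask9 (512 * 0) % 2 ^ 512 := by
  decide +kernel

theorem treeBKind1 : maskOf (fun i => kindB (512 * 1 + i)) 512 =
    Nat.shiftRight treeBMask9 (512 * 1) % 2 ^ 512 := by
  decide +kernel

theorem treeBKind2 : maskOf (fun i => kindB (512 * 2 + i)) 512 =
    Nat.shiftRight treeBMask9 (512 * 2) % 2 ^ 512 := by
  decide +kernel

theorem treeBKind3 : maskOf (fun i => kindB (512 * 3 + i)) 512 =
    Nat.shiftRight treeBMask9 (512 * 3) % 2 ^ 512 := by
  decide +kernel

theorem treeBKind4 : maskOf (fun i => kindB (512 * 4 + i)) 512 =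
    Nat.shiftRight treeBMask9 (512 * 4) % 2 ^ 512 := by
  decide +kernel

theorem treeBKind5 : maskOf (fun i => kindB (512 * 5 + i)) 512 =
    Nat.shiftRight treeBMask9 (512 * 5) % 2 ^ 512 := by
  decide +kernel

theorem treeBKind6 : maskOf (fun i => kindB (512 * 6 + i)) 512 =
    Nat.shiftRight treeBMask9 (512 * 6) % 2 ^ 512 := by
  decide +kernel

theorem treeBKind7 : maskOf (fun i => kindB (512 * 7 + i)) 512 =
    Nat.shiftRight treeBMask9 (512 * 7) % 2 ^ 512 := by
  decide +kernel

theorem treeB_mask {n : ℕ} (h : n < 4096) : treeBMask9.testBit n = kindB n := by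
  obtain ⟨k, i, hi, rfl⟩ : ∃ k i, i < 512 ∧ n = 512 * k + i := ⟨n / 512, n % 512, Nat.mod_lt _ (by norm_num), (Nat.div_add_mod n 512).symm⟩
  have hk : k < 8 := by omega
  interval_cases k
  · exact testBit_piece (o := 512 * 0) treeBKind0 i hi
  · exact testBit_piece (o := 512 * 1) treeBKind1 i hi
  · exact testBit_piece (o := 512 * 2) treeBKind2 i hi
  · exact testBit_piece (o := 512 * 3) treeBKind3 i hi
  · exact testBit_piece (o := 512 * 4) treeBKind4 i hi
  · exact testBit_piece (o := 512 * 5) treeBKind5 i hi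
  · exact testBit_piece (o := 512 * 6) treeBKind6 i hi
  · exact testBit_piece (o := 512 * 7) treeBKind7 i hi

theorem num_digit : ∀ a : F4, F4.ofNat4 a.num = a ∧ a.num < 4 := by decide +kernel

theorem code_vec (v : V6) : code v < 4096 ∧ vec6 (code v) = v := by
  have h := fun i => (num_digit (v i)).2
  have := h 0; have := h 1; have := h 2; have := h 3; have := h 4; have := h 5
  refine ⟨by unfold code; omega, funext fun i => ?_⟩
  have key : code v / 4 ^ i.1 % 4 = (v i).num := by
    have key : ∀ a b c d e f : ℕ, a < 4 → b < 4 → c < 4 → d < 4 → e < 4 → f < 4 →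
        ∀ i : Fin 6, (a + 4 * b + 16 * c + 64 * d + 256 * e + 1024 * f) / 4 ^ i.1 % 4 = ![a, b, c, d, e, f] i := by
      intro a b c d e f _ _ _ _ _ _ i
      fin_cases i <;> simp <;> omega
    rw [code, key _ _ _ _ _ _ (h 0) (h 1) (h 2) (h 3) (h 4) (h 5) i]
    fin_cases i <;> rfl
  rw [vec6, key, (num_digit (v i)).1]

theorem reach_run {r : V6} (l : List (ℕ × ℕ × Fin 4)) : ∀ m m', run l m = some m' →
    (∀ x, m.testBit x = true → ∃ g ∈ triple, mat g *ᵥ r = vec6 x) →
    ∀ x, m'.testBit x = true → ∃ g ∈ triple, mat g *ᵥ r = vec6 x := by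
  induction l with
  | nil => intro m m' h hm; simp only [run, Option.some.injEq] at h; exact h ▸ hm
  | cons a t ih =>
    obtain ⟨y, x, k⟩ := a
    intro m m' h hm
    rw [run] at h
    split_ifs at h with hc
    simp only [Bool.and_eq_true, Nat.ble_eq, Nat.beq_eq] at hc
    refine ih _ _ h fun w hw => ?_
    rw [show Nat.lor m (2 ^ y) = m ||| 2 ^ y from rfl, Nat.testBit_or, Bool.or_eq_true] at hw
    rcases hw with hw | hw
    · exact hm w hw
    · rw [Nat.testBit_two_pow, decide_eq_true_eq] at hw
      obtain ⟨g, hg, e⟩ := hm x hc.1.1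
      refine ⟨genK k * g, mul_mem (gen_mem k) hg, ?_⟩
      rw [mat_mul, ← Matrix.mulVec_mulVec, e, ← hw, ← hc.2, (code_vec _).2, mat_gen]

theorem reach_all {r : V6} (L : List (List (ℕ × ℕ × Fin 4))) : ∀ m m', runAll L m = some m' →
    (∀ x, m.testBit x = true → ∃ g ∈ triple, mat g *ᵥ r = vec6 x) →
    ∀ x, m'.testBit x = true → ∃ g ∈ triple, mat g *ᵥ r = vec6 x := by
  induction L with
  | nil => intro m m' h hm; simp only [runAll, Option.some.injEq] at h; exact h ▸ hm
  | cons l t ih =>
    intro m m' h hm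
    rw [runAll, Option.bind_eq_some_iff] at h
    obtain ⟨m1, h1, h2⟩ := h
    exact ih m1 m' h2 (reach_run l m m1 h1 hm)

theorem roots_ok : vec6 5 = rootA ∧ vec6 85 = rootB ∧ Om 1 rootA ∧ ¬ Om 1 rootB ∧ IsoV rootA ∧ IsoV rootB := by
  decide +kernel

/-- The isotropic vectors of the first kind form one orbit. -/
theorem orbitA {v : V6} (hv : IsoV v) (hO : Om 1 v) : ∃ g ∈ triple, mat g *ᵥ rootA = v := by
  obtain ⟨g, hg, e⟩ := reach_all (r := rootA) treeA _ _ treeA_runAll (fun x hx => by
    rw [show treeAMask0 = 2 ^ 5 from rfl, Nat.testBit_two_pow, decide_eq_true_eq] at hx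
    exact ⟨1, one_mem _, by rw [mat_one, Matrix.one_mulVec, ← hx, roots_ok.1]⟩) (code v) (by
    rw [treeA_mask (code_vec v).1, kindA, (code_vec v).2]
    exact decide_eq_true ⟨hv, hO⟩)
  exact ⟨g, hg, e.trans (code_vec v).2⟩

/-- The other isotropic vectors form one orbit. -/
theorem orbitB {v : V6} (hv : IsoV v) (hO : ¬ Om 1 v) : ∃ g ∈ triple, mat g *ᵥ rootB = v := by
  obtain ⟨g, hg, e⟩ := reach_all (r := rootB) treeB _ _ treeB_runAll (fun x hx => by
    rw [show treeBMask0 = 2 ^ 85 from rfl, Nat.testBit_two_pow, decide_eq_true_eq] at hx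
    exact ⟨1, one_mem _, by rw [mat_one, Matrix.one_mulVec, ← hx, roots_ok.2.1]⟩) (code v) (by
    rw [treeB_mask (code_vec v).1, kindB, (code_vec v).2]
    exact decide_eq_true ⟨hv, hO⟩)
  exact ⟨g, hg, e.trans (code_vec v).2⟩

/-- Counting the set bits below a bound. -/
def popUpTo (m : ℕ) : ℕ → ℕ
  | 0 => 0
  | n + 1 => if m.testBit n then popUpTo m n + 1 else popUpTo m n

theorem card_testBit (m : ℕ) : ∀ n, ((Finset.range n).filter fun i => m.testBit i = true).card = popUpTo m n
  | 0 => rfl
  | n + 1 => by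
    rw [Finset.range_add_one, Finset.filter_insert, popUpTo]
    cases hb : m.testBit n <;> simp [card_testBit m n]

theorem card_class {p : V6 → Prop} [DecidablePred p] {m c : ℕ} (hm : ∀ v, p v ↔ m.testBit (code v) = true)
    (hc : popUpTo m 4096 = c) : (Finset.univ.filter p).card = c := by
  rw [← hc, ← card_testBit]
  refine Finset.card_bij (fun v _ => code v) (fun v hv => ?_) (fun v _ w _ e => ?_) fun n hn => ?_
  · simp only [Finset.mem_filter, Finset.mem_univ, true_and] at hv
    exact Finset.mem_filter.2 ⟨Finset.mem_range.2 (code_vec v).1, (hm v).1 hv⟩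
  · rw [← (code_vec v).2, e, (code_vec w).2]
  · obtain ⟨hn, hb⟩ := Finset.mem_filter.1 hn
    rw [Finset.mem_range] at hn
    have e : code (vec6 n) = n := by
      have hd : ∀ a < 4, (F4.ofNat4 a).num = a := by decide
      simp only [code, vec6]
      rw [hd _ (Nat.mod_lt _ (by norm_num)), hd _ (Nat.mod_lt _ (by norm_num)), hd _ (Nat.mod_lt _ (by norm_num)),
        hd _ (Nat.mod_lt _ (by norm_num)), hd _ (Nat.mod_lt _ (by norm_num)), hd _ (Nat.mod_lt _ (by norm_num))]
      norm_num
      omega
    exact ⟨vec6 n, Finset.mem_filter.2 ⟨Finset.mem_univ _, (hm _).2 (by rw [e]; exact hb)⟩, e⟩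

theorem om_counts : (Finset.univ.filter fun v : V6 => IsoV v ∧ Om 1 v).card = 378 ∧
    (Finset.univ.filter fun v : V6 => IsoV v ∧ ¬ Om 1 v).card = 1701 :=
  ⟨card_class (m := treeAMask2) (fun v => by rw [treeA_mask (code_vec v).1, kindA, (code_vec v).2, decide_eq_true_eq])
      (by decide +kernel),
    card_class (m := treeBMask9) (fun v => by rw [treeB_mask (code_vec v).1, kindB, (code_vec v).2, decide_eq_true_eq])
      (by decide +kernel)⟩

/-- The elements of the triple cover keep the kind of a vector. -/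
theorem om_iff {g : G} (hg : g ∈ triple) (v : V6) : Om 1 (mat g *ᵥ v) ↔ Om 1 v := by
  refine ⟨fun h => ?_, triple_le_stab hg v⟩
  have := triple_le_stab (inv_mem hg) _ h
  rwa [Matrix.mulVec_mulVec, ← mat_mul, inv_mul_cancel, mat_one, Matrix.one_mulVec] at this

end CfsgLib.ThreeTrans.LargeFischer
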