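import Cfsg.Agent.Lib.Recog.SporBound.Fi22U6.FieldFour
import Cfsg.Agent.Lib.Classical.Unitary.MatrixStructure
import Cfsg.Agent.Lib.Classical.Unitary.Two
import Cfsg.Agent.Lib.Known.AutPSU.Out
import Cfsg.Agent.Lib.Classical.SmallOrtho.UnitarySix
import Cfsg.Agent.Lib.Classical.Quad.OmegaIndex
import Cfsg.Agent.Lib.Classical.Quad.StandardForms

set_option autoImplicit false
set_option maxRecDepth 20000

/-!
The isometry group of minus type in dimension six over two elements as the automorphism group of PSU(4, 2):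
the arguments of `Lib/Recog/FiM22Two/{PairCent,PairOuter,OrthSixMinus}` (helper6) without their imports on
groups of type M(22) (owner: helper28).
-/

namespace CfsgLib.ThreeTrans.LargeFischer.OrthSix

open Cfsg CfsgLib.Classical
open CfsgLib.Recog.SporBound.Fi22U6 (F4)
open scoped Matrix

/-- The group PSU(4, 2). -/
abbrev P4 : Type := Cfsg.PSU 4 F4 2

theorem card_P4 : Nat.card P4 = 25920 := by
  have h := CfsgLib.Classical.Herm.card_PSU (q := 2) F4.card 4 (by norm_num)
  norm_num [Finset.prod_range_succ, Nat.even_iff] at h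
  linarith

theorem simple_P4 : IsSimpleGroup P4 :=
  CfsgLib.Classical.Herm.isSimpleGroup_PSU' (q := 2) F4.card 4 (by norm_num) (by norm_num)

theorem nonabelian_P4 : ¬ ∀ x y : P4, x * y = y * x := fun h => by
  haveI := simple_P4
  letI : CommGroup P4 := { (inferInstance : Group P4) with mul_comm := h }
  have hp := IsSimpleGroup.prime_card (α := P4)
  rw [card_P4] at hp
  norm_num at hp

theorem eq_one_of_central {z : P4} (h : ∀ y, z * y = y * z) : z = 1 := by
  haveI := simple_P4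
  rcases (inferInstance : (Subgroup.center P4).Normal).eq_bot_or_eq_top with hb | ht
  · exact Subgroup.mem_bot.1 (hb ▸ Subgroup.mem_center_iff.2 fun y => (h y).symm)
  · exact absurd (fun x y => (Subgroup.mem_center_iff.1 (ht ▸ Subgroup.mem_top x) y).symm) nonabelian_P4

/-- An action on a group descends to a quotient. -/
theorem exists_descend {C K P : Type*} [Group C] [Group K] [Group P] (act : C →* MulAut K) (φ : K →* P)
    (hφ : Function.Surjective φ) (hk : ∀ c x, φ x = 1 → φ (act c x) = 1) :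
    ∃ Θ : C →* MulAut P, ∀ c x, Θ c (φ x) = φ (act c x) := by
  let m : C → (P →* P) := fun c =>
    MonoidHom.liftOfSurjective φ hφ ⟨φ.comp (act c).toMonoidHom, fun x hx => hk c x hx⟩
  have hm : ∀ c x, m c (φ x) = φ (act c x) := fun c x =>
    MonoidHom.liftOfRightInverse_comp_apply _ _ (Function.rightInverse_surjInv hφ) _ x
  have hmul : ∀ c c' z, m (c * c') z = m c (m c' z) := fun c c' z => by
    obtain ⟨x, rfl⟩ := hφ z
    rw [hm, hm, hm, map_mul, MulAut.mul_apply]
  have hone : ∀ z, m 1 z = z := fun z => by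
    obtain ⟨x, rfl⟩ := hφ z
    rw [hm, map_one, MulAut.one_apply]
  let Θ : C → MulAut P := fun c => (m c).toMulEquiv (m c⁻¹)
    (MonoidHom.ext fun z => by show m c⁻¹ (m c z) = z; rw [← hmul, inv_mul_cancel, hone])
    (MonoidHom.ext fun z => by show m c (m c⁻¹ z) = z; rw [← hmul, mul_inv_cancel, hone])
  exact ⟨MonoidHom.mk' Θ fun c c' => MulEquiv.ext fun z => hmul c c' z, hm⟩

/-- The automorphism group of PSU(4, 2) has order at most 51840. -/
theorem card_aut_le : Nat.card (MulAut P4) ≤ 51840 := by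
  haveI : Fact (Nat.Prime 2) := ⟨Nat.prime_two⟩
  obtain ⟨ψ, hψ, -, hk⟩ := CfsgLib.Known.AutPSU.exists_out (n := 4) (F := F4) (q := 2) (p := 2) (f := 1) F4.card
    (by norm_num) (by norm_num) le_rfl rfl
  have hout : Nat.card (Cfsg.Out P4) = 2 := by
    rw [ψ.ker.card_eq_card_quotient_mul_card_subgroup,
      Nat.card_congr (QuotientGroup.quotientKerEquivOfSurjective ψ hψ).toEquiv, hk,
      Nat.card_congr Multiplicative.toAdd, Nat.card_zmod]
    decide
  rw [(Cfsg.Inn P4).card_eq_card_quotient_mul_card_subgroup,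
    show Nat.card (MulAut P4 ⧸ Cfsg.Inn P4) = 2 from hout]
  have : Nat.card ↥(Cfsg.Inn P4) ≤ Nat.card P4 :=
    Nat.card_le_card_of_surjective (MulAut.conj : P4 →* MulAut P4).rangeRestrict
      (MulAut.conj : P4 →* MulAut P4).rangeRestrict_surjective
  rw [card_P4] at this
  omega

/-- The index type. -/
abbrev Ix : Type := (Fin 2 ⊕ Fin 2) ⊕ Fin 2

/-- The form. -/
abbrev q6 : (Ix → ZMod 2) → ZMod 2 := Cfsg.quadFormMinus 2 (ZMod 2) 1 1

/-- The polar form. -/
def bil (v x : Ix → ZMod 2) : ZMod 2 := q6 (v + x) + q6 v + q6 x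

/-- The transvection at a vector, as a matrix. -/
def tmat (v : Ix → ZMod 2) : Matrix Ix Ix (ZMod 2) :=
  fun i j => (if i = j then 1 else 0) + v i * bil v (fun k => if k = j then 1 else 0)

theorem tmat_ok : ∀ v : Ix → ZMod 2, q6 v = 1 →
    tmat v * tmat v = 1 ∧ ∀ x, tmat v *ᵥ x = x + bil v x • v := by decide +kernel

theorem tmat_form : ∀ v : Ix → ZMod 2, q6 v = 1 → ∀ x, q6 (x + bil v x • v) = q6 x := by decide +kernel

theorem anis : ∀ z₁ z₂ : ZMod 2, z₁ ^ 2 + 1 * z₁ * z₂ + 1 * z₂ ^ 2 = 0 → z₁ = 0 ∧ z₂ = 0 := by decide +kernel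

/-- Every vector is a sum of at most two nonsingular ones. -/
theorem spanned : ∀ v : Ix → ZMod 2, v = 0 ∨ q6 v = 1 ∨ ∃ a : Ix → ZMod 2, q6 a = 1 ∧ q6 (v + a) = 1 := by
  decide +kernel

theorem separated : ∀ v w : Ix → ZMod 2, q6 v = 1 → q6 w = 1 →
    (∀ x, bil v x • v = bil w x • w) → v = w := by decide +kernel

theorem card_iso : Nat.card ↥(Cfsg.isometryGroup (ZMod 2) q6) = 51840 := by
  rw [show q6 = ⇑(Quad.qMinus 2 (ZMod 2) 1 1) from (Quad.coe_qMinus 2 (ZMod 2) 1 1).symm,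
    Quad.card_isometryGroup_eq (Quad.qMinus 2 (ZMod 2) 1 1) rfl, Quad.card_OQ_qMinus (ZMod.card 2) 2 anis]
  simp [Finset.prod_range_succ]

theorem index_omega : (Cfsg.Omega (ZMod 2) q6).index = 2 := by
  have h := Quad.index_Omega (Q := Quad.qMinus 2 (ZMod 2) 1 1) (Quad.qMinus_nondeg anis 2) (Or.inr (by simp))
    (by simp)
  rw [Quad.coe_qMinus] at h
  rw [h, Quad.card_sqClass_of_two_eq_zero (show (2 : ZMod 2) = 0 from rfl)]

theorem center_eq_one {z : ↥(Cfsg.isometryGroup (ZMod 2) q6)} (hz : z ∈ Subgroup.center _) : z = 1 := by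
  let M : Matrix Ix Ix (ZMod 2) := ((z : GL Ix (ZMod 2)) : Matrix Ix Ix (ZMod 2))
  have hq : ∀ x, q6 (M *ᵥ x) = q6 x := fun x => z.2 x x
  have hadd : ∀ x y, bil (M *ᵥ x) (M *ᵥ y) = bil x y := fun x y => by
    simp only [bil, ← Matrix.mulVec_add, hq]
  have hfix : ∀ v, q6 v = 1 → M *ᵥ v = v := by
    intro v hv
    obtain ⟨hsq, happ⟩ := tmat_ok v hv
    let r : ↥(Cfsg.isometryGroup (ZMod 2) q6) :=
      ⟨⟨tmat v, tmat v, hsq, hsq⟩, fun x _ => by
        show q6 (tmat v *ᵥ x) = q6 x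
        rw [happ, tmat_form v hv]⟩
    have hcm : M * tmat v = tmat v * M :=
      (congrArg (fun g : ↥(Cfsg.isometryGroup (ZMod 2) q6) =>
        ((g : GL Ix (ZMod 2)) : Matrix Ix Ix (ZMod 2))) (Subgroup.mem_center_iff.1 hz r)).symm
    refine separated _ _ (by rw [hq, hv]) hv fun x => ?_
    obtain ⟨y, rfl⟩ : ∃ y, M *ᵥ y = x := ⟨(((z⁻¹ : ↥(Cfsg.isometryGroup (ZMod 2) q6)) : GL Ix (ZMod 2)) :
      Matrix Ix Ix (ZMod 2)) *ᵥ x, by
      rw [Matrix.mulVec_mulVec, ← Units.val_mul, ← Subgroup.coe_mul, mul_inv_cancel]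
      simp⟩
    have h := congrArg (· *ᵥ y) hcm
    simp only [← Matrix.mulVec_mulVec, happ, Matrix.mulVec_add, Matrix.mulVec_smul, add_right_inj] at h
    rw [hadd]
    exact h.trans rfl
  have hall : ∀ v, M *ᵥ v = v := by
    intro v
    rcases spanned v with rfl | h | ⟨a, ha, hb⟩
    · rw [Matrix.mulVec_zero]
    · exact hfix v h
    · have e : v = (v + a) + a := by
        funext i
        show v i = v i + a i + a i
        rw [add_assoc, CharTwo.add_self_eq_zero, add_zero]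
      rw [e, Matrix.mulVec_add, hfix _ hb, hfix _ ha]
  refine Subtype.ext (Units.ext ?_)
  refine Matrix.ext_of_mulVec_single fun i => ?_
  show M *ᵥ _ = (1 : Matrix Ix Ix (ZMod 2)) *ᵥ _
  rw [Matrix.one_mulVec, hall]

/-- The isometry group is the automorphism group of PSU(4, 2). -/
theorem nonempty_aut : Nonempty (↥(Cfsg.isometryGroup (ZMod 2) q6) ≃* MulAut P4) := by
  obtain ⟨e⟩ := SmallOrtho.nonempty_pomega_six_minus (K := F4) (q := 2) (ZMod.card 2) F4.card anis
  set O := Cfsg.isometryGroup (ZMod 2) q6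
  set Ω := Cfsg.Omega (ZMod 2) q6 with hΩdef
  have hcard : Nat.card ↥Ω = 25920 := by
    have h := Ω.card_mul_index
    rw [index_omega, card_iso] at h
    omega
  have hZ : Subgroup.center ↥Ω = ⊥ := by
    apply Subgroup.eq_bot_of_card_eq
    have h := (Subgroup.center ↥Ω).card_eq_card_quotient_mul_card_subgroup
    rw [hcard, Nat.card_congr e.toEquiv, card_P4] at h
    omega
  let φ : ↥Ω →* P4 := e.toMonoidHom.comp (QuotientGroup.mk' _)
  have hφ : Function.Surjective φ := e.surjective.comp (QuotientGroup.mk'_surjective _)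
  have hinj : ∀ x, φ x = 1 → x = 1 := fun x hx => by
    have h1 : (QuotientGroup.mk' (Subgroup.center ↥Ω)) x = 1 := e.injective (hx.trans (map_one e).symm)
    have h2 := (QuotientGroup.eq_one_iff x).1 h1
    rwa [hZ, Subgroup.mem_bot] at h2
  obtain ⟨Θ, hΘ⟩ := exists_descend (MulAut.conjNormal (H := Ω)) φ hφ fun c x hx => by
    rw [hinj x hx, map_one, map_one]
  have hker : ∀ g, Θ g = 1 → g = 1 := by
    intro g hg
    have hcomm : ∀ x : ↥Ω, g * (x : ↥O) = (x : ↥O) * g := fun x => by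
      have h : φ (MulAut.conjNormal g x) = φ x := by rw [← hΘ, hg, MulAut.one_apply]
      have h' : MulAut.conjNormal g x * x⁻¹ = 1 := hinj _ (by rw [map_mul, map_inv, h, mul_inv_cancel])
      have := congrArg Subtype.val (mul_inv_eq_one.1 h')
      rw [MulAut.conjNormal_apply] at this
      exact mul_inv_eq_iff_eq_mul.1 this
    set N := Subgroup.centralizer (Ω : Set ↥O)
    have hgN : g ∈ N := Subgroup.mem_centralizer_iff.2 fun x hx => (hcomm ⟨x, hx⟩).symm
    haveI : Ω.Normal := inferInstance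
    haveI : N.Normal := inferInstance
    have hdisj : N ⊓ Ω = ⊥ := eq_bot_iff.2 fun x hx => by
      have : (⟨x, hx.2⟩ : ↥Ω) ∈ Subgroup.center ↥Ω := Subgroup.mem_center_iff.2 fun y =>
        Subtype.ext (Subgroup.mem_centralizer_iff.1 hx.1 y y.2)
      rw [hZ, Subgroup.mem_bot] at this
      exact congrArg Subtype.val this
    refine center_eq_one (Subgroup.mem_center_iff.2 fun h => ?_)
    have h2 : ∀ {a : ↥O}, a ∈ N → a ≠ 1 → a ∉ Ω := fun {a} ha ha1 haΩ => ha1 (by
      have : a ∈ N ⊓ Ω := ⟨ha, haΩ⟩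
      rwa [hdisj, Subgroup.mem_bot] at this)
    by_cases hg1 : g = 1
    · rw [hg1, mul_one, one_mul]
    have hconj : h * g * h⁻¹ ∈ N := ‹N.Normal›.conj_mem g hgN h
    have hne : h * g * h⁻¹ ≠ 1 := fun e1 => hg1 (conj_eq_one_iff.1 e1)
    have hsame : (h * g * h⁻¹)⁻¹ * g ∈ Ω := by
      rw [Subgroup.mul_mem_iff_of_index_two index_omega, Ω.inv_mem_iff]
      exact iff_of_false (h2 hconj hne) (h2 hgN hg1)
    have : (h * g * h⁻¹)⁻¹ * g ∈ N ⊓ Ω := ⟨N.mul_mem (N.inv_mem hconj) hgN, hsame⟩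
    rw [hdisj, Subgroup.mem_bot, inv_mul_eq_one] at this
    exact mul_inv_eq_iff_eq_mul.1 this
  have hΘi : Function.Injective Θ := (injective_iff_map_eq_one Θ).2 hker
  have hΘs : Function.Surjective Θ := by
    rw [← MonoidHom.range_eq_top]
    refine Subgroup.eq_top_of_le_card _ (card_aut_le.trans ?_)
    rw [← Nat.card_congr (MonoidHom.ofInjective hΘi).toEquiv, card_iso]
  exact ⟨MulEquiv.ofBijective Θ ⟨hΘi, hΘs⟩⟩

end CfsgLib.ThreeTrans.LargeFischer.OrthSix
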