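import Cfsg.Agent.Lib.ThreeTrans.LargeFischer.StabA
import Cfsg.Agent.Lib.ThreeTrans.LargeFischer.Normalizer
import Cfsg.Agent.Lib.ThreeTrans.LargeFischer.OrthSix

/-!
The stabiliser of a vector of the small class in the triple cover is PSU(4, 2) (owner: helper28).
-/

set_option autoImplicit false
set_option maxRecDepth 100000
set_option maxHeartbeats 1000000

namespace CfsgLib.ThreeTrans.LargeFischer

open Matrix Cfsg Equiv
open CfsgLib.Recog.SporBound.Fi22U6 (F4)
open CfsgLib.Sporadic.U43Triple
open CfsgLib.ThreeTrans.LargeFischer.OrthSix (P4 card_P4 simple_P4)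

/-- The stabiliser of the root of the small class. -/
def stabA : Subgroup CfsgLib.Sporadic.U43Triple.G where
  carrier := {t | t ∈ triple ∧ mat t *ᵥ rootA = rootA}
  one_mem' := ⟨one_mem _, by rw [mat_one, Matrix.one_mulVec]⟩
  mul_mem' := fun {s t} hs ht => ⟨mul_mem hs.1 ht.1, by rw [mat_mul, ← Matrix.mulVec_mulVec, ht.2, hs.2]⟩
  inv_mem' := fun {s} hs => ⟨inv_mem hs.1, by
    nth_rw 1 [← hs.2]
    rw [Matrix.mulVec_mulVec, ← mat_mul, inv_mul_cancel, mat_one, Matrix.one_mulVec]⟩

theorem card_stabA : Nat.card ↥stabA = 25920 := by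
  classical
  letI : MulAction ↥triple V6 :=
    { smul := fun x v => mat x.1 *ᵥ v
      one_smul := fun v => by
        show mat (1 : CfsgLib.Sporadic.U43Triple.G) *ᵥ v = v
        rw [mat_one, Matrix.one_mulVec]
      mul_smul := fun x y v => by
        show mat (x.1 * y.1) *ᵥ v = mat x.1 *ᵥ (mat y.1 *ᵥ v)
        rw [mat_mul, Matrix.mulVec_mulVec] }
  have h1 : MulAction.stabilizer ↥triple rootA = stabA.subgroupOf triple := by
    ext x
    rw [MulAction.mem_stabilizer_iff, Subgroup.mem_subgroupOf]
    exact ⟨fun h => ⟨x.2, h⟩, fun h => h.2⟩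
  have h2 : MulAction.orbit ↥triple rootA = {v | IsoV v ∧ Om 1 v} := by
    ext v
    constructor
    · rintro ⟨x, rfl⟩
      exact ⟨iso_mulVec (star_mul_self x.1) roots_ok.2.2.2.2.1, (om_iff x.2 _).2 roots_ok.2.2.1⟩
    · rintro ⟨hv, hO⟩
      obtain ⟨g, hg, e⟩ := orbitA hv hO
      exact ⟨⟨g, hg⟩, e⟩
  have h3 := Subgroup.card_mul_index (MulAction.stabilizer ↥triple rootA)
  rw [MulAction.index_stabilizer] at h3
  erw [h2] at h3
  rw [card_triple, h1,
    Nat.card_congr (Subgroup.subgroupOfEquivOfLe (fun t ht => ht.1 : stabA ≤ triple)).toEquiv,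
    Set.ncard_eq_toFinset_card', Set.toFinset_ofPred, om_counts.1] at h3
  omega

/-- The action on the orthogonal of the root modulo the root. -/
def minor (t : CfsgLib.Sporadic.U43Triple.G) : Matrix (Fin 4) (Fin 4) F4 :=
  Matrix.of fun i j => mat t i.succ.succ j.succ.succ

theorem f4_add_self : ∀ a : F4, a + a = 0 := by decide +kernel

theorem f4_eq_of_add : ∀ a b : F4, a + b = 0 → a = b := by decide +kernel

theorem stab_cols {t : CfsgLib.Sporadic.U43Triple.G} (ht : t ∈ stabA) (i : Fin 6) :
    mat t i 0 + mat t i 1 = rootA i := by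
  have h := congrFun ht.2 i
  simp [Matrix.mulVec, dotProduct, Fin.sum_univ_six, rootA] at h
  simpa [rootA] using h

theorem stab_rows {t : CfsgLib.Sporadic.U43Triple.G} (ht : t ∈ stabA) (j : Fin 6) :
    mat t 0 j + mat t 1 j = rootA j := by
  have h := hf_mulVec (star_mul_self t) (Pi.single j 1) rootA
  rw [ht.2, hf_eq, hf_eq] at h
  simp [Fin.sum_univ_six, rootA, cj] at h
  refine h.trans ?_
  fin_cases j <;> simp [rootA]

theorem succ_succ_ne : ∀ i : Fin 4, i.succ.succ ≠ (1 : Fin 6) ∧ (1 : Fin 6) ≠ i.succ.succ := by decide +kernel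

theorem root_high : ∀ i : Fin 4, rootA i.succ.succ = 0 := by decide +kernel

theorem cols_high {t : CfsgLib.Sporadic.U43Triple.G} (ht : t ∈ stabA) (i : Fin 4) :
    mat t i.succ.succ 0 = mat t i.succ.succ 1 :=
  f4_eq_of_add _ _ ((stab_cols ht _).trans (root_high i))

theorem rows_high {t : CfsgLib.Sporadic.U43Triple.G} (ht : t ∈ stabA) (j : Fin 4) :
    mat t 0 j.succ.succ = mat t 1 j.succ.succ :=
  f4_eq_of_add _ _ ((stab_rows ht _).trans (root_high j))

theorem sum_six (f : Fin 6 → F4) (h : f 0 = f 1) : ∑ k, f k = ∑ k : Fin 4, f k.succ.succ := by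
  rw [Fin.sum_univ_succ, Fin.sum_univ_succ, ← add_assoc, show f 0 + f (Fin.succ 0) = 0 by
    rw [show (Fin.succ 0 : Fin 6) = 1 from rfl, h, f4_add_self], zero_add]

theorem minor_mul {s t : CfsgLib.Sporadic.U43Triple.G} (hs : s ∈ stabA) (ht : t ∈ stabA) :
    minor (s * t) = minor s * minor t := by
  ext i j
  show mat (s * t) _ _ = _
  rw [mat_mul, Matrix.mul_apply, sum_six _ (by rw [cols_high hs, rows_high ht])]
  rfl

theorem minor_unitary {t : CfsgLib.Sporadic.U43Triple.G} (ht : t ∈ stabA) (i j : Fin 4) :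
    ∑ k, cj (minor t k i) * minor t k j = if i = j then 1 else 0 := by
  have h := congrFun (congrFun (star_mul_self t) i.succ.succ) j.succ.succ
  rw [Matrix.mul_apply, sum_six _ (by simp [star', rows_high ht]), Matrix.one_apply] at h
  simp only [Fin.succ_inj] at h
  exact h

theorem hermFour_eq (u v : Fin 4 → F4) : Cfsg.hermForm 4 F4 2 u v = ∑ i, u i * cj (v i) := by
  simp [Cfsg.hermForm, cj, sq]

theorem minor_form {t : CfsgLib.Sporadic.U43Triple.G} (ht : t ∈ stabA) (u v : Fin 4 → F4) :
    Cfsg.hermForm 4 F4 2 (minor t *ᵥ u) (minor t *ᵥ v) = Cfsg.hermForm 4 F4 2 u v := by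
  rw [hermFour_eq, hermFour_eq]
  calc ∑ k, (minor t *ᵥ u) k * cj ((minor t *ᵥ v) k)
      = ∑ k, ∑ j, ∑ i, (u j * cj (v i)) * (cj (minor t k i) * minor t k j) := by
        refine Finset.sum_congr rfl fun k _ => ?_
        simp only [Matrix.mulVec, dotProduct, cj_sum, cj_mul, Finset.sum_mul, Finset.mul_sum]
        rw [Finset.sum_comm]
        exact Finset.sum_congr rfl fun j _ => Finset.sum_congr rfl fun i _ => by ring
    _ = ∑ j, ∑ i, (u j * cj (v i)) * ∑ k, cj (minor t k i) * minor t k j := by
        rw [Finset.sum_comm]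
        refine Finset.sum_congr rfl fun j _ => ?_
        rw [Finset.sum_comm]
        exact Finset.sum_congr rfl fun i _ => (Finset.mul_sum _ _ _).symm
    _ = ∑ j, u j * cj (v j) := by
        simp only [minor_unitary ht, mul_ite, mul_one, mul_zero, Finset.sum_ite_eq', Finset.mem_univ, if_true]

theorem minor_det {t : CfsgLib.Sporadic.U43Triple.G} (ht : t ∈ stabA) : (minor t).det = 1 := by
  let A : Mat := (mat t).updateRow 1 (mat t 1 + mat t 0)
  let B : Mat := A.updateCol 0 fun k => A k 0 + A k 1
  have hdet : B.det = 1 := by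
    rw [show B.det = A.det from Matrix.det_updateCol_add_self A (by decide),
      show A.det = (mat t).det from Matrix.det_updateRow_add_self _ (by decide), mat_det]
  have hA : ∀ k, k ≠ 1 → ∀ l, A k l = mat t k l := fun k hk l => by
    simp [A, Matrix.updateRow_ne hk]
  have hA1 : ∀ l, A 1 l = rootA l := fun l => by
    simp only [A, Matrix.updateRow_self, Pi.add_apply]
    rw [add_comm, stab_rows ht]
  have hB0 : ∀ k, B k 0 = if k = 0 then 1 else 0 := fun k => by
    simp only [B, Matrix.updateCol_self]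
    by_cases hk : k = 1
    · subst hk; rw [hA1, hA1]; decide +kernel
    · rw [hA k hk, hA k hk, stab_cols ht]
      revert hk; revert k; decide +kernel
  have hB : ∀ k l, l ≠ 0 → B k l = A k l := fun k l hl => by
    simp [B, Matrix.updateCol_ne hl]
  rw [Matrix.det_succ_column_zero, Finset.sum_eq_single 0 (fun k _ hk => by rw [hB0, if_neg hk, mul_zero, zero_mul])
    (by simp), hB0, if_pos rfl, Fin.succAbove_zero] at hdet
  simp only [Fin.val_zero, pow_zero, one_mul] at hdet
  rw [Matrix.det_succ_row_zero, Finset.sum_eq_single 0 (fun k _ hk => by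
      rw [Matrix.submatrix_apply, hB _ _ (Fin.succ_ne_zero _), show Fin.succ (0 : Fin 5) = (1 : Fin 6) from rfl, hA1,
        show rootA k.succ = 0 from by revert hk; revert k; decide +kernel, mul_zero, zero_mul])
    (by simp), Matrix.submatrix_apply, hB _ _ (Fin.succ_ne_zero _),
    show Fin.succ (0 : Fin 5) = (1 : Fin 6) from rfl, hA1, Matrix.submatrix_submatrix, Fin.succAbove_zero] at hdet
  simp only [Fin.val_zero, pow_zero, one_mul, show rootA 1 = 1 from rfl] at hdet
  refine Eq.trans (congrArg Matrix.det ?_) hdet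
  ext i j
  show mat t i.succ.succ j.succ.succ = B i.succ.succ j.succ.succ
  rw [hB _ _ (Fin.succ_ne_zero _), hA _ (succ_succ_ne i).1]

/-- The map to the special unitary group in dimension four. -/
def toSU : ↥stabA →* ↥(Cfsg.SU 4 F4 2) :=
  MonoidHom.mk' (fun t => ⟨⟨minor t.1, minor_det t.2⟩, fun u v => minor_form t.2 u v⟩) fun s t =>
    Subtype.ext (Subtype.ext (minor_mul s.2 t.2))

theorem pair_fact : ∀ j k : Fin 4, j ≠ k → ∀ a : F4, a ≠ 0 →
    PtA (Pi.single j.succ.succ 1 + Pi.single k.succ.succ a) ∧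
      ∀ s : F4, Om 1 (Pi.single j.succ.succ 1 + Pi.single k.succ.succ a + s • rootA) → s = 0 := by
  decide +kernel

theorem ker_toSU (t : ↥stabA) (h : toSU t = 1) : (mat t.1 0 0 = 0 ∨ mat t.1 0 0 = 1) ∧
    ∀ j : Fin 4, mat t.1 *ᵥ Pi.single j.succ.succ 1 = Pi.single j.succ.succ 1 := by
  have hminor : minor t.1 = 1 := congrArg (fun x : ↥(Cfsg.SU 4 F4 2) => ((x : Matrix.SpecialLinearGroup (Fin 4) F4) :
    Matrix (Fin 4) (Fin 4) F4)) h
  have hm : ∀ i j, mat t.1 i j = mat t.1 i j := fun _ _ => rfl
  have hcol : ∀ j : Fin 4, mat t.1 *ᵥ Pi.single j.succ.succ 1 =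
      Pi.single j.succ.succ 1 + mat t.1 0 j.succ.succ • rootA := by
    intro j
    funext i
    rw [Matrix.mulVec_single_one]
    show mat t.1 i j.succ.succ = _
    induction i using Fin.cases with
    | zero => simp [rootA, (Fin.succ_ne_zero _).symm]
    | succ i =>
      induction i using Fin.cases with
      | zero =>
        rw [show Fin.succ (0 : Fin 5) = (1 : Fin 6) from rfl, ← rows_high t.2]
        have : (1 : Fin 6) ≠ j.succ.succ := (succ_succ_ne j).2
        simp [rootA, this]
      | succ i =>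
        have e := congrFun (congrFun hminor i) j
        change mat t.1 i.succ.succ j.succ.succ = _ at e
        simp [e, root_high, Matrix.one_apply, Pi.single_apply]
  have hc : ∀ j k : Fin 4, j ≠ k → ∀ a : F4, a ≠ 0 →
      mat t.1 0 j.succ.succ + a * mat t.1 0 k.succ.succ = 0 := by
    intro j k hjk a ha
    obtain ⟨hP, hs⟩ := pair_fact j k hjk a ha
    refine hs _ ?_
    have e : (Pi.single k.succ.succ a : V6) = a • Pi.single k.succ.succ 1 := by
      rw [← Pi.single_smul', smul_eq_mul, mul_one]
    have h1 := (om_iff t.2.1 _).2 hP.1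
    rw [e, Matrix.mulVec_add, Matrix.mulVec_smul, hcol, hcol, smul_add, smul_smul, add_add_add_comm, ← add_smul,
      ← e] at h1
    exact h1
  have hz : ∀ j : Fin 4, mat t.1 0 j.succ.succ = 0 := by
    intro j
    obtain ⟨k, hk⟩ : ∃ k : Fin 4, j ≠ k := ⟨j + 1, by revert j; decide⟩
    have key : ∀ x y : F4, x + 1 * y = 0 → x + F4.om * y = 0 → x = 0 := by decide +kernel
    exact key _ _ (hc j k hk 1 one_ne_zero) (hc j k hk F4.om (by decide))
  refine ⟨?_, fun j => by rw [hcol, hz, zero_smul, add_zero]⟩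
  have hn := congrFun (congrFun (star_mul_self t.1) 0) 0
  rw [Matrix.mul_apply, Fin.sum_univ_succ, Fin.sum_univ_succ, show Fin.succ (0 : Fin 5) = (1 : Fin 6) from rfl] at hn
  have hhigh : ∀ i : Fin 4, mat t.1 i.succ.succ 0 = 0 := fun i => by
    have hu := hf_mulVec (star_mul_self t.1) (Pi.single 0 1) (Pi.single i.succ.succ 1)
    rw [hcol, hz, zero_smul, add_zero, hf_eq, hf_eq] at hu
    simp [Pi.single_apply, cj, (Fin.succ_ne_zero (i.succ)).symm] at hu
    exact hu
  simp [star', hhigh, cj_zero] at hn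
  have hr := stab_rows t.2 0
  have key : ∀ a b : F4, a + b = 1 → cj a * a + cj b * b = 1 → a = 0 ∨ a = 1 := by decide +kernel
  exact key _ _ (by rw [hr]; rfl) (by simpa [star'] using hn)

/-- The stabiliser as PSU(4, 2). -/
theorem exists_equiv : Nonempty (↥stabA ≃* P4) := by
  haveI := simple_P4
  let π : ↥stabA →* P4 := (QuotientGroup.mk' _).comp toSU
  have hSU : Nat.card ↥(Cfsg.SU 4 F4 2) = 25920 := by
    have h := CfsgLib.Classical.Herm.card_SU (F := F4) (q := 2) F4.card 4 (by norm_num)
    norm_num [Finset.prod_range_succ, Nat.even_iff] at h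
    omega
  have hctr : Subgroup.center ↥(Cfsg.SU 4 F4 2) = ⊥ := by
    refine Subgroup.eq_bot_of_card_eq _ ?_
    have h := (Subgroup.center ↥(Cfsg.SU 4 F4 2)).card_eq_card_quotient_mul_card_subgroup
    rw [hSU, show Nat.card (↥(Cfsg.SU 4 F4 2) ⧸ Subgroup.center ↥(Cfsg.SU 4 F4 2)) = 25920 from card_P4] at h
    omega
  have hk : Nat.card ↥π.ker ≤ 2 := by
    have hmem : ∀ x : ↥π.ker, toSU x.1 = 1 := fun x => by
      have h1 := (QuotientGroup.eq_one_iff (toSU x.1)).1 x.2
      exact Subgroup.mem_bot.1 (hctr.le h1)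
    have := Nat.card_le_card_of_injective (fun x : ↥π.ker => decide (mat x.1.1 0 0 = 0)) fun x y e => by
      obtain ⟨hx0, hx⟩ := ker_toSU x.1 (hmem x)
      obtain ⟨hy0, hy⟩ := ker_toSU y.1 (hmem y)
      have e00 : mat x.1.1 0 0 = mat y.1.1 0 0 := by
        simp only [decide_eq_decide] at e
        rcases hx0 with a | a <;> rcases hy0 with b | b <;> rw [a, b] at e ⊢ <;> simp at e
      have hcol : ∀ l : Fin 6, mat x.1.1 *ᵥ Pi.single l 1 = mat y.1.1 *ᵥ Pi.single l 1 := by
        have h0 : mat x.1.1 *ᵥ Pi.single 0 1 = mat y.1.1 *ᵥ Pi.single 0 1 := by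
          rw [Matrix.mulVec_single_one, Matrix.mulVec_single_one]
          funext i
          show mat x.1.1 i 0 = mat y.1.1 i 0
          induction i using Fin.cases with
          | zero => exact e00
          | succ i =>
            induction i using Fin.cases with
            | zero =>
              refine add_left_cancel (a := mat x.1.1 0 0) ?_
              show mat x.1.1 0 0 + mat x.1.1 1 0 = mat x.1.1 0 0 + mat y.1.1 1 0
              conv_rhs => rw [e00]
              rw [stab_rows x.1.2, stab_rows y.1.2]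
            | succ i =>
              have key : ∀ z : ↥stabA, (∀ j : Fin 4, mat z.1 *ᵥ Pi.single j.succ.succ 1 = Pi.single j.succ.succ 1) →
                  mat z.1 i.succ.succ 0 = 0 := fun z hz => by
                have hu := hf_mulVec (star_mul_self z.1) (Pi.single 0 1) (Pi.single i.succ.succ 1)
                rw [hz, hf_eq, hf_eq] at hu
                simp [Pi.single_apply, cj, (Fin.succ_ne_zero (i.succ)).symm] at hu
                exact hu
              rw [key _ hx, key _ hy]
        intro l
        induction l using Fin.cases with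
        | zero => exact h0
        | succ l =>
          induction l using Fin.cases with
          | zero =>
            have e1 : (Pi.single (Fin.succ 0) 1 : V6) = rootA + Pi.single 0 1 := by decide +kernel
            rw [e1, Matrix.mulVec_add, Matrix.mulVec_add, x.1.2.2, y.1.2.2, h0]
          | succ l => rw [hx, hy]
      refine Subtype.ext (Subtype.ext (mat_injective ?_))
      exact Matrix.ext_of_mulVec_single hcol
    rwa [Nat.card_eq_fintype_card (α := Bool), Fintype.card_bool] at this
  have hc : Nat.card ↥stabA = Nat.card ↥π.range * Nat.card ↥π.ker := by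
    rw [Subgroup.card_eq_card_quotient_mul_card_subgroup π.ker,
      Nat.card_congr (QuotientGroup.quotientKerEquivRange π).toEquiv]
  rw [card_stabA] at hc
  have hidx := π.range.card_mul_index
  rw [card_P4] at hidx
  have hone : π.range.index = 1 := by
    by_contra hne
    have h2 : π.range.index = 2 := by
      have := Nat.mul_le_mul_left (Nat.card ↥π.range) hk
      have h0 : π.range.index ≠ 0 := Subgroup.index_ne_zero_of_finite
      rw [← hc] at this
      by_contra h3
      have := Nat.mul_le_mul_left (Nat.card ↥π.range) (show 3 ≤ π.range.index by omega)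
      omega
    rcases (Subgroup.normal_of_index_eq_two h2).eq_bot_or_eq_top with e | e
    · rw [e, Subgroup.index_bot, card_P4] at h2; omega
    · rw [e, Subgroup.index_top] at hne; exact hne rfl
  rw [hone, mul_one] at hidx
  refine ⟨MulEquiv.ofBijective π ⟨?_, MonoidHom.range_eq_top.1 (Subgroup.index_eq_one.1 hone)⟩⟩
  rw [← MonoidHom.ker_eq_bot_iff]
  refine Subgroup.eq_bot_of_card_eq _ ?_
  rw [hidx] at hc
  omega

end CfsgLib.ThreeTrans.LargeFischer
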