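import Cfsg.Agent.Lib.ThreeTrans.LargeFischer.Normalizer
import Cfsg.Agent.Lib.ThreeTrans.LargeFischer.StabBData

/-!
The stabiliser in the triple cover of a vector of the large class: an elementary group of order sixteen
extended by the alternating group of degree six (owner: helper28).
-/

set_option autoImplicit false
set_option maxRecDepth 100000
set_option maxHeartbeats 1000000
set_option Elab.async false

namespace CfsgLib.ThreeTrans.LargeFischer

open Matrix Cfsg Equiv
open CfsgLib.Recog.SporBound.Fi22U6 (F4)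
open CfsgLib.Sporadic.U43Triple

/-- The generators as literals. -/
def sLit (k : Fin 3) : Mat := rows (stabRows.getD k.1 [])

/-- The elements of the normal subgroup as literals. -/
def uLit (n : Fin 16) : Mat := rows (uRows.getD n.1 [])

/-- The sum of two labels. -/
def uAdd (a b : Fin 16) : Fin 16 := ⟨(a.1 ^^^ b.1) % 16, Nat.mod_lt _ (by norm_num)⟩

/-- The index of a list entry. -/
def idx16 (l : List ℕ) (n : Fin 16) : Fin 16 := ⟨l.getD n.1 0 % 16, Nat.mod_lt _ (by norm_num)⟩

/-- Checking a product step by step. -/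
def chainOK {n : ℕ} (base : Fin n → Mat) : List (Fin n × List (List ℕ)) → Mat → Mat → Bool
  | [], cur, target => decide (cur = target)
  | (k, r) :: t, cur, target => decide (cur * base k = rows r) && chainOK base t (rows r) target

theorem chainOK_spec {n : ℕ} {base : Fin n → Mat} {elt : Fin n → G} {H : Subgroup G} (he : ∀ k, mat (elt k) = base k)
    (hH : ∀ k, elt k ∈ H) (l : List (Fin n × List (List ℕ))) :
    ∀ (g : G) (target : Mat), g ∈ H → chainOK base l (mat g) target = true → ∃ g' ∈ H, mat g' = target := by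
  induction l with
  | nil => intro g target hg h; exact ⟨g, hg, of_decide_eq_true h⟩
  | cons a t ih =>
    obtain ⟨k, r⟩ := a
    intro g target hg h
    rw [chainOK, Bool.and_eq_true, decide_eq_true_eq] at h
    refine ih (g * elt k) target (mul_mem hg (hH k)) ?_
    rw [mat_mul, he, h.1]
    exact h.2

theorem stab_chain : ∀ k : Fin 3, chainOK genLit (stabSteps.getD k.1 []) 1 (sLit k) = true := by decide +kernel

theorem exists_sElt (k : Fin 3) : ∃ g ∈ triple, mat g = sLit k :=
  chainOK_spec (fun k => mat_gen k) gen_mem _ 1 _ (one_mem _) (by rw [mat_one]; exact stab_chain k)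

/-- The generators of the stabiliser. -/
noncomputable def sElt (k : Fin 3) : G := (exists_sElt k).choose

theorem mat_sElt (k : Fin 3) : mat (sElt k) = sLit k := (exists_sElt k).choose_spec.2

theorem sElt_mem (k : Fin 3) : sElt k ∈ triple := (exists_sElt k).choose_spec.1

/-- The stabiliser of the root. -/
def stabB : Subgroup G where
  carrier := {t | t ∈ triple ∧ mat t *ᵥ rootB = rootB}
  one_mem' := ⟨one_mem _, by rw [mat_one, Matrix.one_mulVec]⟩
  mul_mem' := fun {s t} hs ht => ⟨mul_mem hs.1 ht.1, by rw [mat_mul, ← Matrix.mulVec_mulVec, ht.2, hs.2]⟩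
  inv_mem' := fun {s} hs => ⟨inv_mem hs.1, by
    nth_rw 1 [← hs.2]
    rw [Matrix.mulVec_mulVec, ← mat_mul, inv_mul_cancel, mat_one, Matrix.one_mulVec]⟩

theorem card_stabB : Nat.card ↥stabB = 5760 := by
  classical
  letI : MulAction ↥triple V6 :=
    { smul := fun x v => mat x.1 *ᵥ v
      one_smul := fun v => by
        show mat (1 : G) *ᵥ v = v
        rw [mat_one, Matrix.one_mulVec]
      mul_smul := fun x y v => by
        show mat (x.1 * y.1) *ᵥ v = mat x.1 *ᵥ (mat y.1 *ᵥ v)
        rw [mat_mul, Matrix.mulVec_mulVec] }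
  have h1 : MulAction.stabilizer ↥triple rootB = stabB.subgroupOf triple := by
    ext x
    rw [MulAction.mem_stabilizer_iff, Subgroup.mem_subgroupOf]
    exact ⟨fun h => ⟨x.2, h⟩, fun h => h.2⟩
  have h2 : MulAction.orbit ↥triple rootB = {v | IsoV v ∧ ¬ Om 1 v} := by
    ext v
    constructor
    · rintro ⟨x, rfl⟩
      exact ⟨iso_mulVec (star_mul_self x.1) roots_ok.2.2.2.2.2, fun h => roots_ok.2.2.2.1 ((om_iff x.2 _).1 h)⟩
    · rintro ⟨hv, hO⟩
      obtain ⟨g, hg, e⟩ := orbitB hv hO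
      exact ⟨⟨g, hg⟩, e⟩
  have h3 := Subgroup.card_mul_index (MulAction.stabilizer ↥triple rootB)
  rw [MulAction.index_stabilizer] at h3
  erw [h2] at h3
  rw [card_triple, h1,
    Nat.card_congr (Subgroup.subgroupOfEquivOfLe (fun t ht => ht.1 : stabB ≤ triple)).toEquiv,
    Set.ncard_eq_toFinset_card', Set.toFinset_setOf, om_counts.2] at h3
  omega

/-- The group of the generators. -/
noncomputable def genGroup : Subgroup G := Subgroup.closure (Set.range sElt)

theorem sLit_root : ∀ k, sLit k *ᵥ rootB = rootB := by decide +kernel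

theorem genGroup_le : genGroup ≤ stabB := (Subgroup.closure_le _).2 (by
  rintro _ ⟨k, rfl⟩
  exact ⟨sElt_mem k, by rw [mat_sElt, sLit_root]⟩)

theorem finite_induction {S : Set G} {p : G → Prop} (h1 : p 1) (hm : ∀ a b, p a → p b → p (a * b))
    (hS : ∀ x ∈ S, p x) {g : G} (hg : g ∈ Subgroup.closure S) : p g := by
  induction hg using Subgroup.closure_induction with
  | mem x hx => exact hS x hx
  | one => exact h1
  | mul a b _ _ ha hb => exact hm a b ha hb
  | inv a _ ha =>
    have hp : ∀ n : ℕ, p (a ^ n) := fun n => by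
      induction n with
      | zero => rwa [pow_zero]
      | succ n ih => rw [pow_succ]; exact hm _ _ ih ha
    have : a⁻¹ = a ^ (orderOf a - 1) := by
      rw [inv_eq_iff_mul_eq_one, ← pow_succ', Nat.sub_add_cancel (orderOf_pos a), pow_orderOf_eq_one]
    rw [this]; exact hp _

/-- Membership in a block. -/
def InB (k : Fin 6) (v : V6) : Prop := code v ∈ blocks.getD k.1 []

instance (k : Fin 6) : DecidablePred (InB k) := fun _ => inferInstanceAs (Decidable (_ ∈ _))

/-- The permutation of the blocks by a generator. -/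
def bPerm (k : Fin 3) (i : Fin 6) : Fin 6 := ⟨(blockPerm.getD k.1 []).getD i.1 0 % 6, Nat.mod_lt _ (by norm_num)⟩

theorem bPerm_bij : ∀ k, Function.Injective (bPerm k) := by decide +kernel

/-- The same as a permutation. -/
noncomputable def bEquiv (k : Fin 3) : Perm (Fin 6) :=
  Equiv.ofBijective (bPerm k) (Finite.injective_iff_bijective.1 (bPerm_bij k))

theorem block_move : ∀ k : Fin 3, ∀ i : Fin 6,
    (blocks.getD i.1 []).all (fun c => decide (InB (bPerm k i) (sLit k *ᵥ vec6 c))) = true := by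
  decide +kernel

theorem block_lt : ∀ i : Fin 6, (blocks.getD i.1 []).all (fun c => decide (c < 4096)) = true := by decide +kernel

theorem block_disjoint : ∀ i j : Fin 6, i ≠ j →
    (blocks.getD i.1 []).all (fun c => decide (c ∉ blocks.getD j.1 [])) = true := by decide +kernel

theorem block_rep : ∀ i : Fin 6, ∃ c, c ∈ blocks.getD i.1 [] ∧ c < 4096 := by
  intro i
  have h1 : ∀ i : Fin 6, (blocks.getD i.1 []).headD 5000 ∈ blocks.getD i.1 [] := by decide +kernel
  exact ⟨_, h1 i, of_decide_eq_true (List.all_eq_true.1 (block_lt i) _ (h1 i))⟩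

theorem inB_unique {i j : Fin 6} {v : V6} (hi : InB i v) (hj : InB j v) : i = j := by
  by_contra hne
  exact of_decide_eq_true (List.all_eq_true.1 (block_disjoint i j hne) _ hi) hj

/-- Moving the blocks by a permutation. -/
def Moves (g : G) (σ : Perm (Fin 6)) : Prop := ∀ i v, InB i v → InB (σ i) (mat g *ᵥ v)

theorem moves_mul {a b : G} {σ τ : Perm (Fin 6)} (ha : Moves a σ) (hb : Moves b τ) : Moves (a * b) (σ * τ) := by
  intro i v hv
  rw [mat_mul, ← Matrix.mulVec_mulVec]
  exact ha _ _ (hb _ _ hv)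

theorem moves_unique {g : G} {σ τ : Perm (Fin 6)} (hσ : Moves g σ) (hτ : Moves g τ) : σ = τ := by
  refine Equiv.ext fun i => ?_
  obtain ⟨c, hc, hlt⟩ := block_rep i
  have hin : InB i (vec6 c) := by
    show code (vec6 c) ∈ _
    have hd : ∀ a < 4, (F4.ofNat4 a).num = a := by decide
    have : code (vec6 c) = c := by
      simp only [code, vec6]
      rw [hd _ (Nat.mod_lt _ (by norm_num)), hd _ (Nat.mod_lt _ (by norm_num)), hd _ (Nat.mod_lt _ (by norm_num)),
        hd _ (Nat.mod_lt _ (by norm_num)), hd _ (Nat.mod_lt _ (by norm_num)), hd _ (Nat.mod_lt _ (by norm_num))]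
      norm_num
      omega
    rw [this]; exact hc
  exact inB_unique (hσ i _ hin) (hτ i _ hin)

theorem moves_gen (k : Fin 3) : Moves (sElt k) (bEquiv k) := by
  intro i v hv
  rw [mat_sElt, ← (code_vec v).2]
  exact of_decide_eq_true (List.all_eq_true.1 (block_move k i) _ hv)

theorem exists_moves (g : ↥genGroup) : ∃ σ, Moves g.1 σ :=
  finite_induction (p := fun g => ∃ σ, Moves g σ) ⟨1, fun i v hv => by rwa [mat_one, Matrix.one_mulVec]⟩
    (fun _ _ ⟨σ, hσ⟩ ⟨τ, hτ⟩ => ⟨σ * τ, moves_mul hσ hτ⟩) (by rintro _ ⟨k, rfl⟩; exact ⟨_, moves_gen k⟩) g.2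

/-- The action on the six blocks. -/
noncomputable def blockHom : ↥genGroup →* Perm (Fin 6) :=
  MonoidHom.mk' (fun g => (exists_moves g).choose) fun a b =>
    moves_unique (exists_moves (a * b)).choose_spec (moves_mul (exists_moves a).choose_spec (exists_moves b).choose_spec)

theorem blockHom_spec (g : ↥genGroup) : Moves g.1 (blockHom g) := (exists_moves g).choose_spec

theorem blockHom_gen (k : Fin 3) : blockHom ⟨sElt k, Subgroup.subset_closure ⟨k, rfl⟩⟩ = bEquiv k :=
  moves_unique (blockHom_spec _) (moves_gen k)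

/-- The value of a word on the blocks. -/
def bVal : List (Fin 3) → Fin 6 → Fin 6
  | [], i => i
  | k :: t, i => bPerm k (bVal t i)

theorem cyc_all : ∀ σ : Perm (Fin 6), σ.support.card = 3 → ∃ w ∈ cycWords, ∀ i, bVal w i = σ i := by
  decide +kernel

theorem alt_le_range : alternatingGroup (Fin 6) ≤ blockHom.range := by
  rw [← Equiv.Perm.closure_three_cycles_eq_alternating, Subgroup.closure_le]
  intro σ hσ
  obtain ⟨w, -, hw⟩ := cyc_all σ (Equiv.Perm.IsThreeCycle.card_support hσ)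
  have key : ∀ w, ∃ g, ∀ i, blockHom g i = bVal w i := by
    intro w
    induction w with
    | nil => exact ⟨1, fun i => by rw [map_one]; rfl⟩
    | cons k t ih =>
      obtain ⟨g, hg⟩ := ih
      exact ⟨⟨sElt k, Subgroup.subset_closure ⟨k, rfl⟩⟩ * g, fun i => by
        rw [map_mul, blockHom_gen, Equiv.Perm.mul_apply, hg]; rfl⟩
  obtain ⟨g, hg⟩ := key w
  exact ⟨g, Equiv.ext fun i => (hg i).trans (hw i)⟩

theorem u_chain : ∀ i : Fin 4, chainOK sLit (uSteps.getD i.1 []) 1 (uLit ⟨2 ^ i.1 % 16, Nat.mod_lt _ (by norm_num)⟩) = true := by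
  decide +kernel

theorem uLit_mul0 : ∀ a : Fin 2, ∀ b, uLit ⟨2 * 0 + a.1, by omega⟩ * uLit b = uLit (uAdd ⟨2 * 0 + a.1, by omega⟩ b) := by
  decide +kernel

theorem uLit_mul1 : ∀ a : Fin 2, ∀ b, uLit ⟨2 * 1 + a.1, by omega⟩ * uLit b = uLit (uAdd ⟨2 * 1 + a.1, by omega⟩ b) := by
  decide +kernel

theorem uLit_mul2 : ∀ a : Fin 2, ∀ b, uLit ⟨2 * 2 + a.1, by omega⟩ * uLit b = uLit (uAdd ⟨2 * 2 + a.1, by omega⟩ b) := by
  decide +kernel

theorem uLit_mul3 : ∀ a : Fin 2, ∀ b, uLit ⟨2 * 3 + a.1, by omega⟩ * uLit b = uLit (uAdd ⟨2 * 3 + a.1, by omega⟩ b) := by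
  decide +kernel

theorem uLit_mul4 : ∀ a : Fin 2, ∀ b, uLit ⟨2 * 4 + a.1, by omega⟩ * uLit b = uLit (uAdd ⟨2 * 4 + a.1, by omega⟩ b) := by
  decide +kernel

theorem uLit_mul5 : ∀ a : Fin 2, ∀ b, uLit ⟨2 * 5 + a.1, by omega⟩ * uLit b = uLit (uAdd ⟨2 * 5 + a.1, by omega⟩ b) := by
  decide +kernel

theorem uLit_mul6 : ∀ a : Fin 2, ∀ b, uLit ⟨2 * 6 + a.1, by omega⟩ * uLit b = uLit (uAdd ⟨2 * 6 + a.1, by omega⟩ b) := by
  decide +kernel

theorem uLit_mul7 : ∀ a : Fin 2, ∀ b, uLit ⟨2 * 7 + a.1, by omega⟩ * uLit b = uLit (uAdd ⟨2 * 7 + a.1, by omega⟩ b) := by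
  decide +kernel

theorem uLit_mul (a b : Fin 16) : uLit a * uLit b = uLit (uAdd a b) := by
  obtain ⟨k, r, rfl⟩ : ∃ (k : Fin 8) (r : Fin 2), a = ⟨2 * k.1 + r.1, by omega⟩ :=
    ⟨⟨a.1 / 2, by omega⟩, ⟨a.1 % 2, by omega⟩, Fin.ext (by show a.1 = 2 * (a.1 / 2) + a.1 % 2; omega)⟩
  fin_cases k
  · exact uLit_mul0 r b
  · exact uLit_mul1 r b
  · exact uLit_mul2 r b
  · exact uLit_mul3 r b
  · exact uLit_mul4 r b
  · exact uLit_mul5 r b
  · exact uLit_mul6 r b
  · exact uLit_mul7 r b

theorem uLit_zero : uLit 0 = 1 := by decide +kernel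

theorem uLit_injective : ∀ a b, uLit a = uLit b → a = b := by decide +kernel

theorem bit_decomp : ∀ n : Fin 16, n = uAdd (uAdd (if n.1.testBit 0 then (⟨2 ^ 0 % 16, Nat.mod_lt _ (by norm_num)⟩ : Fin 16) else (0 : Fin 16))
      (if n.1.testBit 1 then (⟨2 ^ 1 % 16, Nat.mod_lt _ (by norm_num)⟩ : Fin 16) else (0 : Fin 16)))
      (uAdd (if n.1.testBit 2 then (⟨2 ^ 2 % 16, Nat.mod_lt _ (by norm_num)⟩ : Fin 16) else (0 : Fin 16))
      (if n.1.testBit 3 then (⟨2 ^ 3 % 16, Nat.mod_lt _ (by norm_num)⟩ : Fin 16) else (0 : Fin 16))) := by decide +kernel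

theorem exists_uElt (n : Fin 16) : ∃ g ∈ genGroup, mat g = uLit n := by
  have hb : ∀ i : Fin 4, ∃ g ∈ genGroup, mat g = uLit ⟨2 ^ i.1 % 16, Nat.mod_lt _ (by norm_num)⟩ := fun i =>
    chainOK_spec (H := genGroup) mat_sElt (fun k => Subgroup.subset_closure ⟨k, rfl⟩) _ 1 _ (one_mem _)
      (by rw [mat_one]; exact u_chain i)
  have hadd : ∀ a b, (∃ g ∈ genGroup, mat g = uLit a) → (∃ g ∈ genGroup, mat g = uLit b) →
      ∃ g ∈ genGroup, mat g = uLit (uAdd a b) := by
    rintro a b ⟨g, hg, eg⟩ ⟨k, hk, ek⟩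
    exact ⟨g * k, mul_mem hg hk, by rw [mat_mul, eg, ek, uLit_mul]⟩
  have h0 : ∃ g ∈ genGroup, mat g = uLit 0 := ⟨1, one_mem _, by rw [mat_one, uLit_zero]⟩
  have hc : ∀ c : Bool, ∀ i : Fin 4,
      ∃ g ∈ genGroup, mat g = uLit (if c then ⟨2 ^ i.1 % 16, Nat.mod_lt _ (by norm_num)⟩ else 0) := by
    intro c i; cases c
    · exact h0
    · exact hb i
  rw [bit_decomp n]
  exact hadd _ _ (hadd _ _ (hc _ 0) (hc _ 1)) (hadd _ _ (hc _ 2) (hc _ 3))

/-- An element of the normal subgroup. -/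
noncomputable def uElt (n : Fin 16) : G := (exists_uElt n).choose

theorem mat_uElt (n : Fin 16) : mat (uElt n) = uLit n := (exists_uElt n).choose_spec.2

theorem uElt_mem (n : Fin 16) : uElt n ∈ genGroup := (exists_uElt n).choose_spec.1

theorem uElt_mul (a b : Fin 16) : uElt a * uElt b = uElt (uAdd a b) :=
  mat_injective (by rw [mat_mul, mat_uElt, mat_uElt, mat_uElt, uLit_mul])

theorem uElt_injective : Function.Injective uElt := fun a b h =>
  uLit_injective a b (by rw [← mat_uElt, ← mat_uElt, h])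

theorem block_fix : ∀ n : Fin 4, ∀ i : Fin 6,
    (blocks.getD i.1 []).all
      (fun c => decide (InB i (uLit ⟨2 ^ n.1 % 16, Nat.mod_lt _ (by norm_num)⟩ *ᵥ vec6 c))) = true := by
  decide +kernel

theorem moves_uElt (n : Fin 16) : Moves (uElt n) 1 := by
  have hb : ∀ i : Fin 4, Moves (uElt ⟨2 ^ i.1 % 16, Nat.mod_lt _ (by norm_num)⟩) 1 := fun i j v hv => by
    rw [mat_uElt, ← (code_vec v).2]
    exact of_decide_eq_true (List.all_eq_true.1 (block_fix i j) _ hv)
  have h0 : Moves (uElt 0) 1 := fun j v hv => by rwa [mat_uElt, uLit_zero, Matrix.one_mulVec]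
  have hc : ∀ c : Bool, ∀ i : Fin 4,
      Moves (uElt (if c then (⟨2 ^ i.1 % 16, Nat.mod_lt _ (by norm_num)⟩ : Fin 16) else 0)) 1 := by
    intro c i; cases c
    · exact h0
    · exact hb i
  have hadd : ∀ a b, Moves (uElt a) 1 → Moves (uElt b) 1 → Moves (uElt (uAdd a b)) 1 := fun a b ha hb => by
    rw [← uElt_mul, ← one_mul (1 : Perm (Fin 6))]; exact moves_mul ha hb
  rw [bit_decomp n]
  exact hadd _ _ (hadd _ _ (hc _ 0) (hc _ 1)) (hadd _ _ (hc _ 2) (hc _ 3))

theorem main_counts : genGroup = stabB ∧ Nat.card ↥blockHom.ker = 16 ∧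
    blockHom.range = alternatingGroup (Fin 6) := by
  have hker : 16 ≤ Nat.card ↥blockHom.ker := by
    have := Nat.card_le_card_of_injective (fun n : Fin 16 => (⟨⟨uElt n, uElt_mem n⟩,
      MonoidHom.mem_ker.2 (moves_unique (blockHom_spec _) (moves_uElt n))⟩ : ↥blockHom.ker))
      fun a b h => uElt_injective (congrArg (fun x : ↥blockHom.ker => x.1.1) h)
    rwa [Nat.card_fin] at this
  have halt : Nat.card ↥(alternatingGroup (Fin 6)) = 360 := by
    have h := nat_card_alternatingGroup (α := Fin 6)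
    rw [Nat.card_fin] at h
    rw [h]; rfl
  have hr : 360 ≤ Nat.card ↥blockHom.range :=
    halt ▸ Nat.card_le_card_of_injective _ (Subgroup.inclusion_injective alt_le_range)
  have hcard : Nat.card ↥genGroup = Nat.card ↥blockHom.range * Nat.card ↥blockHom.ker := by
    rw [Subgroup.card_eq_card_quotient_mul_card_subgroup blockHom.ker,
      Nat.card_congr (QuotientGroup.quotientKerEquivRange blockHom).toEquiv]
  have hle : Nat.card ↥genGroup ≤ 5760 :=
    card_stabB ▸ Nat.card_le_card_of_injective _ (Subgroup.inclusion_injective genGroup_le)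
  have h1 : 360 * 16 ≤ Nat.card ↥blockHom.range * Nat.card ↥blockHom.ker := Nat.mul_le_mul hr hker
  have hk : Nat.card ↥blockHom.ker = 16 := by
    by_contra hc
    have h2 : 360 * 17 ≤ Nat.card ↥blockHom.range * Nat.card ↥blockHom.ker := Nat.mul_le_mul hr (by omega)
    omega
  refine ⟨Subgroup.eq_of_le_of_card_ge genGroup_le (by rw [card_stabB]; omega), hk,
    (Subgroup.eq_of_le_of_card_ge alt_le_range ?_).symm⟩
  rw [halt]
  rw [hk] at hcard
  omega

theorem stabB_eq : genGroup = stabB := main_counts.1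

theorem ker_blockHom {g : ↥genGroup} : blockHom g = 1 ↔ ∃ n, g.1 = uElt n := by
  classical
  let f : Fin 16 → ↥blockHom.ker := fun n => ⟨⟨uElt n, uElt_mem n⟩,
    MonoidHom.mem_ker.2 (moves_unique (blockHom_spec _) (moves_uElt n))⟩
  have hbij : Function.Bijective f := by
    rw [Nat.bijective_iff_injective_and_card]
    exact ⟨fun a b h => uElt_injective (congrArg (fun x : ↥blockHom.ker => x.1.1) h),
      by rw [Nat.card_fin, main_counts.2.1]⟩
  constructor
  · intro h
    obtain ⟨n, hn⟩ := hbij.2 ⟨g, h⟩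
    exact ⟨n, (congrArg (fun x : ↥blockHom.ker => x.1.1) hn).symm⟩
  · rintro ⟨n, hn⟩
    exact moves_unique (blockHom_spec g) (hn ▸ moves_uElt n)

/-- An elementary normal subgroup of the stabiliser lies in the subgroup of order sixteen. -/
theorem le_uElt (K : Subgroup G) (hK : K ≤ stabB) (hsq : ∀ x ∈ K, x * x = 1)
    (hnorm : ∀ t ∈ stabB, ∀ x ∈ K, t * x * t⁻¹ ∈ K) : ∀ x ∈ K, ∃ n, x = uElt n := by
  haveI : IsSimpleGroup ↥(alternatingGroup (Fin 6)) := alternatingGroup.isSimpleGroup (by simp)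
  intro x hx
  rw [← stabB_eq] at hK hnorm
  let f : ↥genGroup →* ↥(alternatingGroup (Fin 6)) :=
    blockHom.codRestrict _ fun g => main_counts.2.2 ▸ ⟨g, rfl⟩
  have hf : Function.Surjective f := fun y => by
    obtain ⟨g, hg⟩ := main_counts.2.2.ge y.2
    exact ⟨g, Subtype.ext hg⟩
  have hn : (K.subgroupOf genGroup).Normal := ⟨fun a ha g => hnorm g g.2 a ha⟩
  rcases (hn.map f hf).eq_bot_or_eq_top with e | e
  · refine ker_blockHom (g := ⟨x, hK hx⟩).1 ?_
    have : f ⟨x, hK hx⟩ = 1 := (Subgroup.mem_bot).1 (e ▸ ⟨⟨x, hK hx⟩, hx, rfl⟩)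
    exact congrArg Subtype.val this
  · exfalso
    obtain ⟨a, ha, ea⟩ : (⟨cycA, Equiv.Perm.mem_alternatingGroup.2 (by decide +kernel)⟩ : ↥(alternatingGroup (Fin 6))) ∈
        (K.subgroupOf genGroup).map f := e ▸ Subgroup.mem_top _
    have h2 : a * a = 1 := Subtype.ext (hsq a.1 ha)
    have h3 := congrArg Subtype.val (congrArg f h2)
    rw [map_mul, ea, map_one] at h3
    have hne : cycA * cycA ≠ (1 : Perm (Fin 6)) := by decide +kernel
    exact hne h3

/-- The orbit of bases under conjugation. -/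
def QuadIn (a : Fin 4 → Fin 16) : Prop :=
  quadMask.testBit ((a 0).1 + 16 * (a 1).1 + 256 * (a 2).1 + 4096 * (a 3).1) = true

theorem quad_spec : quadList.all (fun c => (List.range 3).all fun k =>
    let d := uConj.getD k []
    quadMask.testBit ((idx16 d (Fin.ofNat 16 c)).1 + 16 * (idx16 d (Fin.ofNat 16 (c / 16))).1 +
      256 * (idx16 d (Fin.ofNat 16 (c / 256))).1 + 4096 * (idx16 d (Fin.ofNat 16 (c / 4096))).1)) = true := by
  decide +kernel

theorem quad_mask : quadList.foldl (fun m c => Nat.lor m (2 ^ c)) 0 = quadMask := by decide +kernel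

theorem conj_table : ∀ k : Fin 3, ∀ n, sLit k * uLit n = uLit (idx16 (uConj.getD k.1 []) n) * sLit k := by
  decide +kernel

theorem sig_table : ∀ n, cjMat (uLit n) = uLit (idx16 uSig n) := by decide +kernel

theorem tau_table : ∀ n, pmat (Equiv.swap 0 1) * uLit n = uLit (idx16 uTau n) * pmat (Equiv.swap 0 1) := by
  decide +kernel

theorem mem_quadList {i : ℕ} (h : quadMask.testBit i = true) : i ∈ quadList := by
  have key : ∀ (l : List ℕ) m, (l.foldl (fun m c => Nat.lor m (2 ^ c)) m).testBit i = true →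
      m.testBit i = true ∨ i ∈ l := by
    intro l
    induction l with
    | nil => exact fun m h => Or.inl h
    | cons a t ih =>
      intro m h
      rcases ih _ h with h | h
      · change (m ||| 2 ^ a).testBit i = true at h
        rw [Nat.testBit_or, Bool.or_eq_true] at h
        rcases h with h | h
        · exact Or.inl h
        · rw [Nat.testBit_two_pow, decide_eq_true_eq] at h
          exact Or.inr (by rw [h]; exact List.mem_cons_self ..)
      · exact Or.inr (List.mem_cons_of_mem _ h)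
  rw [← quad_mask] at h
  rcases key _ _ h with h | h
  · simp at h
  · exact h

theorem quad_closed {g : G} (hg : g ∈ genGroup) : ∀ a, QuadIn a →
    ∃ b, QuadIn b ∧ ∀ i, g * uElt (a i) = uElt (b i) * g := by
  refine finite_induction (p := fun g => ∀ a, QuadIn a → ∃ b, QuadIn b ∧ ∀ i, g * uElt (a i) = uElt (b i) * g)
    (fun a ha => ⟨a, ha, fun i => by rw [one_mul, mul_one]⟩) (fun x y hx hy a ha => ?_) ?_ hg
  · obtain ⟨b, hb, eb⟩ := hy a ha
    obtain ⟨c, hc, ec⟩ := hx b hb
    exact ⟨c, hc, fun i => by rw [mul_assoc, eb, ← mul_assoc, ec, mul_assoc]⟩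
  · rintro _ ⟨k, rfl⟩ a ha
    refine ⟨fun i => idx16 (uConj.getD k.1 []) (a i), ?_, fun i => mat_injective ?_⟩
    · have h := List.all_eq_true.1 (List.all_eq_true.1 quad_spec _ (mem_quadList ha)) k.1 (List.mem_range.2 k.2)
      have h0 := (a 0).2; have h1 := (a 1).2; have h2 := (a 2).2; have h3 := (a 3).2
      have e0 : Fin.ofNat 16 ((a 0).1 + 16 * (a 1).1 + 256 * (a 2).1 + 4096 * (a 3).1) = a 0 :=
        Fin.ext (by simp only [Fin.val_ofNat]; omega)
      have e1 : Fin.ofNat 16 (((a 0).1 + 16 * (a 1).1 + 256 * (a 2).1 + 4096 * (a 3).1) / 16) = a 1 :=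
        Fin.ext (by simp only [Fin.val_ofNat]; omega)
      have e2 : Fin.ofNat 16 (((a 0).1 + 16 * (a 1).1 + 256 * (a 2).1 + 4096 * (a 3).1) / 256) = a 2 :=
        Fin.ext (by simp only [Fin.val_ofNat]; omega)
      have e3 : Fin.ofNat 16 (((a 0).1 + 16 * (a 1).1 + 256 * (a 2).1 + 4096 * (a 3).1) / 4096) = a 3 :=
        Fin.ext (by simp only [Fin.val_ofNat]; omega)
      simp only [e0, e1, e2, e3] at h
      exact h
    · rw [mat_mul, mat_mul, mat_sElt, mat_uElt, mat_uElt, conj_table]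

/-- The base. -/
def quadBase : Fin 4 → Fin 16 := ![1, 2, 4, 8]

theorem base_facts : QuadIn quadBase ∧ ¬ QuadIn (fun i => idx16 uSig (quadBase i)) ∧
    ¬ QuadIn (fun i => idx16 uTau (quadBase i)) := by
  unfold QuadIn
  decide +kernel

theorem outV_table (p : Bool × Bool) (hp : p = (true, false) ∨ p = (false, true)) :
    ∃ l, ¬ QuadIn (fun i => idx16 l (quadBase i)) ∧
      ∀ n v, outV p (uLit n *ᵥ v) = uLit (idx16 l n) *ᵥ outV p v := by
  rcases hp with rfl | rfl
  · refine ⟨uSig, base_facts.2.1, fun n v => ?_⟩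
    show sigV (uLit n *ᵥ v) = _ *ᵥ sigV v
    rw [sigV_mulVec, sig_table]
  · refine ⟨uTau, base_facts.2.2, fun n v => ?_⟩
    show tauV (uLit n *ᵥ v) = _ *ᵥ tauV v
    simp only [tauV_eq, sigElt, mat_permHom, Matrix.mulVec_mulVec]
    rw [tau_table]

theorem outV_surjective (p : Bool × Bool) : Function.Surjective (outV p) := by
  have ht : ∀ v, tauV (tauV v) = v := fun v => funext fun i => congrArg v (Equiv.swap_apply_self _ _ _)
  intro w
  obtain ⟨a, b⟩ := p
  cases a <;> cases b
  exacts [⟨w, rfl⟩, ⟨tauV w, ht w⟩, ⟨sigV w, sigV_sigV w⟩,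
    ⟨tauV (sigV w), by show sigV (tauV (tauV (sigV w))) = w; rw [ht, sigV_sigV]⟩]

/-- Only one outer map centralises the subgroup of order sixteen up to the stabiliser. -/
theorem outer_type {p : Bool × Bool} {t : G} (ht : t ∈ stabB) (hp : p ≠ (false, false))
    (hc : ∀ n v, mat t *ᵥ outV p (uLit n *ᵥ v) = uLit n *ᵥ (mat t *ᵥ outV p v)) : p = (true, true) := by
  by_contra hne
  have hp' : p = (true, false) ∨ p = (false, true) := by
    obtain ⟨a, b⟩ := p
    cases a <;> cases b <;> simp_all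
  obtain ⟨l, hl, hl'⟩ := outV_table p hp'
  rw [← stabB_eq] at ht
  obtain ⟨b, hb, eb⟩ := quad_closed (inv_mem ht) _ base_facts.1
  refine hl ?_
  have : ∀ i, idx16 l (quadBase i) = b i := fun i => by
    refine uLit_injective _ _ (Matrix.toLin'.injective (LinearMap.ext fun w => ?_))
    simp only [Matrix.toLin'_apply]
    obtain ⟨v, rfl⟩ := outV_surjective p w
    rw [← hl']
    have h1 := congrArg (fun u => mat t⁻¹ *ᵥ u) (hc (quadBase i) v)
    simp only [Matrix.mulVec_mulVec, ← mat_mul] at h1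
    rw [inv_mul_cancel, mat_one, Matrix.one_mulVec] at h1
    rw [h1, ← mat_uElt, ← mat_uElt, ← mat_mul, ← mat_mul, ← mul_assoc, eb, inv_mul_cancel_right]
  rw [show (fun i => idx16 l (quadBase i)) = b from funext this]
  exact hb

end CfsgLib.ThreeTrans.LargeFischer
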