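import Cfsg.Agent.Lib.ThreeTrans.LargeFischer.Centre
import Cfsg.Agent.Lib.ThreeTrans.LargeFischer.StabB

/-!
The stabiliser of a conjugate of the central involution: the elementary group of order 32, and the shape of
the elements outside the subgroup of index two (owner: helper28).
-/

set_option autoImplicit false
set_option maxHeartbeats 1000000
set_option maxRecDepth 100000

namespace CfsgLib.ThreeTrans.LargeFischer

open Matrix Cfsg
open CfsgLib.Recog.SporBound.Fi22U6 (F4)
open CfsgLib.Sporadic.U43Triple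

variable {G : Type*} [Group G] [Finite G] {z : G} {Q : Subgroup G}

omit [Finite G] in
theorem mem_C_commute (c : ↥(Subgroup.centralizer ({z} : Set G))) : Commute (c : G) z :=
  mem_centralizer_singleton_iff'.1 c.2

namespace Coord

variable (F : Coord z Q)

/-- The coordinates moved by an element of the centralizer. -/
def shift (d : ↥(Subgroup.centralizer ({z} : Set G))) : Coord z Q where
  large := F.large
  card := F.card
  ψ := fun a => F.ψ ⟨(d : G) * a * (d : G)⁻¹, F.large.conj_mem (mem_C_commute d) a.2⟩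
  act := F.act.comp (MulAut.conj d).toMonoidHom
  M := F.M
  index := F.index
  map_mul := fun a b => by
    rw [← F.map_mul]
    exact congrArg F.ψ (Subtype.ext (by simp [mul_assoc]))
  surj := fun v => by
    obtain ⟨a, rfl⟩ := F.surj v
    exact ⟨⟨(d : G)⁻¹ * a * (d : G)⁻¹⁻¹, F.large.conj_mem (mem_C_commute d).inv_left a.2⟩,
      congrArg F.ψ (Subtype.ext (by simp [mul_assoc]))⟩
  eq_zero := fun a => by
    rw [F.eq_zero]
    show (d : G) * a * (d : G)⁻¹ ∈ Subgroup.zpowers z ↔ _
    constructor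
    · intro h
      rcases F.large.eq_or h with e | e
      · rw [conj_eq_one_iff] at e; rw [e]; exact one_mem _
      · have : (a : G) = (d : G)⁻¹ * z * (d : G) :=
          (show (a : G) = (d : G)⁻¹ * ((d : G) * a * (d : G)⁻¹) * (d : G) by group).trans
            (congrArg (fun w => (d : G)⁻¹ * w * (d : G)) e)
        rw [this, (mem_C_commute d).inv_left.eq, mul_assoc, inv_mul_cancel, mul_one]
        exact Subgroup.mem_zpowers z
    · intro h
      rcases F.large.eq_or h with e | e <;> rw [e]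
      · simp
      · rw [(mem_C_commute d).eq, mul_inv_cancel_right]; exact Subgroup.mem_zpowers z
  sq_eq_one := fun a => by
    rw [F.sq_eq_one]
    show (d : G) * a * (d : G)⁻¹ * ((d : G) * a * (d : G)⁻¹) = 1 ↔ _
    rw [conj_mul, conj_eq_one_iff]
  commute_iff := fun a b => by
    rw [← F.commute_iff]
    exact LargeData.commute_conj_iff'.symm
  act_conj := fun c a b h => by
    show F.act (d * c * d⁻¹) _ = _
    refine F.act_conj _ _ _ ?_
    simp [h, mul_assoc]
  act_eq_one := fun c => by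
    show F.act (d * c * d⁻¹) = 1 ↔ _
    rw [_root_.map_mul, _root_.map_mul, map_inv, conj_eq_one_iff, F.act_eq_one]
  act_M := fun c hc => by
    haveI : F.M.Normal := Subgroup.normal_of_index_eq_two F.index
    exact F.act_M _ (Subgroup.Normal.conj_mem inferInstance c hc d)
  lift := fun t ht => by
    haveI : F.M.Normal := Subgroup.normal_of_index_eq_two F.index
    obtain ⟨c, hc, e⟩ := F.lift t ht
    refine ⟨d⁻¹ * c * d⁻¹⁻¹, Subgroup.Normal.conj_mem inferInstance c hc d⁻¹, fun v => ?_⟩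
    show F.act (d * (d⁻¹ * c * d⁻¹⁻¹) * d⁻¹) v = _
    rw [show d * (d⁻¹ * c * d⁻¹⁻¹) * d⁻¹ = c by group, e]
  form := fun c => F.form _

theorem exists_rootB {g : G} (hx : g * z * g⁻¹ ∈ Q) (hne : g * z * g⁻¹ ≠ z) :
    ∃ d : ↥(Subgroup.centralizer ({z} : Set G)), (F.shift d).ψ ⟨g * z * g⁻¹, hx⟩ = rootB := by
  obtain ⟨b, hb⟩ := F.surj rootB
  obtain ⟨-, -, -, hB, -, hiB⟩ := roots_ok
  rw [← hb] at hB hiB
  have h2 : orderOf (g * z * g⁻¹) = 2 :=
    (orderOf_injective (MulAut.conj g).toMonoidHom (MulAut.conj g).injective z).trans F.large.hz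
  obtain ⟨d, hd⟩ := F.conj_of_om (F.isoV_of_invol (x := ⟨g * z * g⁻¹, hx⟩) h2 hne) hiB
    (iff_of_false (F.not_om hx hne) hB)
  exact ⟨d, (congrArg F.ψ (Subtype.ext hd : (⟨_, F.large.conj_mem (mem_C_commute d) hx⟩ : ↥Q) = b)).trans hb⟩

/-- The hypotheses fixing a conjugate of the central involution at the root. -/
structure AtRoot (g : G) : Prop where
  mem : g * z * g⁻¹ ∈ Q
  ne : g * z * g⁻¹ ≠ z
  root : F.ψ ⟨g * z * g⁻¹, mem⟩ = rootB

variable (z Q) in
/-- The part of the conjugate of `Q` inside the centralizer. -/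
def side (g : G) : Subgroup ↥(Subgroup.centralizer ({z} : Set G)) :=
  ((Q.map (MulAut.conj g).toMonoidHom) ⊓ Subgroup.centralizer ({z} : Set G)).subgroupOf
    (Subgroup.centralizer ({z} : Set G))

variable {F} {g : G} (R : F.AtRoot g)
include R

theorem AtRoot.pair : LargePair z (g * z * g⁻¹) Q (Q.map (MulAut.conj g).toMonoidHom) :=
  F.large.largePair (by rw [F.card]; norm_num) R.mem R.ne

theorem AtRoot.mem_side {e : ↥(Subgroup.centralizer ({z} : Set G))} :
    e ∈ side z Q g ↔ (e : G) ∈ Q.map (MulAut.conj g).toMonoidHom := by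
  rw [side, Subgroup.mem_subgroupOf]
  exact ⟨fun h => h.1, fun h => ⟨h, e.2⟩⟩

theorem AtRoot.commute_side {e : ↥(Subgroup.centralizer ({z} : Set G))} (he : e ∈ side z Q g) :
    Commute (e : G) (g * z * g⁻¹) := R.pair.hp.commute_z (R.mem_side.1 he)

theorem AtRoot.fix_of_commute {c : ↥(Subgroup.centralizer ({z} : Set G))} (hc : Commute (c : G) (g * z * g⁻¹)) :
    F.act c rootB = rootB := by
  rw [← R.root]
  exact F.act_conj c ⟨_, R.mem⟩ ⟨_, R.mem⟩ (by rw [hc.eq, mul_inv_cancel_right])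

theorem AtRoot.act_comm {a b : ↥(Subgroup.centralizer ({z} : Set G))} (ha : a ∈ side z Q g) (hb : b ∈ side z Q g) :
    F.act (a * b) = F.act (b * a) ∧ F.act (a * a) = 1 := by
  have ha' := R.pair.right_le_core (Subgroup.mem_subgroupOf.1 ha)
  have hb' := R.pair.right_le_core (Subgroup.mem_subgroupOf.1 hb)
  refine ⟨?_, (F.act_eq_one _).2 ?_⟩
  · have h1 := (F.act_eq_one (a * b * a⁻¹ * b⁻¹)).2 (R.pair.core_mod_inf ha' hb').1.1
    rw [_root_.map_mul, _root_.map_mul, _root_.map_mul, map_inv, map_inv, mul_inv_eq_one,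
      mul_inv_eq_iff_eq_mul] at h1
    rwa [_root_.map_mul, _root_.map_mul]
  · rw [Subgroup.coe_mul, ← pow_two]
    exact (R.pair.core_mod_inf ha' ha').2.1

theorem AtRoot.tripleImage_le {t : CfsgLib.Sporadic.U43Triple.G} (ht : t ∈ F.tripleImage (side z Q g)) :
    ∃ n, t = uElt n := by
  refine le_uElt (F.tripleImage (side z Q g)) ?_ ?_ ?_ t ht
  · rintro t ⟨ht, e, he, het⟩
    exact ⟨ht, by rw [← het]; exact R.fix_of_commute (R.commute_side he)⟩
  · rintro t ⟨-, e, he, het⟩
    refine mulVec_ext fun v => ?_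
    rw [mat_mul, ← Matrix.mulVec_mulVec, ← het, ← het, ← Equiv.Perm.mul_apply, ← _root_.map_mul,
      (R.act_comm he he).2, mat_one, Matrix.one_mulVec]
    rfl
  · rintro s ⟨hs, hr⟩ t ⟨ht, e, he, het⟩
    obtain ⟨d, hd, hdt⟩ := F.exists_fixing (a := ⟨_, R.mem⟩) (by rw [R.root]; exact roots_ok.2.2.2.2.2.1) hs
      (by rw [R.root]; exact hr)
    refine ⟨mul_mem (mul_mem hs ht) (inv_mem hs), d * e * d⁻¹, R.mem_side.2 ?_, fun v => ?_⟩
    · exact (R.pair.centralizer_conj ⟨mem_C_commute d, hd⟩).2 (R.mem_side.1 he)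
    · have hdi : F.act d⁻¹ v = mat s⁻¹ *ᵥ v := by
        rw [map_inv, Equiv.Perm.inv_eq_iff_eq, hdt, Matrix.mulVec_mulVec, ← mat_mul, mul_inv_cancel, mat_one,
          Matrix.one_mulVec]
      rw [_root_.map_mul, _root_.map_mul, Equiv.Perm.mul_apply, Equiv.Perm.mul_apply, hdi, het, hdt, mat_mul,
        mat_mul, Matrix.mulVec_mulVec, Matrix.mulVec_mulVec, mul_assoc]

theorem AtRoot.counts : Nat.card ↥((side z Q g).map F.act) = 32 ∧
    Nat.card ↥(Q ⊓ Q.map (MulAut.conj g).toMonoidHom) = 2 ^ 7 ∧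
    Nat.card ↥(F.tripleImage (side z Q g)) = 16 := by
  have hP : Nat.card ↥(Q.map (MulAut.conj g).toMonoidHom) = 2 ^ 13 := by
    rw [← F.card]
    exact (Nat.card_congr (Subgroup.equivMapOfInjective Q _ (MulAut.conj g).injective).toEquiv).symm
  have hQC : Q ⊓ Q.map (MulAut.conj g).toMonoidHom ≤ Subgroup.centralizer ({z} : Set G) :=
    inf_le_left.trans F.large.le_centralizer
  have hker : Nat.card ↥(F.act.comp (side z Q g).subtype).ker =
      Nat.card ↥(Q ⊓ Q.map (MulAut.conj g).toMonoidHom) := by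
    refine Nat.card_congr
      { toFun := fun k => ⟨((k.1.1 : ↥(Subgroup.centralizer ({z} : Set G))) : G), (F.act_eq_one _).1 k.2,
          R.mem_side.1 k.1.2⟩
        invFun := fun q => ⟨⟨⟨q.1, hQC q.2⟩, R.mem_side.2 q.2.2⟩, (F.act_eq_one ⟨q.1, hQC q.2⟩).2 q.2.1⟩
        left_inv := fun k => rfl
        right_inv := fun q => rfl }
  have h1 : Nat.card ↥(side z Q g) = Nat.card ↥((side z Q g).map F.act) *
      Nat.card ↥(F.act.comp (side z Q g).subtype).ker := by
    rw [Subgroup.card_eq_card_quotient_mul_card_subgroup (F.act.comp (side z Q g).subtype).ker,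
      Nat.card_congr (QuotientGroup.quotientKerEquivRange (F.act.comp (side z Q g).subtype)).toEquiv,
      MonoidHom.range_comp, Subgroup.range_subtype]
  rw [hker, side, Nat.card_congr (Subgroup.subgroupOfEquivOfLe inf_le_right).toEquiv, card_right R.pair hP] at h1
  have h2 : Nat.card ↥(F.tripleImage (side z Q g)) ≤ 16 := by
    choose f hf using fun t : ↥(F.tripleImage (side z Q g)) => R.tripleImage_le t.2
    have := Nat.card_le_card_of_injective f fun s t e => Subtype.ext (by rw [hf s, hf t, e])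
    rwa [Nat.card_fin] at this
  have h3 := F.half_le_tripleImage (side z Q g)
  have h4 := card_inf_le R.pair F.card
  change 2 ^ 12 = Nat.card ↥((side z Q g).map F.act) * _ at h1
  have h5 : 32 ≤ Nat.card ↥((side z Q g).map F.act) := by
    by_contra hc
    have := Nat.mul_le_mul (show Nat.card ↥((side z Q g).map F.act) ≤ 31 by omega) h4
    omega
  refine ⟨by omega, ?_, by omega⟩
  rw [show Nat.card ↥((side z Q g).map F.act) = 32 by omega] at h1
  omega

theorem AtRoot.image_uElt (n : Fin 16) : uElt n ∈ F.tripleImage (side z Q g) := by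
  choose f hf using fun t : ↥(F.tripleImage (side z Q g)) => R.tripleImage_le t.2
  have hbij : Function.Bijective f := by
    rw [Nat.bijective_iff_injective_and_card]
    exact ⟨fun s t e => Subtype.ext (by rw [hf s, hf t, e]), by rw [Nat.card_fin, R.counts.2.2]⟩
  obtain ⟨t, rfl⟩ := hbij.2 n
  rw [← hf t]
  exact t.2

theorem AtRoot.exists_outer : ∃ e ∈ side z Q g, e ∉ F.M := by
  by_contra hc
  push Not at hc
  have hle : (side z Q g) ⊓ F.M = side z Q g := inf_eq_left.2 hc
  have hex : ∀ p : ↥((side z Q g).map F.act), ∃ t : ↥(F.tripleImage (side z Q g)),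
      ∀ v, (p : Equiv.Perm V6) v = mat t.1 *ᵥ v := by
    rintro ⟨_, e, he, rfl⟩
    obtain ⟨t, ht, hte⟩ := F.act_M e (hc e he)
    exact ⟨⟨t, ht, e, he, hte⟩, hte⟩
  choose f hf using hex
  have h1 := Nat.card_le_card_of_injective f fun p q e => Subtype.ext (Equiv.ext fun v => by rw [hf, hf, e])
  rw [R.counts.1, R.counts.2.2] at h1
  omega

/-- An element outside the subgroup of index two in the conjugate of `Q` has the fixed outer shape. -/
theorem AtRoot.outer_shape {e : ↥(Subgroup.centralizer ({z} : Set G))} (he : e ∈ side z Q g) (heM : e ∉ F.M) :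
    ∃ t ∈ triple, ∀ v, F.act e v = mat t *ᵥ outV (true, true) v := by
  obtain ⟨t, ht, p, hp⟩ := F.form e
  have hnt : ∀ s ∈ triple, ¬ ∀ v, F.act e v = mat s *ᵥ v := fun s hs h => by
    obtain ⟨n, rfl⟩ := R.tripleImage_le ⟨hs, e, he, h⟩
    have hall : ∀ f ∈ side z Q g, ∃ t ∈ triple, ∀ v, F.act f v = mat t *ᵥ v := by
      intro f hf
      by_cases hfM : f ∈ F.M
      · exact F.act_M f hfM
      · obtain ⟨u, hu, hu'⟩ := F.act_M (e * f)
          ((Subgroup.mul_mem_iff_of_index_two F.index).2 (iff_of_false heM hfM))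
        refine ⟨(uElt n)⁻¹ * u, mul_mem (inv_mem (stabB_eq ▸ uElt_mem n : uElt n ∈ stabB).1) hu, fun v => ?_⟩
        have h2 := congrArg (fun w => mat (uElt n)⁻¹ *ᵥ w) ((hu' v).symm)
        simp only [_root_.map_mul, Equiv.Perm.mul_apply, h, Matrix.mulVec_mulVec, ← mat_mul, inv_mul_cancel,
          mat_one, Matrix.one_mulVec] at h2
        exact h2.symm
    choose f hf1 using fun p : ↥((side z Q g).map F.act) => show ∃ t : ↥(F.tripleImage (side z Q g)),
        ∀ v, (p : Equiv.Perm V6) v = mat t.1 *ᵥ v by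
      obtain ⟨_, a, ha, rfl⟩ := p
      obtain ⟨t, ht, hta⟩ := hall a ha
      exact ⟨⟨t, ht, a, ha, hta⟩, hta⟩
    have h1 := Nat.card_le_card_of_injective f fun p q e' => Subtype.ext (Equiv.ext fun v => by
      rw [hf1 p v, hf1 q v, e'])
    rw [R.counts.1, R.counts.2.2] at h1
    omega
  have hpne : p ≠ (false, false) := fun hh => hnt t ht fun v => by rw [hp, hh]; rfl
  have hstab : t ∈ stabB := ⟨ht, by
    have := R.fix_of_commute (R.commute_side he)
    rwa [hp, (outV_roots p).2] at this⟩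
  have : p = (true, true) := outer_type hstab hpne fun n v => by
    obtain ⟨-, b, hb, hbn⟩ := R.image_uElt n
    rw [← hp, ← hp, ← mat_uElt, ← hbn, ← hbn, ← Equiv.Perm.mul_apply, ← Equiv.Perm.mul_apply, ← _root_.map_mul,
      ← _root_.map_mul, (R.act_comm he hb).1]
  exact ⟨t, ht, this ▸ hp⟩

omit R

/-- Every element outside the subgroup of index two has the same outer shape. -/
theorem outer_form (F : Coord z Q) (hg : ∃ g : G, g * z * g⁻¹ ∈ Q ∧ g * z * g⁻¹ ≠ z)
    (c : ↥(Subgroup.centralizer ({z} : Set G))) (hc : c ∉ F.M) :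
    ∃ t ∈ triple, ∀ v, F.act c v = mat t *ᵥ outV (true, true) v := by
  obtain ⟨g, hx, hne⟩ := hg
  obtain ⟨d, hd⟩ := F.exists_rootB hx hne
  have R : (F.shift d).AtRoot g := ⟨hx, hne, hd⟩
  obtain ⟨e, he, heM⟩ := R.exists_outer
  obtain ⟨t, ht, hte⟩ := R.outer_shape he heM
  haveI : F.M.Normal := Subgroup.normal_of_index_eq_two F.index
  have he' : d * e * d⁻¹ ∉ F.M := fun h => heM (by
    have := Subgroup.Normal.conj_mem inferInstance _ h d⁻¹
    rwa [show d⁻¹ * (d * e * d⁻¹) * d⁻¹⁻¹ = e by group] at this)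
  have hm : c * (d * e * d⁻¹)⁻¹ ∈ F.M :=
    (Subgroup.mul_mem_iff_of_index_two F.index).2 (iff_of_false hc (inv_mem_iff.not.2 he'))
  obtain ⟨u, hu, huc⟩ := F.act_M _ hm
  refine ⟨u * t, mul_mem hu ht, fun v => ?_⟩
  have hde : F.act (d * e * d⁻¹) v = mat t *ᵥ outV (true, true) v := hte v
  rw [← inv_mul_cancel_right c (d * e * d⁻¹), _root_.map_mul, Equiv.Perm.mul_apply, hde, huc, mat_mul,
    Matrix.mulVec_mulVec]

end Coord

end CfsgLib.ThreeTrans.LargeFischer
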