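import Cfsg.Agent.Lib.ThreeTrans.LargeFischer.PlaneGroup

/-!
The stabiliser of the plane: six points and the alternating group of degree six
(owner: helper28).
-/

set_option autoImplicit false
set_option maxRecDepth 100000
set_option maxHeartbeats 1000000
set_option Elab.async false

namespace CfsgLib.ThreeTrans.LargeFischer

open Matrix Cfsg Equiv
open CfsgLib.Recog.SporBound.Fi22U6 (F4)
open CfsgLib.Sporadic.U43Triple

/-! ### The six points -/

/-- Membership in one of the six points. -/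
def InP (i : Fin 6) (v : V6) : Prop := code v ∈ planePts.getD i.1 []

instance (i : Fin 6) : DecidablePred (InP i) := fun _ => inferInstanceAs (Decidable (_ ∈ _))

/-- A vector in each point. -/
def ptRep (i : Fin 6) : V6 := vec6 ((planePts.getD i.1 []).headD 0)

theorem pts_scal : ∀ i, ∀ a : F4, a ≠ 0 → InP i (a • ptRep i) := by decide +kernel

theorem pts_line : ∀ i : Fin 6, (planePts.getD i.1 []).all (fun c =>
    decide (c < 4096 ∧ ∃ a : F4, a ≠ 0 ∧ vec6 c = a • ptRep i)) = true := by decide +kernel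

theorem pts_class : ∀ i, InW (ptRep i) ∧ IsoV (ptRep i) ∧ Om 1 (ptRep i) := by decide +kernel

theorem pts_all : ∀ a b c, IsoV (wVec a b c) → Om 1 (wVec a b c) → ∃ i, InP i (wVec a b c) := by decide +kernel

theorem pts_disjoint : ∀ i j : Fin 6, i ≠ j → ∀ a : F4, ¬ InP j (a • ptRep i) := by decide +kernel

theorem inP_line {i : Fin 6} {v : V6} (h : InP i v) : ∃ a : F4, a ≠ 0 ∧ v = a • ptRep i := by
  obtain ⟨-, a, ha, e⟩ := of_decide_eq_true (List.all_eq_true.1 (pts_line i) _ h)
  exact ⟨a, ha, (code_vec v).2 ▸ e⟩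

theorem inP_unique {i j : Fin 6} {v : V6} (hi : InP i v) (hj : InP j v) : i = j := by
  obtain ⟨a, -, rfl⟩ := inP_line hi
  by_contra hne
  exact pts_disjoint i j hne a hj

/-- Moving the six points by a permutation. -/
def MovesP (g : G) (σ : Perm (Fin 6)) : Prop := ∀ i v, InP i v → InP (σ i) (mat g *ᵥ v)

theorem movesP_mul {a b : G} {σ τ : Perm (Fin 6)} (ha : MovesP a σ) (hb : MovesP b τ) :
    MovesP (a * b) (σ * τ) := by
  intro i v hv
  rw [mat_mul, ← Matrix.mulVec_mulVec]
  exact ha _ _ (hb _ _ hv)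

theorem inP_rep (i : Fin 6) : InP i (ptRep i) := by
  have h := pts_scal i 1 one_ne_zero
  rwa [one_smul] at h

theorem movesP_unique {g : G} {σ τ : Perm (Fin 6)} (hσ : MovesP g σ) (hτ : MovesP g τ) : σ = τ :=
  Equiv.ext fun i => inP_unique (hσ i _ (inP_rep i)) (hτ i _ (inP_rep i))

theorem exists_movesP {g : G} (hg : g ∈ stabW) : ∃ σ, MovesP g σ := by
  have hex : ∀ i, ∃ j, InP j (mat g *ᵥ ptRep i) := fun i => by
    have hW : InW (mat g *ᵥ ptRep i) := (hg.2 _).2 (pts_class i).1
    exact inW_cases (p := fun w => IsoV w → Om 1 w → ∃ j, InP j w) pts_all hW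
      (iso_mulVec (star_mul_self g) (pts_class i).2.1) ((om_iff hg.1 _).2 (pts_class i).2.2)
  choose f hf using hex
  have hall : ∀ i v, InP i v → InP (f i) (mat g *ᵥ v) := fun i v hv => by
    obtain ⟨a, ha, rfl⟩ := inP_line hv
    obtain ⟨b, hb, e⟩ := inP_line (hf i)
    rw [Matrix.mulVec_smul, e, smul_smul]
    exact pts_scal _ _ (mul_ne_zero ha hb)
  have hinj : Function.Injective f := fun i j e => by
    obtain ⟨a, ha, ea⟩ := inP_line (hf i)
    obtain ⟨b, hb, eb⟩ := inP_line (hf j)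
    rw [e] at ea
    have h1 : b • ptRep i = a • ptRep j := mul_mat_injective (star_mul_self g) (by
      show mat g *ᵥ (b • ptRep i) = mat g *ᵥ (a • ptRep j)
      rw [Matrix.mulVec_smul, Matrix.mulVec_smul, ea, eb, smul_smul, smul_smul, mul_comm])
    exact inP_unique (pts_scal i b hb) (h1 ▸ pts_scal j a ha)
  exact ⟨Equiv.ofBijective f (Finite.injective_iff_bijective.1 hinj), hall⟩

/-- The action on the six points. -/
noncomputable def hexHom : ↥stabW →* Perm (Fin 6) :=
  MonoidHom.mk' (fun g => (exists_movesP g.2).choose) fun a b =>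
    movesP_unique (exists_movesP (a * b).2).choose_spec
      (movesP_mul (exists_movesP a.2).choose_spec (exists_movesP b.2).choose_spec)

theorem hexHom_spec (g : ↥stabW) : MovesP g.1 (hexHom g) := (exists_movesP g.2).choose_spec

/-- The coefficients of the points in terms of the first three. -/
def triCo : Fin 6 → F4 × F4 × F4 :=
  ![(1, 0, 0), (0, 1, 0), (0, 0, 1), (F4.om', F4.om', 1), (F4.om', 1, F4.om'), (1, F4.om', F4.om')]

/-- A combination with these coefficients. -/
def comb (m : Fin 6) (x y w : V6) : V6 := (triCo m).1 • x + (triCo m).2.1 • y + (triCo m).2.2 • w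

theorem rep_comb : ∀ m, ptRep m = comb m (ptRep 0) (ptRep 1) (ptRep 2) := by decide +kernel

theorem basis_comb : bW 0 = F4.om • ptRep 2 + ptRep 1 ∧
    bW 1 = F4.om' • ptRep 0 + F4.om' • ptRep 1 + F4.om • ptRep 2 ∧
    bW 2 = F4.om • ptRep 0 + F4.om' • ptRep 1 := by decide +kernel

theorem mulVec_comb (A : Mat) (m : Fin 6) (x y w : V6) :
    A *ᵥ comb m x y w = comb m (A *ᵥ x) (A *ᵥ y) (A *ᵥ w) := by
  simp only [comb, Matrix.mulVec_add, Matrix.mulVec_smul]

theorem tri_one : ∀ a b c : F4,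
    (∀ m : Fin 6, InP m (comb m (a • ptRep 0) (b • ptRep 1) (c • ptRep 2))) → a = b ∧ a = c ∧ a ≠ 0 := by
  decide +kernel

theorem tri_swap : ∀ a b c : F4, ¬ ∀ m : Fin 6,
    InP (Equiv.swap 0 1 m) (comb m (a • ptRep 1) (b • ptRep 0) (c • ptRep 2)) := by decide +kernel

theorem scal_ok : ∀ a : F4, a ≠ 0 → DiagOK (fun _ : Fin 6 => a) := by decide +kernel

/-- A scalar element. -/
def scal (a : F4) (ha : a ≠ 0) : G := dElt (fun _ => a) (scal_ok a ha)

theorem scal_mem (a : F4) (ha : a ≠ 0) : scal a ha ∈ triple := diag_le_triple (dElt_mem _ _)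

theorem mat_scal (a : F4) (ha : a ≠ 0) (v : V6) : mat (scal a ha) *ᵥ v = a • v := by
  funext i
  rw [scal, mat_dElt, Matrix.mulVec_diagonal]
  rfl

theorem scal_comm (a : F4) (ha : a ≠ 0) (g : G) : scal a ha * g = g * scal a ha := by
  refine mat_injective (Matrix.toLin'.injective (LinearMap.ext fun v => ?_))
  rw [Matrix.toLin'_apply, Matrix.toLin'_apply, mat_mul, mat_mul, ← Matrix.mulVec_mulVec, ← Matrix.mulVec_mulVec,
    mat_scal, mat_scal, Matrix.mulVec_smul]

theorem scal_stabW (a : F4) (ha : a ≠ 0) : scal a ha ∈ stabW := by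
  refine ⟨scal_mem a ha, fun v => ?_⟩
  rw [mat_scal]
  exact ⟨fun h => by simpa [smul_smul, inv_mul_cancel₀ ha] using inW_smul a⁻¹ h, inW_smul a⟩

theorem hexHom_eq_one {g : ↥stabW} (h : hexHom g = 1) :
    ∃ (a : F4) (ha : a ≠ 0) (n : Fin 16), g.1 = scal a ha * uaElt n := by
  have hm : ∀ i, ∃ a : F4, a ≠ 0 ∧ mat g.1 *ᵥ ptRep i = a • ptRep i := fun i => by
    have := hexHom_spec g i _ (inP_rep i)
    rw [h] at this
    exact inP_line this
  obtain ⟨a, ha, ea⟩ := hm 0
  obtain ⟨b, -, eb⟩ := hm 1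
  obtain ⟨c, -, ec⟩ := hm 2
  obtain ⟨rfl, rfl, -⟩ := tri_one a b c fun m => by
    have := hexHom_spec g m _ (inP_rep m)
    rw [h, rep_comb, mulVec_comb, ea, eb, ec] at this
    exact this
  have hb : ∀ k, mat g.1 *ᵥ bW k = a • bW k := by
    obtain ⟨e0, e1, e2⟩ := basis_comb
    intro k
    fin_cases k
    · show mat g.1 *ᵥ bW 0 = a • bW 0
      rw [e0]; simp only [Matrix.mulVec_add, Matrix.mulVec_smul, eb, ec, smul_add, smul_smul, mul_comm a]
    · show mat g.1 *ᵥ bW 1 = a • bW 1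
      rw [e1]; simp only [Matrix.mulVec_add, Matrix.mulVec_smul, ea, eb, ec, smul_add, smul_smul, mul_comm a]
    · show mat g.1 *ᵥ bW 2 = a • bW 2
      rw [e2]; simp only [Matrix.mulVec_add, Matrix.mulVec_smul, ea, eb, smul_add, smul_smul, mul_comm a]
  have hfix : (scal a ha)⁻¹ * g.1 ∈ fixW := by
    refine ⟨mul_mem (inv_mem (scal_mem a ha)) g.2.1, fun v hv => ?_⟩
    refine inW_cases (p := fun w => mat ((scal a ha)⁻¹ * g.1) *ᵥ w = w) (fun x y w => ?_) hv
    have e : mat g.1 *ᵥ wVec x y w = a • wVec x y w := by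
      simp only [wVec, Matrix.mulVec_add, Matrix.mulVec_smul, hb, smul_add, smul_smul, mul_comm a]
    rw [mat_mul, ← Matrix.mulVec_mulVec, e, ← mat_scal a ha, Matrix.mulVec_mulVec, ← mat_mul, inv_mul_cancel,
      mat_one, Matrix.one_mulVec]
  obtain ⟨n, hn⟩ := fixW_eq hfix
  exact ⟨a, ha, n, by rw [← hn, mul_inv_cancel_left]⟩

theorem swap_not_range : Equiv.swap (0 : Fin 6) 1 ∉ hexHom.range := by
  rintro ⟨g, hg⟩
  have h := hexHom_spec g
  rw [hg] at h
  obtain ⟨a, -, ea⟩ := inP_line (h 0 _ (inP_rep 0))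
  obtain ⟨b, -, eb⟩ := inP_line (h 1 _ (inP_rep 1))
  obtain ⟨c, -, ec⟩ := inP_line (h 2 _ (inP_rep 2))
  rw [Equiv.swap_apply_left] at ea
  rw [Equiv.swap_apply_right] at eb
  rw [show Equiv.swap (0 : Fin 6) 1 2 = 2 by decide] at ec
  refine tri_swap a b c fun m => ?_
  have := h m _ (inP_rep m)
  rw [rep_comb, mulVec_comb, ea, eb, ec] at this
  exact this

/-! ### Generators of the stabiliser -/

/-- Three elements of the stabiliser as literals. -/
def selLit (k : Fin 3) : Mat := rows (planeSelRows.getD k.1 [])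

theorem sel_chain : ∀ k : Fin 3, chainOK genLit (planeSelSteps.getD k.1 []) 1 (selLit k) = true := by decide +kernel

theorem exists_selElt (k : Fin 3) : ∃ g ∈ triple, mat g = selLit k :=
  chainOK_spec (fun k => mat_gen k) gen_mem _ 1 _ (one_mem _) (by rw [mat_one]; exact sel_chain k)

/-- Three elements of the stabiliser. -/
noncomputable def selElt (k : Fin 3) : G := (exists_selElt k).choose

theorem mat_selElt (k : Fin 3) : mat (selElt k) = selLit k := (exists_selElt k).choose_spec.2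

theorem sel_stab : ∀ k, pmW * selLit k * projW = 0 := by decide +kernel

theorem selElt_mem (k : Fin 3) : selElt k ∈ stabW :=
  mem_stabW_of (exists_selElt k).choose_spec.1 (by rw [mat_selElt]; exact sel_stab k)

/-- Their permutations. -/
def selPerm (k : Fin 3) (i : Fin 6) : Fin 6 :=
  ⟨(planeSelPerm.getD k.1 []).getD i.1 0 % 6, Nat.mod_lt _ (by norm_num)⟩

theorem sel_move : ∀ k : Fin 3, ∀ i : Fin 6, InP (selPerm k i) (selLit k *ᵥ ptRep i) := by decide +kernel

theorem hexHom_sel (k : Fin 3) (i : Fin 6) : hexHom ⟨selElt k, selElt_mem k⟩ i = selPerm k i := by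
  have := hexHom_spec ⟨selElt k, selElt_mem k⟩ i _ (inP_rep i)
  rw [mat_selElt] at this
  exact inP_unique this (sel_move k i)

/-- The value of a word on the six points. -/
def sVal : List (Fin 3) → Fin 6 → Fin 6
  | [], i => i
  | k :: t, i => selPerm k (sVal t i)

theorem plane_cyc : ∀ σ : Perm (Fin 6), σ.support.card = 3 → ∃ w ∈ planeCyc, ∀ i, sVal w i = σ i := by
  decide +kernel

theorem hexHom_range : hexHom.range = alternatingGroup (Fin 6) := by
  have halt : alternatingGroup (Fin 6) ≤ hexHom.range := by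
    rw [← Equiv.Perm.closure_three_cycles_eq_alternating, Subgroup.closure_le]
    intro σ hσ
    obtain ⟨w, -, hw⟩ := plane_cyc σ (Equiv.Perm.IsThreeCycle.card_support hσ)
    have key : ∀ w, ∃ g, ∀ i, hexHom g i = sVal w i := by
      intro w
      induction w with
      | nil => exact ⟨1, fun i => by rw [map_one]; rfl⟩
      | cons k t ih =>
        obtain ⟨g, hg⟩ := ih
        exact ⟨⟨selElt k, selElt_mem k⟩ * g, fun i => by
          rw [map_mul, Equiv.Perm.mul_apply, hg, hexHom_sel]; rfl⟩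
    obtain ⟨g, hg⟩ := key w
    exact ⟨g, Equiv.ext fun i => (hg i).trans (hw i)⟩
  refine le_antisymm (fun σ hσ => ?_) halt
  by_contra h
  refine swap_not_range ?_
  have hs : Equiv.Perm.sign σ = -1 := (Int.units_eq_one_or _).resolve_left fun e => h (Equiv.Perm.mem_alternatingGroup.2 e)
  have h1 : Equiv.swap 0 1 * σ⁻¹ ∈ hexHom.range := halt (Equiv.Perm.mem_alternatingGroup.2 (by
    rw [map_mul, map_inv, hs, Equiv.Perm.sign_swap (by decide)]; rfl))
  have := mul_mem h1 hσ
  rwa [inv_mul_cancel_right] at this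

theorem card_stabW_dvd : 2 ^ 7 ∣ Nat.card ↥stabW := by
  have hle : fixW.subgroupOf stabW ≤ hexHom.ker := fun g hg => by
    rw [MonoidHom.mem_ker]
    exact movesP_unique (hexHom_spec g) fun i v hv => by
      obtain ⟨a, -, rfl⟩ := inP_line hv
      rwa [(Subgroup.mem_subgroupOf.1 hg).2 _ (inW_smul a (pts_class i).1)]
  have h1 := Subgroup.card_dvd_of_le hle
  rw [Nat.card_congr (Subgroup.subgroupOfEquivOfLe fixW_le_stabW).toEquiv, card_fixW] at h1
  rw [Subgroup.card_eq_card_quotient_mul_card_subgroup hexHom.ker,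
    Nat.card_congr (QuotientGroup.quotientKerEquivRange hexHom).toEquiv, hexHom_range]
  have h2 : Nat.card ↥(alternatingGroup (Fin 6)) = 360 := by
    rw [nat_card_alternatingGroup, Nat.card_fin]; rfl
  rw [h2]
  obtain ⟨c, hc⟩ := h1
  exact ⟨45 * c, by rw [hc]; ring⟩

theorem fixW_normal {t : G} (ht : t ∈ stabW) {u : G} (hu : u ∈ fixW) : t * u * t⁻¹ ∈ fixW := by
  refine ⟨mul_mem (mul_mem ht.1 hu.1) (inv_mem ht.1), fun v hv => ?_⟩
  rw [mat_mul, mat_mul, ← Matrix.mulVec_mulVec, ← Matrix.mulVec_mulVec,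
    hu.2 _ (((inv_mem ht : t⁻¹ ∈ stabW).2 v).2 hv), Matrix.mulVec_mulVec, ← mat_mul, mul_inv_cancel, mat_one,
    Matrix.one_mulVec]

theorem conj_plane : ∀ k : Fin 3, ∀ n, selLit k * uaLit n = uaLit (idx16 (planeConj.getD k.1 []) n) * selLit k := by
  decide +kernel

theorem selElt_conj (k : Fin 3) (n : Fin 16) :
    selElt k * uaElt n = uaElt (idx16 (planeConj.getD k.1 []) n) * selElt k :=
  mat_injective (by rw [mat_mul, mat_mul, mat_selElt, mat_uaElt, mat_uaElt, conj_plane])

theorem conj_moves : idx16 (planeConj.getD 0 []) 1 ≠ 1 := by decide +kernel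

/-- The sixteen are their own centraliser up to scalars. -/
theorem hexHom_of_comm {g : ↥stabW} (hg : ∀ n, g.1 * uaElt n = uaElt n * g.1) : hexHom g = 1 := by
  haveI : IsSimpleGroup ↥(alternatingGroup (Fin 6)) := alternatingGroup.isSimpleGroup (by simp)
  let f : ↥stabW →* ↥(alternatingGroup (Fin 6)) :=
    hexHom.codRestrict _ fun x => hexHom_range ▸ ⟨x, rfl⟩
  have hf : Function.Surjective f := fun y => by
    obtain ⟨x, hx⟩ := hexHom_range.ge y.2
    exact ⟨x, Subtype.ext hx⟩
  let K : Subgroup ↥stabW := (Subgroup.centralizer (Set.range uaElt)).subgroupOf stabW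
  have hK : ∀ x : ↥stabW, x ∈ K ↔ ∀ n, x.1 * uaElt n = uaElt n * x.1 := fun x => by
    rw [Subgroup.mem_subgroupOf, Subgroup.mem_centralizer_iff]
    exact ⟨fun h n => (h _ ⟨n, rfl⟩).symm, fun h => by rintro _ ⟨n, rfl⟩; exact (h n).symm⟩
  have hn : K.Normal := ⟨fun a ha t => (hK _).2 fun n => by
    obtain ⟨m, hm⟩ := fixW_eq (fixW_normal (inv_mem t.2) (uaElt_mem n))
    rw [inv_inv] at hm
    have e : uaElt n = t.1 * uaElt m * t.1⁻¹ := by rw [← hm]; group
    show t.1 * a.1 * t.1⁻¹ * uaElt n = uaElt n * (t.1 * a.1 * t.1⁻¹)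
    rw [e, show t.1 * a.1 * t.1⁻¹ * (t.1 * uaElt m * t.1⁻¹) = t.1 * (a.1 * uaElt m) * t.1⁻¹ by group,
      (hK a).1 ha m]
    group⟩
  rcases (hn.map f hf).eq_bot_or_eq_top with e | e
  · exact congrArg Subtype.val ((Subgroup.mem_bot).1 (e ▸ ⟨g, (hK g).2 hg, rfl⟩) : f g = 1)
  · exfalso
    obtain ⟨x, hx, ex⟩ : f ⟨selElt 0, selElt_mem 0⟩ ∈ K.map f := e ▸ Subgroup.mem_top _
    have h1 : hexHom (x⁻¹ * ⟨selElt 0, selElt_mem 0⟩) = 1 := by
      rw [map_mul, map_inv, show hexHom x = hexHom ⟨selElt 0, selElt_mem 0⟩ from congrArg Subtype.val ex,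
        inv_mul_cancel]
    obtain ⟨a, ha, m, hm⟩ := hexHom_eq_one h1
    change x.1⁻¹ * selElt 0 = scal a ha * uaElt m at hm
    have h2 : selElt 0 * uaElt 1 = uaElt 1 * selElt 0 := by
      rw [show selElt 0 = x.1 * (scal a ha * uaElt m) by rw [← hm, mul_inv_cancel_left]]
      simp only [mul_assoc, uaElt_comm m 1]
      rw [← mul_assoc (scal a ha), scal_comm, mul_assoc, ← mul_assoc x.1, (hK x).1 hx 1, mul_assoc]
    rw [selElt_conj 0 1] at h2
    exact conj_moves (uaElt_injective (mul_right_cancel h2))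

/-- The value of a word on the sixteen. -/
def cVal : List (Fin 3) → Fin 16 → Fin 16
  | [], n => n
  | k :: t, n => idx16 (planeConj.getD k.1 []) (cVal t n)

theorem plane_reach : ∀ n : Fin 16, n ≠ 0 → ∃ w ∈ planeReach, cVal w 1 = n := by decide +kernel

/-- Transitivity on the non-identity elements. -/
theorem ua_induction {p : Fin 16 → Prop} (h1 : p 1) (hk : ∀ k : Fin 3, ∀ n, p n → p (idx16 (planeConj.getD k.1 []) n))
    {n : Fin 16} (hn : n ≠ 0) : p n := by
  obtain ⟨w, -, rfl⟩ := plane_reach n hn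
  clear hn
  induction w with
  | nil => exact h1
  | cons k t ih => exact hk k _ ih

end CfsgLib.ThreeTrans.LargeFischer
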