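import Mathlib

/-!
The fixed plane of the Thompson subgroup: the data (owner: helper28).
-/

set_option maxRecDepth 100000

namespace CfsgLib.ThreeTrans.LargeFischer

/-- the sixteen elements -/
def planeRows : List (List (List ℕ)) := [[[1, 0, 0, 0, 0, 0], [0, 1, 0, 0, 0, 0], [0, 0, 1, 0, 0, 0], [0, 0, 0, 1, 0, 0], [0, 0, 0, 0, 1, 0], [0, 0, 0, 0, 0, 1]], [[1, 0, 1, 1, 1, 1], [0, 1, 1, 1, 1, 1], [1, 1, 1, 0, 1, 1], [1, 1, 0, 1, 1, 1], [1, 1, 1, 1, 1, 0], [1, 1, 1, 1, 0, 1]], [[1, 0, 2, 2, 2, 2], [0, 1, 3, 3, 3, 3], [3, 2, 1, 1, 1, 0], [3, 2, 1, 1, 0, 1], [3, 2, 1, 0, 1, 1], [3, 2, 0, 1, 1, 1]], [[1, 0, 3, 3, 3, 3], [0, 1, 2, 2, 2, 2], [2, 3, 1, 1, 0, 1], [2, 3, 1, 1, 1, 0], [2, 3, 0, 1, 1, 1], [2, 3, 1, 0, 1, 1]], [[1, 1, 0, 1,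 2, 3], [1, 1, 1, 0, 2, 3], [0, 1, 1, 1, 2, 3], [1, 0, 1, 1, 2, 3], [3, 3, 3, 3, 1, 0], [2, 2, 2, 2, 0, 1]], [[1, 1, 1, 0, 3, 2], [1, 1, 0, 1, 3, 2], [1, 0, 1, 1, 3, 2], [0, 1, 1, 1, 3, 2], [2, 2, 2, 2, 1, 0], [3, 3, 3, 3, 0, 1]], [[1, 1, 2, 3, 0, 1], [1, 1, 2, 3, 1, 0], [3, 3, 1, 0, 3, 3], [2, 2, 0, 1, 2, 2], [0, 1, 2, 3, 1, 1], [1, 0, 2, 3, 1, 1]], [[1, 1, 3, 2, 1, 0], [1, 1, 3, 2, 0, 1], [2, 2, 1, 0, 2, 2], [3, 3, 0, 1, 3, 3], [1, 0, 3, 2, 1, 1], [0, 1, 3, 2, 1, 1]], [[1, 2, 0, 2, 3, 1], [3, 1, 2, 1, 0, 3], [0, 3, 1, 3, 1, 2], [3, 1, 2, 1, 2, 0], [2, 0, 1, 3, 1, 2], [1, 2, 3, 0, 3, 1]], [[1, 2, 1, 3, 2, 0], [3, 1, 3, 0, 1, 2], [1, 2, 1, 3, 0, 3], [2, 0, 2, 1, 3, 1], [3, 1, 0, 2, 1, 2], [0, 3, 2, 1, 3, 1]], [[1, 2, 2, 0, 1, 3],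 [3, 1, 1, 2, 3, 0], [3, 1, 1, 2, 0, 2], [0, 3, 3, 1, 2, 1], [1, 2, 0, 3, 1, 3], [2, 0, 3, 1, 2, 1]], [[1, 2, 3, 1, 0, 2], [3, 1, 0, 3, 2, 1], [2, 0, 1, 2, 1, 3], [1, 2, 3, 1, 3, 0], [0, 3, 1, 2, 1, 3], [3, 1, 2, 0, 2, 1]], [[1, 3, 0, 3, 1, 2], [2, 1, 3, 1, 2, 0], [0, 2, 1, 2, 3, 1], [2, 1, 3, 1, 0, 3], [1, 3, 2, 0, 1, 2], [3, 0, 1, 2, 3, 1]], [[1, 3, 1, 2, 0, 3], [2, 1, 2, 0, 3, 1], [1, 3, 1, 2, 2, 0], [3, 0, 3, 1, 1, 2], [0, 2, 3, 1, 1, 2], [2, 1, 0, 3, 3, 1]], [[1, 3, 2, 1, 3, 0], [2, 1, 0, 2, 1, 3], [3, 0, 1, 3, 2, 1], [1, 3, 2, 1, 0, 2], [2, 1, 3, 0, 1, 3], [0, 2, 1, 3, 2, 1]], [[1, 3, 3, 0, 2, 1], [2, 1, 1, 3, 0, 2], [2, 1, 1, 3, 3, 0], [0, 2, 2, 1, 1, 3], [3, 0, 2, 1, 1, 3], [1, 3, 0, 2, 2, 1]]]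

/-- a basis as products -/
def planeSteps : List (List (Fin 3 × List (List ℕ))) := [[(2, [[3, 2, 0, 0, 0, 1], [0, 0, 3, 2, 1, 0], [0, 0, 2, 3, 1, 0], [2, 3, 0, 0, 0, 1], [1, 1, 0, 0, 0, 1], [0, 0, 1, 1, 1, 0]]), (2, [[2, 1, 0, 2, 3, 3], [2, 0, 1, 2, 3, 3], [0, 3, 3, 1, 2, 2], [1, 3, 3, 0, 2, 2], [3, 2, 2, 3, 0, 1], [3, 2, 2, 3, 1, 0]]), (0, [[1, 0, 2, 2, 3, 3], [0, 1, 2, 2, 3, 3], [3, 3, 0, 1, 2, 2], [3, 3, 1, 0, 2, 2], [2, 2, 3, 3, 0, 1], [2, 2, 3, 3, 1, 0]]), (0, [[0, 2, 1, 2, 3, 3], [1, 2, 0, 2, 3, 3], [3, 0, 3, 1, 2, 2], [3, 1, 3, 0, 2, 2], [2, 3, 2, 3, 0, 1], [2, 3, 2, 3, 1, 0]]), (2, [[0, 2, 0, 3, 0, 1], [3, 0, 2, 0, 1, 0], [2, 0, 3, 0, 1, 0], [0, 3, 0, 2, 0, 1], [0, 1, 0, 1, 0, 1], [1, 0, 1, 0, 1, 0]]), (0, [[2, 0, 0, 3,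 0, 1], [0, 2, 3, 0, 1, 0], [0, 3, 2, 0, 1, 0], [3, 0, 0, 2, 0, 1], [1, 0, 0, 1, 0, 1], [0, 1, 1, 0, 1, 0]]), (2, [[0, 1, 1, 1, 1, 1], [1, 1, 0, 1, 1, 1], [1, 1, 1, 0, 1, 1], [1, 0, 1, 1, 1, 1], [1, 1, 1, 1, 1, 0], [1, 1, 1, 1, 0, 1]]), (0, [[1, 1, 0, 1, 1, 1], [1, 0, 1, 1, 1, 1], [1, 1, 1, 0, 1, 1], [0, 1, 1, 1, 1, 1], [1, 1, 1, 1, 1, 0], [1, 1, 1, 1, 0, 1]]), (0, [[1, 0, 1, 1, 1, 1], [0, 1, 1, 1, 1, 1], [1, 1, 1, 0, 1, 1], [1, 1, 0, 1, 1, 1], [1, 1, 1, 1, 1, 0], [1, 1, 1, 1, 0, 1]])], [(1, [[0, 1, 0, 0, 1, 1], [0, 1, 0, 0, 3, 2], [0, 1, 0, 0, 2, 3], [1, 0, 1, 1, 0, 0], [3, 0, 2, 1, 0, 0], [2, 0, 3, 1, 0, 0]]), (2, [[1, 1, 2, 3, 0, 1], [3, 3, 1, 0, 3, 3], [2, 2, 0, 1, 2, 2], [1, 1, 2, 3, 1, 0], [0, 2, 3, 1, 2, 2], [3, 0, 1, 2, 3,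 3]]), (1, [[1, 2, 0, 2, 1, 2], [3, 1, 3, 0, 3, 1], [3, 0, 3, 1, 3, 1], [0, 2, 1, 2, 1, 2], [3, 1, 3, 1, 0, 1], [1, 2, 1, 2, 1, 0]]), (1, [[2, 3, 1, 1, 0, 2], [0, 1, 2, 2, 1, 3], [1, 0, 3, 3, 2, 1], [2, 3, 1, 1, 3, 0], [3, 1, 2, 0, 1, 3], [1, 2, 0, 3, 2, 1]]), (0, [[3, 1, 2, 1, 0, 2], [1, 2, 0, 2, 1, 3], [0, 3, 1, 3, 2, 1], [3, 1, 2, 1, 3, 0], [1, 2, 3, 0, 1, 3], [2, 0, 1, 3, 2, 1]]), (2, [[0, 2, 2, 1, 1, 2], [1, 2, 2, 0, 1, 2], [3, 0, 1, 3, 3, 1], [3, 1, 0, 3, 3, 1], [2, 3, 3, 2, 2, 0], [2, 3, 3, 2, 0, 3]]), (1, [[1, 0, 2, 2, 2, 2], [0, 1, 3, 3, 3, 3], [3, 2, 1, 1, 1, 0], [3, 2, 1, 1, 0, 1], [3, 2, 1, 0, 1, 1], [3, 2, 0, 1, 1, 1]])], [(2, [[3, 2, 0, 0, 0, 1], [0, 0, 3, 2, 1, 0], [0, 0, 2, 3, 1, 0], [2, 3, 0, 0, 0, 1], [1, 1, 0,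 0, 0, 1], [0, 0, 1, 1, 1, 0]]), (2, [[2, 1, 0, 2, 3, 3], [2, 0, 1, 2, 3, 3], [0, 3, 3, 1, 2, 2], [1, 3, 3, 0, 2, 2], [3, 2, 2, 3, 0, 1], [3, 2, 2, 3, 1, 0]]), (2, [[1, 1, 0, 1, 2, 3], [1, 1, 1, 0, 2, 3], [0, 1, 1, 1, 2, 3], [1, 0, 1, 1, 2, 3], [3, 3, 3, 3, 1, 0], [2, 2, 2, 2, 0, 1]])], [(2, [[3, 2, 0, 0, 0, 1], [0, 0, 3, 2, 1, 0], [0, 0, 2, 3, 1, 0], [2, 3, 0, 0, 0, 1], [1, 1, 0, 0, 0, 1], [0, 0, 1, 1, 1, 0]]), (1, [[2, 1, 3, 1, 2, 0], [1, 3, 0, 3, 1, 2], [0, 2, 1, 2, 3, 1], [2, 1, 3, 1, 0, 3], [2, 0, 3, 1, 2, 3], [2, 1, 3, 0, 2, 3]]), (1, [[0, 0, 2, 3, 0, 2], [3, 2, 0, 0, 3, 0], [2, 3, 0, 0, 3, 0], [0, 0, 3, 2, 0, 2], [1, 1, 0, 0, 3, 0], [0, 0, 1, 1, 0, 2]]), (2, [[1, 2, 1, 3, 0, 3], [1, 2, 1, 3, 2, 0], [2, 0, 2, 1, 3, 1], [3,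 1, 3, 0, 1, 2], [0, 1, 3, 2, 1, 2], [2, 3, 0, 1, 3, 1]]), (0, [[2, 1, 1, 3, 0, 3], [2, 1, 1, 3, 2, 0], [0, 2, 2, 1, 3, 1], [1, 3, 3, 0, 1, 2], [1, 3, 0, 2, 1, 2], [3, 0, 2, 1, 3, 1]]), (2, [[0, 1, 2, 2, 3, 1], [2, 3, 1, 1, 0, 3], [1, 0, 3, 3, 1, 2], [2, 3, 1, 1, 2, 0], [1, 2, 0, 3, 1, 2], [3, 1, 2, 0, 3, 1]]), (0, [[1, 2, 0, 2, 3, 1], [3, 1, 2, 1, 0, 3], [0, 3, 1, 3, 1, 2], [3, 1, 2, 1, 2, 0], [2, 0, 1, 3, 1, 2], [1, 2, 3, 0, 3, 1]])]]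

/-- the projection onto the plane -/
def planeProjRows : List (List ℕ) := [[1, 0, 0, 0, 0, 0], [0, 1, 0, 0, 0, 0], [0, 0, 1, 0, 0, 0], [1, 1, 1, 0, 0, 0], [2, 3, 1, 0, 0, 0], [3, 2, 1, 0, 0, 0]]

/-- the projection along the plane -/
def planePmRows : List (List ℕ) := [[0, 0, 0, 0, 0, 0], [0, 0, 0, 0, 0, 0], [0, 0, 0, 0, 0, 0], [1, 1, 1, 1, 0, 0], [2, 3, 1, 0, 1, 0], [3, 2, 1, 0, 0, 1]]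

/-- the basis -/
def planeBasisRows : List (List ℕ) := [[1, 0, 0, 1, 2, 3], [0, 1, 0, 1, 3, 2], [0, 0, 1, 1, 1, 1]]

/-- the conjugated basis -/
def planeHermRows : List (List ℕ) := [[1, 0, 0, 1, 3, 2], [0, 1, 0, 1, 2, 3], [0, 0, 1, 1, 1, 1], [0, 0, 0, 0, 0, 0], [0, 0, 0, 0, 0, 0], [0, 0, 0, 0, 0, 0]]

/-- the certificate of orthogonality -/
def planeHermCert : List (List ℕ) := [[0, 0, 0, 0, 0, 0], [0, 0, 0, 0, 0, 0], [0, 0, 0, 0, 0, 0], [1, 1, 1, 0, 0, 0], [2, 3, 1, 0, 0, 0], [3, 2, 1, 0, 0, 0]]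

/-- certificates -/
def planeCerts0 : List (ℕ × ℕ × List (List ℕ) × List (List ℕ)) := [(1, 2, [[0, 0, 0, 0, 0, 0], [0, 0, 0, 0, 0, 0], [0, 0, 0, 0, 0, 0], [1, 0, 1, 0, 0, 0], [1, 0, 1, 0, 0, 0], [1, 0, 0, 0, 0, 0]], [[0, 0, 0, 0, 0, 0], [0, 0, 0, 0, 0, 0], [0, 0, 0, 0, 0, 0], [0, 0, 0, 0, 0, 0], [0, 0, 1, 0, 0, 0], [0, 0, 1, 0, 0, 0]]), (1, 3, [[0, 0, 0, 0, 0, 0], [0, 0, 0, 0, 0, 0], [0, 0, 0, 0, 0, 0], [1, 0, 1, 0, 0, 0], [1, 0, 0, 0, 0, 0], [1, 0, 1, 0, 0, 0]], [[0, 0, 0, 0, 0, 0], [0, 0, 0, 0, 0, 0], [0, 0, 0, 0, 0, 0], [0, 0, 0, 0, 0, 0], [0, 0, 1, 0, 0, 0], [0, 0, 1, 0, 0, 0]]), (1, 4, [[0, 0, 0, 0, 0, 0], [0, 0, 0, 0, 0, 0], [0, 0, 0, 0, 0, 0], [1, 0, 1, 0, 0, 0], [1, 0, 2, 0, 0, 0], [1, 0, 3, 0, 0, 0]], [[0, 0, 0, 0, 0,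 0], [0, 0, 0, 0, 0, 0], [0, 0, 0, 0, 0, 0], [0, 0, 0, 0, 0, 0], [1, 0, 0, 0, 0, 0], [1, 0, 0, 0, 0, 0]]), (1, 5, [[0, 0, 0, 0, 0, 0], [0, 0, 0, 0, 0, 0], [0, 0, 0, 0, 0, 0], [1, 0, 1, 0, 0, 0], [0, 0, 2, 0, 0, 0], [0, 0, 3, 0, 0, 0]], [[0, 0, 0, 0, 0, 0], [0, 0, 0, 0, 0, 0], [0, 0, 0, 0, 0, 0], [0, 0, 0, 0, 0, 0], [1, 0, 0, 0, 0, 0], [1, 0, 0, 0, 0, 0]]), (1, 6, [[0, 0, 0, 0, 0, 0], [0, 0, 0, 0, 0, 0], [0, 0, 0, 0, 0, 0], [1, 0, 1, 0, 0, 0], [3, 0, 2, 0, 0, 0], [3, 0, 3, 0, 0, 0]], [[0, 0, 0, 0, 0, 0], [0, 0, 0, 0, 0, 0], [0, 0, 0, 0, 0, 0], [0, 0, 0, 0, 0, 0], [1, 0, 0, 0, 0, 0], [1, 0, 0, 0, 0, 0]]), (1, 7, [[0, 0, 0, 0, 0, 0], [0, 0, 0, 0, 0, 0], [0, 0, 0, 0, 0, 0], [1, 0, 1, 0, 0, 0], [2, 0, 2, 0, 0, 0], [2, 0, 3, 0, 0, 0]],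 [[0, 0, 0, 0, 0, 0], [0, 0, 0, 0, 0, 0], [0, 0, 0, 0, 0, 0], [0, 0, 0, 0, 0, 0], [1, 0, 0, 0, 0, 0], [1, 0, 0, 0, 0, 0]]), (1, 8, [[0, 0, 0, 0, 0, 0], [0, 0, 0, 0, 0, 0], [0, 0, 0, 0, 0, 0], [1, 0, 1, 0, 0, 0], [1, 0, 2, 0, 0, 0], [1, 0, 3, 0, 0, 0]], [[0, 0, 0, 0, 0, 0], [0, 0, 0, 0, 0, 0], [0, 0, 0, 0, 0, 0], [0, 0, 0, 0, 0, 0], [3, 0, 0, 0, 0, 0], [3, 0, 0, 0, 0, 0]]), (1, 9, [[0, 0, 0, 0, 0, 0], [0, 0, 0, 0, 0, 0], [0, 0, 0, 0, 0, 0], [1, 0, 1, 0, 0, 0], [2, 0, 2, 0, 0, 0], [2, 0, 3, 0, 0, 0]], [[0, 0, 0, 0, 0, 0], [0, 0, 0, 0, 0, 0], [0, 0, 0, 0, 0, 0], [0, 0, 0, 0, 0, 0], [3, 0, 0, 0, 0, 0], [3, 0, 0, 0, 0, 0]]), (1, 10, [[0, 0, 0, 0, 0, 0], [0, 0, 0, 0, 0, 0], [0, 0, 0, 0, 0, 0], [1, 0, 1, 0, 0, 0], [0, 0, 2, 0, 0, 0], [0,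 0, 3, 0, 0, 0]], [[0, 0, 0, 0, 0, 0], [0, 0, 0, 0, 0, 0], [0, 0, 0, 0, 0, 0], [0, 0, 0, 0, 0, 0], [3, 0, 0, 0, 0, 0], [3, 0, 0, 0, 0, 0]]), (1, 11, [[0, 0, 0, 0, 0, 0], [0, 0, 0, 0, 0, 0], [0, 0, 0, 0, 0, 0], [1, 0, 1, 0, 0, 0], [3, 0, 2, 0, 0, 0], [3, 0, 3, 0, 0, 0]], [[0, 0, 0, 0, 0, 0], [0, 0, 0, 0, 0, 0], [0, 0, 0, 0, 0, 0], [0, 0, 0, 0, 0, 0], [3, 0, 0, 0, 0, 0], [3, 0, 0, 0, 0, 0]]), (1, 12, [[0, 0, 0, 0, 0, 0], [0, 0, 0, 0, 0, 0], [0, 0, 0, 0, 0, 0], [1, 0, 1, 0, 0, 0], [1, 0, 2, 0, 0, 0], [1, 0, 3, 0, 0, 0]], [[0, 0, 0, 0, 0, 0], [0, 0, 0, 0, 0, 0], [0, 0, 0, 0, 0, 0], [0, 0, 0, 0, 0, 0], [2, 0, 0, 0, 0, 0], [2, 0, 0, 0, 0, 0]]), (1, 13, [[0, 0, 0, 0, 0, 0], [0, 0, 0, 0, 0, 0], [0, 0, 0, 0, 0, 0], [1, 0, 1, 0, 0, 0], [3,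 0, 2, 0, 0, 0], [3, 0, 3, 0, 0, 0]], [[0, 0, 0, 0, 0, 0], [0, 0, 0, 0, 0, 0], [0, 0, 0, 0, 0, 0], [0, 0, 0, 0, 0, 0], [2, 0, 0, 0, 0, 0], [2, 0, 0, 0, 0, 0]]), (1, 14, [[0, 0, 0, 0, 0, 0], [0, 0, 0, 0, 0, 0], [0, 0, 0, 0, 0, 0], [1, 0, 1, 0, 0, 0], [2, 0, 2, 0, 0, 0], [2, 0, 3, 0, 0, 0]], [[0, 0, 0, 0, 0, 0], [0, 0, 0, 0, 0, 0], [0, 0, 0, 0, 0, 0], [0, 0, 0, 0, 0, 0], [2, 0, 0, 0, 0, 0], [2, 0, 0, 0, 0, 0]]), (1, 15, [[0, 0, 0, 0, 0, 0], [0, 0, 0, 0, 0, 0], [0, 0, 0, 0, 0, 0], [1, 0, 1, 0, 0, 0], [0, 0, 2, 0, 0, 0], [0, 0, 3, 0, 0, 0]], [[0, 0, 0, 0, 0, 0], [0, 0, 0, 0, 0, 0], [0, 0, 0, 0, 0, 0], [0, 0, 0, 0, 0, 0], [2, 0, 0, 0, 0, 0], [2, 0, 0, 0, 0, 0]]), (2, 3, [[0, 0, 0, 0, 0, 0], [0, 0, 0, 0, 0, 0], [0, 0, 0, 0, 0, 0], [3,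 0, 1, 0, 0, 0], [3, 0, 0, 0, 0, 0], [3, 0, 1, 0, 0, 0]], [[0, 0, 0, 0, 0, 0], [0, 0, 0, 0, 0, 0], [0, 0, 0, 0, 0, 0], [0, 0, 1, 0, 0, 0], [0, 0, 1, 0, 0, 0], [0, 0, 0, 0, 0, 0]])]

/-- certificates -/
def planeCerts1 : List (ℕ × ℕ × List (List ℕ) × List (List ℕ)) := [(2, 4, [[0, 0, 0, 0, 0, 0], [0, 0, 0, 0, 0, 0], [0, 0, 0, 0, 0, 0], [3, 0, 2, 0, 0, 0], [3, 0, 3, 0, 0, 0], [3, 0, 1, 0, 0, 0]], [[0, 0, 0, 0, 0, 0], [0, 0, 0, 0, 0, 0], [0, 0, 0, 0, 0, 0], [2, 0, 0, 0, 0, 0], [2, 0, 0, 0, 0, 0], [0, 0, 0, 0, 0, 0]]), (2, 5, [[0, 0, 0, 0, 0, 0], [0, 0, 0, 0, 0, 0], [0, 0, 0, 0, 0, 0], [2, 0, 2, 0, 0, 0], [2, 0, 3, 0, 0, 0], [3, 0, 1, 0, 0, 0]], [[0, 0, 0, 0, 0, 0], [0, 0, 0, 0, 0, 0], [0, 0, 0, 0, 0, 0], [2, 0, 0, 0, 0, 0], [2, 0, 0,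 0, 0, 0], [0, 0, 0, 0, 0, 0]]), (2, 6, [[0, 0, 0, 0, 0, 0], [0, 0, 0, 0, 0, 0], [0, 0, 0, 0, 0, 0], [1, 0, 2, 0, 0, 0], [1, 0, 3, 0, 0, 0], [3, 0, 1, 0, 0, 0]], [[0, 0, 0, 0, 0, 0], [0, 0, 0, 0, 0, 0], [0, 0, 0, 0, 0, 0], [2, 0, 0, 0, 0, 0], [2, 0, 0, 0, 0, 0], [0, 0, 0, 0, 0, 0]]), (2, 7, [[0, 0, 0, 0, 0, 0], [0, 0, 0, 0, 0, 0], [0, 0, 0, 0, 0, 0], [0, 0, 2, 0, 0, 0], [0, 0, 3, 0, 0, 0], [3, 0, 1, 0, 0, 0]], [[0, 0, 0, 0, 0, 0], [0, 0, 0, 0, 0, 0], [0, 0, 0, 0, 0, 0], [2, 0, 0, 0, 0, 0], [2, 0, 0, 0, 0, 0], [0, 0, 0, 0, 0, 0]]), (2, 8, [[0, 0, 0, 0, 0, 0], [0, 0, 0, 0, 0, 0], [0, 0, 0, 0, 0, 0], [3, 0, 2, 0, 0, 0], [3, 0, 3, 0, 0, 0], [3, 0, 1, 0, 0, 0]], [[0, 0, 0, 0, 0, 0], [0, 0, 0, 0, 0, 0], [0, 0, 0, 0, 0, 0], [1, 0, 0, 0,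 0, 0], [1, 0, 0, 0, 0, 0], [0, 0, 0, 0, 0, 0]]), (2, 9, [[0, 0, 0, 0, 0, 0], [0, 0, 0, 0, 0, 0], [0, 0, 0, 0, 0, 0], [0, 0, 2, 0, 0, 0], [0, 0, 3, 0, 0, 0], [3, 0, 1, 0, 0, 0]], [[0, 0, 0, 0, 0, 0], [0, 0, 0, 0, 0, 0], [0, 0, 0, 0, 0, 0], [1, 0, 0, 0, 0, 0], [1, 0, 0, 0, 0, 0], [0, 0, 0, 0, 0, 0]]), (2, 10, [[0, 0, 0, 0, 0, 0], [0, 0, 0, 0, 0, 0], [0, 0, 0, 0, 0, 0], [2, 0, 2, 0, 0, 0], [2, 0, 3, 0, 0, 0], [3, 0, 1, 0, 0, 0]], [[0, 0, 0, 0, 0, 0], [0, 0, 0, 0, 0, 0], [0, 0, 0, 0, 0, 0], [1, 0, 0, 0, 0, 0], [1, 0, 0, 0, 0, 0], [0, 0, 0, 0, 0, 0]]), (2, 11, [[0, 0, 0, 0, 0, 0], [0, 0, 0, 0, 0, 0], [0, 0, 0, 0, 0, 0], [1, 0, 2, 0, 0, 0], [1, 0, 3, 0, 0, 0], [3, 0, 1, 0, 0, 0]], [[0, 0, 0, 0, 0, 0], [0, 0, 0, 0, 0, 0], [0, 0, 0, 0,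 0, 0], [1, 0, 0, 0, 0, 0], [1, 0, 0, 0, 0, 0], [0, 0, 0, 0, 0, 0]]), (2, 12, [[0, 0, 0, 0, 0, 0], [0, 0, 0, 0, 0, 0], [0, 0, 0, 0, 0, 0], [3, 0, 2, 0, 0, 0], [3, 0, 3, 0, 0, 0], [3, 0, 1, 0, 0, 0]], [[0, 0, 0, 0, 0, 0], [0, 0, 0, 0, 0, 0], [0, 0, 0, 0, 0, 0], [3, 0, 0, 0, 0, 0], [3, 0, 0, 0, 0, 0], [0, 0, 0, 0, 0, 0]]), (2, 13, [[0, 0, 0, 0, 0, 0], [0, 0, 0, 0, 0, 0], [0, 0, 0, 0, 0, 0], [1, 0, 2, 0, 0, 0], [1, 0, 3, 0, 0, 0], [3, 0, 1, 0, 0, 0]], [[0, 0, 0, 0, 0, 0], [0, 0, 0, 0, 0, 0], [0, 0, 0, 0, 0, 0], [3, 0, 0, 0, 0, 0], [3, 0, 0, 0, 0, 0], [0, 0, 0, 0, 0, 0]]), (2, 14, [[0, 0, 0, 0, 0, 0], [0, 0, 0, 0, 0, 0], [0, 0, 0, 0, 0, 0], [0, 0, 2, 0, 0, 0], [0, 0, 3, 0, 0, 0], [3, 0, 1, 0, 0, 0]], [[0, 0, 0, 0, 0, 0], [0, 0, 0, 0,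 0, 0], [0, 0, 0, 0, 0, 0], [3, 0, 0, 0, 0, 0], [3, 0, 0, 0, 0, 0], [0, 0, 0, 0, 0, 0]]), (2, 15, [[0, 0, 0, 0, 0, 0], [0, 0, 0, 0, 0, 0], [0, 0, 0, 0, 0, 0], [2, 0, 2, 0, 0, 0], [2, 0, 3, 0, 0, 0], [3, 0, 1, 0, 0, 0]], [[0, 0, 0, 0, 0, 0], [0, 0, 0, 0, 0, 0], [0, 0, 0, 0, 0, 0], [3, 0, 0, 0, 0, 0], [3, 0, 0, 0, 0, 0], [0, 0, 0, 0, 0, 0]]), (3, 4, [[0, 0, 0, 0, 0, 0], [0, 0, 0, 0, 0, 0], [0, 0, 0, 0, 0, 0], [2, 0, 3, 0, 0, 0], [2, 0, 1, 0, 0, 0], [2, 0, 2, 0, 0, 0]], [[0, 0, 0, 0, 0, 0], [0, 0, 0, 0, 0, 0], [0, 0, 0, 0, 0, 0], [3, 0, 0, 0, 0, 0], [0, 0, 0, 0, 0, 0], [3, 0, 0, 0, 0, 0]]), (3, 5, [[0, 0, 0, 0, 0, 0], [0, 0, 0, 0, 0, 0], [0, 0, 0, 0, 0, 0], [3, 0, 3, 0, 0, 0], [2, 0, 1, 0, 0, 0], [3, 0, 2, 0, 0, 0]], [[0, 0, 0, 0, 0,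 0], [0, 0, 0, 0, 0, 0], [0, 0, 0, 0, 0, 0], [3, 0, 0, 0, 0, 0], [0, 0, 0, 0, 0, 0], [3, 0, 0, 0, 0, 0]]), (3, 6, [[0, 0, 0, 0, 0, 0], [0, 0, 0, 0, 0, 0], [0, 0, 0, 0, 0, 0], [0, 0, 3, 0, 0, 0], [2, 0, 1, 0, 0, 0], [0, 0, 2, 0, 0, 0]], [[0, 0, 0, 0, 0, 0], [0, 0, 0, 0, 0, 0], [0, 0, 0, 0, 0, 0], [3, 0, 0, 0, 0, 0], [0, 0, 0, 0, 0, 0], [3, 0, 0, 0, 0, 0]])]

/-- certificates -/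
def planeCerts2 : List (ℕ × ℕ × List (List ℕ) × List (List ℕ)) := [(3, 7, [[0, 0, 0, 0, 0, 0], [0, 0, 0, 0, 0, 0], [0, 0, 0, 0, 0, 0], [1, 0, 3, 0, 0, 0], [2, 0, 1, 0, 0, 0], [1, 0, 2, 0, 0, 0]], [[0, 0, 0, 0, 0, 0], [0, 0, 0, 0, 0, 0], [0, 0, 0, 0, 0, 0], [3, 0, 0, 0, 0, 0], [0, 0, 0, 0, 0, 0], [3, 0, 0, 0, 0, 0]]), (3, 8, [[0, 0, 0, 0, 0, 0], [0, 0, 0, 0, 0, 0], [0, 0, 0, 0, 0, 0], [2, 0, 3, 0, 0, 0], [2, 0, 1, 0, 0, 0], [2, 0, 2, 0, 0, 0]], [[0, 0, 0, 0, 0, 0], [0, 0, 0, 0, 0, 0], [0, 0, 0, 0, 0, 0], [2, 0, 0, 0, 0, 0], [0, 0, 0, 0, 0, 0], [2, 0, 0, 0, 0, 0]]), (3, 9, [[0, 0, 0, 0, 0, 0], [0, 0, 0, 0, 0, 0], [0, 0, 0, 0, 0, 0], [1, 0, 3, 0, 0, 0], [2, 0, 1, 0, 0, 0], [1, 0, 2, 0, 0, 0]], [[0, 0, 0, 0, 0, 0], [0, 0, 0, 0, 0, 0],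 [0, 0, 0, 0, 0, 0], [2, 0, 0, 0, 0, 0], [0, 0, 0, 0, 0, 0], [2, 0, 0, 0, 0, 0]]), (3, 10, [[0, 0, 0, 0, 0, 0], [0, 0, 0, 0, 0, 0], [0, 0, 0, 0, 0, 0], [3, 0, 3, 0, 0, 0], [2, 0, 1, 0, 0, 0], [3, 0, 2, 0, 0, 0]], [[0, 0, 0, 0, 0, 0], [0, 0, 0, 0, 0, 0], [0, 0, 0, 0, 0, 0], [2, 0, 0, 0, 0, 0], [0, 0, 0, 0, 0, 0], [2, 0, 0, 0, 0, 0]]), (3, 11, [[0, 0, 0, 0, 0, 0], [0, 0, 0, 0, 0, 0], [0, 0, 0, 0, 0, 0], [0, 0, 3, 0, 0, 0], [2, 0, 1, 0, 0, 0], [0, 0, 2, 0, 0, 0]], [[0, 0, 0, 0, 0, 0], [0, 0, 0, 0, 0, 0], [0, 0, 0, 0, 0, 0], [2, 0, 0, 0, 0, 0], [0, 0, 0, 0, 0, 0], [2, 0, 0, 0, 0, 0]]), (3, 12, [[0, 0, 0, 0, 0, 0], [0, 0, 0, 0, 0, 0], [0, 0, 0, 0, 0, 0], [2, 0, 3, 0, 0, 0], [2, 0, 1, 0, 0, 0], [2, 0, 2, 0, 0, 0]], [[0, 0, 0, 0, 0, 0],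 [0, 0, 0, 0, 0, 0], [0, 0, 0, 0, 0, 0], [1, 0, 0, 0, 0, 0], [0, 0, 0, 0, 0, 0], [1, 0, 0, 0, 0, 0]]), (3, 13, [[0, 0, 0, 0, 0, 0], [0, 0, 0, 0, 0, 0], [0, 0, 0, 0, 0, 0], [0, 0, 3, 0, 0, 0], [2, 0, 1, 0, 0, 0], [0, 0, 2, 0, 0, 0]], [[0, 0, 0, 0, 0, 0], [0, 0, 0, 0, 0, 0], [0, 0, 0, 0, 0, 0], [1, 0, 0, 0, 0, 0], [0, 0, 0, 0, 0, 0], [1, 0, 0, 0, 0, 0]]), (3, 14, [[0, 0, 0, 0, 0, 0], [0, 0, 0, 0, 0, 0], [0, 0, 0, 0, 0, 0], [1, 0, 3, 0, 0, 0], [2, 0, 1, 0, 0, 0], [1, 0, 2, 0, 0, 0]], [[0, 0, 0, 0, 0, 0], [0, 0, 0, 0, 0, 0], [0, 0, 0, 0, 0, 0], [1, 0, 0, 0, 0, 0], [0, 0, 0, 0, 0, 0], [1, 0, 0, 0, 0, 0]]), (3, 15, [[0, 0, 0, 0, 0, 0], [0, 0, 0, 0, 0, 0], [0, 0, 0, 0, 0, 0], [3, 0, 3, 0, 0, 0], [2, 0, 1, 0, 0, 0], [3, 0, 2, 0, 0, 0]],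 [[0, 0, 0, 0, 0, 0], [0, 0, 0, 0, 0, 0], [0, 0, 0, 0, 0, 0], [1, 0, 0, 0, 0, 0], [0, 0, 0, 0, 0, 0], [1, 0, 0, 0, 0, 0]]), (4, 5, [[0, 0, 0, 0, 0, 0], [0, 0, 0, 0, 0, 0], [0, 0, 0, 0, 0, 0], [1, 1, 0, 0, 0, 0], [0, 2, 0, 0, 0, 0], [0, 3, 0, 0, 0, 0]], [[0, 0, 0, 0, 0, 0], [0, 0, 0, 0, 0, 0], [0, 0, 0, 0, 0, 0], [0, 0, 0, 0, 0, 0], [3, 0, 0, 0, 0, 0], [2, 0, 0, 0, 0, 0]]), (4, 6, [[0, 0, 0, 0, 0, 0], [0, 0, 0, 0, 0, 0], [0, 0, 0, 0, 0, 0], [1, 1, 0, 0, 0, 0], [1, 2, 0, 0, 0, 0], [3, 3, 0, 0, 0, 0]], [[0, 0, 0, 0, 0, 0], [0, 0, 0, 0, 0, 0], [0, 0, 0, 0, 0, 0], [0, 0, 0, 0, 0, 0], [2, 0, 0, 0, 0, 0], [1, 0, 0, 0, 0, 0]]), (4, 7, [[0, 0, 0, 0, 0, 0], [0, 0, 0, 0, 0, 0], [0, 0, 0, 0, 0, 0], [1, 1, 0, 0, 0, 0], [2, 2, 0, 0, 0, 0], [1,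 3, 0, 0, 0, 0]], [[0, 0, 0, 0, 0, 0], [0, 0, 0, 0, 0, 0], [0, 0, 0, 0, 0, 0], [0, 0, 0, 0, 0, 0], [1, 0, 0, 0, 0, 0], [3, 0, 0, 0, 0, 0]]), (4, 8, [[0, 0, 0, 0, 0, 0], [0, 0, 0, 0, 0, 0], [0, 0, 0, 0, 0, 0], [1, 1, 0, 0, 0, 0], [3, 0, 0, 0, 0, 0], [2, 2, 0, 0, 0, 0]], [[0, 0, 0, 0, 0, 0], [0, 0, 0, 0, 0, 0], [0, 0, 0, 0, 0, 0], [0, 0, 0, 0, 0, 0], [0, 3, 0, 0, 0, 0], [0, 2, 0, 0, 0, 0]]), (4, 9, [[0, 0, 0, 0, 0, 0], [0, 0, 0, 0, 0, 0], [0, 0, 0, 0, 0, 0], [1, 1, 0, 0, 0, 0], [2, 2, 0, 0, 0, 0], [1, 3, 0, 0, 0, 0]], [[0, 0, 0, 0, 0, 0], [0, 0, 0, 0, 0, 0], [0, 0, 0, 0, 0, 0], [0, 0, 0, 0, 0, 0], [3, 0, 0, 0, 0, 0], [2, 0, 0, 0, 0, 0]]), (4, 10, [[0, 0, 0, 0, 0, 0], [0, 0, 0, 0, 0, 0], [0, 0, 0, 0, 0, 0], [1, 1, 0, 0, 0, 0], [0, 2,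 0, 0, 0, 0], [0, 3, 0, 0, 0, 0]], [[0, 0, 0, 0, 0, 0], [0, 0, 0, 0, 0, 0], [0, 0, 0, 0, 0, 0], [0, 0, 0, 0, 0, 0], [2, 0, 0, 0, 0, 0], [1, 0, 0, 0, 0, 0]])]

/-- certificates -/
def planeCerts3 : List (ℕ × ℕ × List (List ℕ) × List (List ℕ)) := [(4, 11, [[0, 0, 0, 0, 0, 0], [0, 0, 0, 0, 0, 0], [0, 0, 0, 0, 0, 0], [1, 1, 0, 0, 0, 0], [1, 2, 0, 0, 0, 0], [3, 3, 0, 0, 0, 0]], [[0, 0, 0, 0, 0, 0], [0, 0, 0, 0, 0, 0], [0, 0, 0, 0, 0, 0], [0, 0, 0, 0, 0, 0], [1, 0, 0, 0, 0, 0], [3, 0, 0, 0, 0, 0]]), (4, 12, [[0, 0, 0, 0, 0, 0], [0, 0, 0, 0, 0, 0], [0, 0, 0, 0, 0, 0], [1, 1, 0, 0, 0, 0], [3, 3, 0, 0, 0, 0], [2, 0, 0, 0, 0, 0]], [[0, 0, 0, 0, 0, 0], [0, 0, 0, 0, 0, 0], [0, 0, 0, 0, 0, 0], [0, 0, 0, 0, 0, 0], [0, 3, 0, 0, 0, 0], [0, 2, 0,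 0, 0, 0]]), (4, 13, [[0, 0, 0, 0, 0, 0], [0, 0, 0, 0, 0, 0], [0, 0, 0, 0, 0, 0], [1, 1, 0, 0, 0, 0], [1, 2, 0, 0, 0, 0], [3, 3, 0, 0, 0, 0]], [[0, 0, 0, 0, 0, 0], [0, 0, 0, 0, 0, 0], [0, 0, 0, 0, 0, 0], [0, 0, 0, 0, 0, 0], [3, 0, 0, 0, 0, 0], [2, 0, 0, 0, 0, 0]]), (4, 14, [[0, 0, 0, 0, 0, 0], [0, 0, 0, 0, 0, 0], [0, 0, 0, 0, 0, 0], [1, 1, 0, 0, 0, 0], [2, 2, 0, 0, 0, 0], [1, 3, 0, 0, 0, 0]], [[0, 0, 0, 0, 0, 0], [0, 0, 0, 0, 0, 0], [0, 0, 0, 0, 0, 0], [0, 0, 0, 0, 0, 0], [2, 0, 0, 0, 0, 0], [1, 0, 0, 0, 0, 0]]), (4, 15, [[0, 0, 0, 0, 0, 0], [0, 0, 0, 0, 0, 0], [0, 0, 0, 0, 0, 0], [1, 1, 0, 0, 0, 0], [0, 2, 0, 0, 0, 0], [0, 3, 0, 0, 0, 0]], [[0, 0, 0, 0, 0, 0], [0, 0, 0, 0, 0, 0], [0, 0, 0, 0, 0, 0], [0, 0, 0, 0, 0, 0], [1, 0, 0,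 0, 0, 0], [3, 0, 0, 0, 0, 0]]), (5, 6, [[0, 0, 0, 0, 0, 0], [0, 0, 0, 0, 0, 0], [0, 0, 0, 0, 0, 0], [1, 1, 0, 0, 0, 0], [0, 2, 0, 0, 0, 0], [3, 3, 0, 0, 0, 0]], [[0, 0, 0, 0, 0, 0], [0, 0, 0, 0, 0, 0], [0, 0, 0, 0, 0, 0], [0, 0, 0, 0, 0, 0], [3, 0, 0, 0, 0, 0], [1, 0, 0, 0, 0, 0]]), (5, 7, [[0, 0, 0, 0, 0, 0], [0, 0, 0, 0, 0, 0], [0, 0, 0, 0, 0, 0], [1, 1, 0, 0, 0, 0], [2, 2, 0, 0, 0, 0], [0, 3, 0, 0, 0, 0]], [[0, 0, 0, 0, 0, 0], [0, 0, 0, 0, 0, 0], [0, 0, 0, 0, 0, 0], [0, 0, 0, 0, 0, 0], [1, 0, 0, 0, 0, 0], [2, 0, 0, 0, 0, 0]]), (5, 8, [[0, 0, 0, 0, 0, 0], [0, 0, 0, 0, 0, 0], [0, 0, 0, 0, 0, 0], [1, 1, 0, 0, 0, 0], [1, 2, 0, 0, 0, 0], [1, 3, 0, 0, 0, 0]], [[0, 0, 0, 0, 0, 0], [0, 0, 0, 0, 0, 0], [0, 0, 0, 0, 0, 0], [0, 0, 0, 0,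 0, 0], [1, 0, 0, 0, 0, 0], [2, 0, 0, 0, 0, 0]]), (5, 9, [[0, 0, 0, 0, 0, 0], [0, 0, 0, 0, 0, 0], [0, 0, 0, 0, 0, 0], [1, 1, 0, 0, 0, 0], [2, 2, 0, 0, 0, 0], [0, 3, 0, 0, 0, 0]], [[0, 0, 0, 0, 0, 0], [0, 0, 0, 0, 0, 0], [0, 0, 0, 0, 0, 0], [0, 0, 0, 0, 0, 0], [3, 0, 0, 0, 0, 0], [1, 0, 0, 0, 0, 0]]), (5, 10, [[0, 0, 0, 0, 0, 0], [0, 0, 0, 0, 0, 0], [0, 0, 0, 0, 0, 0], [1, 1, 0, 0, 0, 0], [3, 3, 0, 0, 0, 0], [2, 1, 0, 0, 0, 0]], [[0, 0, 0, 0, 0, 0], [0, 0, 0, 0, 0, 0], [0, 0, 0, 0, 0, 0], [0, 0, 0, 0, 0, 0], [0, 2, 0, 0, 0, 0], [0, 3, 0, 0, 0, 0]]), (5, 11, [[0, 0, 0, 0, 0, 0], [0, 0, 0, 0, 0, 0], [0, 0, 0, 0, 0, 0], [1, 1, 0, 0, 0, 0], [0, 2, 0, 0, 0, 0], [3, 3, 0, 0, 0, 0]], [[0, 0, 0, 0, 0, 0], [0, 0, 0, 0, 0, 0], [0, 0, 0, 0,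 0, 0], [0, 0, 0, 0, 0, 0], [2, 0, 0, 0, 0, 0], [3, 0, 0, 0, 0, 0]]), (5, 12, [[0, 0, 0, 0, 0, 0], [0, 0, 0, 0, 0, 0], [0, 0, 0, 0, 0, 0], [1, 1, 0, 0, 0, 0], [1, 2, 0, 0, 0, 0], [1, 3, 0, 0, 0, 0]], [[0, 0, 0, 0, 0, 0], [0, 0, 0, 0, 0, 0], [0, 0, 0, 0, 0, 0], [0, 0, 0, 0, 0, 0], [3, 0, 0, 0, 0, 0], [1, 0, 0, 0, 0, 0]]), (5, 13, [[0, 0, 0, 0, 0, 0], [0, 0, 0, 0, 0, 0], [0, 0, 0, 0, 0, 0], [1, 1, 0, 0, 0, 0], [0, 2, 0, 0, 0, 0], [3, 3, 0, 0, 0, 0]], [[0, 0, 0, 0, 0, 0], [0, 0, 0, 0, 0, 0], [0, 0, 0, 0, 0, 0], [0, 0, 0, 0, 0, 0], [1, 0, 0, 0, 0, 0], [2, 0, 0, 0, 0, 0]]), (5, 14, [[0, 0, 0, 0, 0, 0], [0, 0, 0, 0, 0, 0], [0, 0, 0, 0, 0, 0], [1, 1, 0, 0, 0, 0], [2, 2, 0, 0, 0, 0], [0, 3, 0, 0, 0, 0]], [[0, 0, 0, 0, 0, 0], [0, 0, 0, 0,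 0, 0], [0, 0, 0, 0, 0, 0], [0, 0, 0, 0, 0, 0], [2, 0, 0, 0, 0, 0], [3, 0, 0, 0, 0, 0]]), (5, 15, [[0, 0, 0, 0, 0, 0], [0, 0, 0, 0, 0, 0], [0, 0, 0, 0, 0, 0], [1, 1, 0, 0, 0, 0], [3, 1, 0, 0, 0, 0], [2, 2, 0, 0, 0, 0]], [[0, 0, 0, 0, 0, 0], [0, 0, 0, 0, 0, 0], [0, 0, 0, 0, 0, 0], [0, 0, 0, 0, 0, 0], [0, 2, 0, 0, 0, 0], [0, 3, 0, 0, 0, 0]])]

/-- certificates -/
def planeCerts4 : List (ℕ × ℕ × List (List ℕ) × List (List ℕ)) := [(6, 7, [[0, 0, 0, 0, 0, 0], [0, 0, 0, 0, 0, 0], [0, 0, 0, 0, 0, 0], [0, 1, 0, 0, 0, 0], [0, 2, 0, 0, 0, 0], [1, 3, 0, 0, 0, 0]], [[0, 0, 0, 0, 0, 0], [0, 0, 0, 0, 0, 0], [0, 0, 0, 0, 0, 0], [1, 0, 0, 0, 0, 0], [3, 0, 0, 0, 0, 0], [3, 0, 0, 0, 0, 0]]), (6, 8, [[0, 0, 0, 0, 0, 0], [0, 0, 0, 0, 0, 0], [0, 0, 0,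 0, 0, 0], [2, 1, 0, 0, 0, 0], [1, 2, 0, 0, 0, 0], [0, 3, 0, 0, 0, 0]], [[0, 0, 0, 0, 0, 0], [0, 0, 0, 0, 0, 0], [0, 0, 0, 0, 0, 0], [2, 0, 0, 0, 0, 0], [1, 0, 0, 0, 0, 0], [1, 0, 0, 0, 0, 0]]), (6, 9, [[0, 0, 0, 0, 0, 0], [0, 0, 0, 0, 0, 0], [0, 0, 0, 0, 0, 0], [0, 1, 0, 0, 0, 0], [0, 2, 0, 0, 0, 0], [1, 3, 0, 0, 0, 0]], [[0, 0, 0, 0, 0, 0], [0, 0, 0, 0, 0, 0], [0, 0, 0, 0, 0, 0], [3, 0, 0, 0, 0, 0], [2, 0, 0, 0, 0, 0], [2, 0, 0, 0, 0, 0]]), (6, 10, [[0, 0, 0, 0, 0, 0], [0, 0, 0, 0, 0, 0], [0, 0, 0, 0, 0, 0], [3, 1, 0, 0, 0, 0], [2, 2, 0, 0, 0, 0], [3, 3, 0, 0, 0, 0]], [[0, 0, 0, 0, 0, 0], [0, 0, 0, 0, 0, 0], [0, 0, 0, 0, 0, 0], [1, 0, 0, 0, 0, 0], [3, 0, 0, 0, 0, 0], [3, 0, 0, 0, 0, 0]]), (6, 11, [[0, 0, 0, 0, 0, 0], [0, 0, 0,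 0, 0, 0], [0, 0, 0, 0, 0, 0], [1, 2, 0, 0, 0, 0], [3, 0, 0, 0, 0, 0], [2, 1, 0, 0, 0, 0]], [[0, 0, 0, 0, 0, 0], [0, 0, 0, 0, 0, 0], [0, 0, 0, 0, 0, 0], [0, 1, 0, 0, 0, 0], [0, 3, 0, 0, 0, 0], [0, 3, 0, 0, 0, 0]]), (6, 12, [[0, 0, 0, 0, 0, 0], [0, 0, 0, 0, 0, 0], [0, 0, 0, 0, 0, 0], [2, 1, 0, 0, 0, 0], [1, 2, 0, 0, 0, 0], [0, 3, 0, 0, 0, 0]], [[0, 0, 0, 0, 0, 0], [0, 0, 0, 0, 0, 0], [0, 0, 0, 0, 0, 0], [1, 0, 0, 0, 0, 0], [3, 0, 0, 0, 0, 0], [3, 0, 0, 0, 0, 0]]), (6, 13, [[0, 0, 0, 0, 0, 0], [0, 0, 0, 0, 0, 0], [0, 0, 0, 0, 0, 0], [1, 3, 0, 0, 0, 0], [3, 3, 0, 0, 0, 0], [2, 2, 0, 0, 0, 0]], [[0, 0, 0, 0, 0, 0], [0, 0, 0, 0, 0, 0], [0, 0, 0, 0, 0, 0], [0, 1, 0, 0, 0, 0], [0, 3, 0, 0, 0, 0], [0, 3, 0, 0, 0, 0]]), (6, 14, [[0, 0, 0,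 0, 0, 0], [0, 0, 0, 0, 0, 0], [0, 0, 0, 0, 0, 0], [0, 1, 0, 0, 0, 0], [0, 2, 0, 0, 0, 0], [1, 3, 0, 0, 0, 0]], [[0, 0, 0, 0, 0, 0], [0, 0, 0, 0, 0, 0], [0, 0, 0, 0, 0, 0], [2, 0, 0, 0, 0, 0], [1, 0, 0, 0, 0, 0], [1, 0, 0, 0, 0, 0]]), (6, 15, [[0, 0, 0, 0, 0, 0], [0, 0, 0, 0, 0, 0], [0, 0, 0, 0, 0, 0], [3, 1, 0, 0, 0, 0], [2, 2, 0, 0, 0, 0], [3, 3, 0, 0, 0, 0]], [[0, 0, 0, 0, 0, 0], [0, 0, 0, 0, 0, 0], [0, 0, 0, 0, 0, 0], [3, 0, 0, 0, 0, 0], [2, 0, 0, 0, 0, 0], [2, 0, 0, 0, 0, 0]]), (7, 8, [[0, 0, 0, 0, 0, 0], [0, 0, 0, 0, 0, 0], [0, 0, 0, 0, 0, 0], [3, 1, 0, 0, 0, 0], [0, 2, 0, 0, 0, 0], [1, 3, 0, 0, 0, 0]], [[0, 0, 0, 0, 0, 0], [0, 0, 0, 0, 0, 0], [0, 0, 0, 0, 0, 0], [1, 0, 0, 0, 0, 0], [2, 0, 0, 0, 0, 0], [2, 0, 0, 0, 0, 0]]),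 (7, 9, [[0, 0, 0, 0, 0, 0], [0, 0, 0, 0, 0, 0], [0, 0, 0, 0, 0, 0], [1, 2, 0, 0, 0, 0], [3, 3, 0, 0, 0, 0], [2, 2, 0, 0, 0, 0]], [[0, 0, 0, 0, 0, 0], [0, 0, 0, 0, 0, 0], [0, 0, 0, 0, 0, 0], [0, 1, 0, 0, 0, 0], [0, 2, 0, 0, 0, 0], [0, 2, 0, 0, 0, 0]]), (7, 10, [[0, 0, 0, 0, 0, 0], [0, 0, 0, 0, 0, 0], [0, 0, 0, 0, 0, 0], [2, 1, 0, 0, 0, 0], [2, 2, 0, 0, 0, 0], [3, 3, 0, 0, 0, 0]], [[0, 0, 0, 0, 0, 0], [0, 0, 0, 0, 0, 0], [0, 0, 0, 0, 0, 0], [2, 0, 0, 0, 0, 0], [3, 0, 0, 0, 0, 0], [3, 0, 0, 0, 0, 0]]), (7, 11, [[0, 0, 0, 0, 0, 0], [0, 0, 0, 0, 0, 0], [0, 0, 0, 0, 0, 0], [0, 1, 0, 0, 0, 0], [1, 2, 0, 0, 0, 0], [0, 3, 0, 0, 0, 0]], [[0, 0, 0, 0, 0, 0], [0, 0, 0, 0, 0, 0], [0, 0, 0, 0, 0, 0], [3, 0, 0, 0, 0, 0], [1, 0, 0, 0, 0, 0], [1,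 0, 0, 0, 0, 0]]), (7, 12, [[0, 0, 0, 0, 0, 0], [0, 0, 0, 0, 0, 0], [0, 0, 0, 0, 0, 0], [3, 1, 0, 0, 0, 0], [0, 2, 0, 0, 0, 0], [1, 3, 0, 0, 0, 0]], [[0, 0, 0, 0, 0, 0], [0, 0, 0, 0, 0, 0], [0, 0, 0, 0, 0, 0], [3, 0, 0, 0, 0, 0], [1, 0, 0, 0, 0, 0], [1, 0, 0, 0, 0, 0]]), (7, 13, [[0, 0, 0, 0, 0, 0], [0, 0, 0, 0, 0, 0], [0, 0, 0, 0, 0, 0], [0, 1, 0, 0, 0, 0], [1, 2, 0, 0, 0, 0], [0, 3, 0, 0, 0, 0]], [[0, 0, 0, 0, 0, 0], [0, 0, 0, 0, 0, 0], [0, 0, 0, 0, 0, 0], [2, 0, 0, 0, 0, 0], [3, 0, 0, 0, 0, 0], [3, 0, 0, 0, 0, 0]])]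

/-- certificates -/
def planeCerts5 : List (ℕ × ℕ × List (List ℕ) × List (List ℕ)) := [(7, 14, [[0, 0, 0, 0, 0, 0], [0, 0, 0, 0, 0, 0], [0, 0, 0, 0, 0, 0], [1, 3, 0, 0, 0, 0], [3, 1, 0, 0, 0, 0], [2, 0, 0, 0, 0, 0]], [[0, 0, 0, 0, 0, 0], [0, 0, 0, 0, 0, 0], [0, 0, 0, 0, 0, 0], [0, 1, 0, 0, 0, 0], [0, 2, 0, 0, 0, 0], [0, 2, 0, 0, 0, 0]]), (7, 15, [[0, 0, 0, 0, 0, 0], [0, 0, 0, 0, 0, 0], [0, 0, 0, 0, 0, 0], [2, 1, 0, 0, 0, 0], [2, 2, 0, 0, 0, 0], [3, 3, 0, 0, 0, 0]], [[0, 0, 0, 0, 0, 0], [0, 0, 0, 0, 0, 0], [0, 0, 0, 0, 0, 0], [1, 0, 0, 0, 0, 0], [2, 0, 0, 0, 0, 0], [2, 0, 0, 0, 0, 0]]), (8, 9, [[0, 0, 0, 0, 0, 0], [0, 0, 0, 0, 0, 0], [0, 0, 0, 0, 0, 0], [1, 2, 0, 0, 0, 0], [2, 3, 0, 0, 0, 0], [2, 1, 0, 0, 0, 0]], [[0, 0, 0, 0, 0,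 0], [0, 0, 0, 0, 0, 0], [0, 0, 0, 0, 0, 0], [2, 0, 0, 0, 0, 0], [0, 0, 0, 0, 0, 0], [3, 0, 0, 0, 0, 0]]), (8, 10, [[0, 0, 0, 0, 0, 0], [0, 0, 0, 0, 0, 0], [0, 0, 0, 0, 0, 0], [2, 2, 0, 0, 0, 0], [2, 3, 0, 0, 0, 0], [3, 1, 0, 0, 0, 0]], [[0, 0, 0, 0, 0, 0], [0, 0, 0, 0, 0, 0], [0, 0, 0, 0, 0, 0], [1, 0, 0, 0, 0, 0], [0, 0, 0, 0, 0, 0], [2, 0, 0, 0, 0, 0]]), (8, 11, [[0, 0, 0, 0, 0, 0], [0, 0, 0, 0, 0, 0], [0, 0, 0, 0, 0, 0], [0, 2, 0, 0, 0, 0], [2, 3, 0, 0, 0, 0], [0, 1, 0, 0, 0, 0]], [[0, 0, 0, 0, 0, 0], [0, 0, 0, 0, 0, 0], [0, 0, 0, 0, 0, 0], [3, 0, 0, 0, 0, 0], [0, 0, 0, 0, 0, 0], [1, 0, 0, 0, 0, 0]]), (8, 12, [[0, 0, 0, 0, 0, 0], [0, 0, 0, 0, 0, 0], [0, 0, 0, 0, 0, 0], [3, 1, 0, 0, 0, 0], [2, 3, 0, 0, 0, 0], [1, 0, 0, 0, 0, 0]],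 [[0, 0, 0, 0, 0, 0], [0, 0, 0, 0, 0, 0], [0, 0, 0, 0, 0, 0], [0, 1, 0, 0, 0, 0], [0, 0, 0, 0, 0, 0], [0, 2, 0, 0, 0, 0]]), (8, 13, [[0, 0, 0, 0, 0, 0], [0, 0, 0, 0, 0, 0], [0, 0, 0, 0, 0, 0], [0, 2, 0, 0, 0, 0], [2, 3, 0, 0, 0, 0], [0, 1, 0, 0, 0, 0]], [[0, 0, 0, 0, 0, 0], [0, 0, 0, 0, 0, 0], [0, 0, 0, 0, 0, 0], [2, 0, 0, 0, 0, 0], [0, 0, 0, 0, 0, 0], [3, 0, 0, 0, 0, 0]]), (8, 14, [[0, 0, 0, 0, 0, 0], [0, 0, 0, 0, 0, 0], [0, 0, 0, 0, 0, 0], [1, 2, 0, 0, 0, 0], [2, 3, 0, 0, 0, 0], [2, 1, 0, 0, 0, 0]], [[0, 0, 0, 0, 0, 0], [0, 0, 0, 0, 0, 0], [0, 0, 0, 0, 0, 0], [1, 0, 0, 0, 0, 0], [0, 0, 0, 0, 0, 0], [2, 0, 0, 0, 0, 0]]), (8, 15, [[0, 0, 0, 0, 0, 0], [0, 0, 0, 0, 0, 0], [0, 0, 0, 0, 0, 0], [2, 2, 0, 0, 0, 0], [2, 3, 0, 0, 0, 0],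 [3, 1, 0, 0, 0, 0]], [[0, 0, 0, 0, 0, 0], [0, 0, 0, 0, 0, 0], [0, 0, 0, 0, 0, 0], [3, 0, 0, 0, 0, 0], [0, 0, 0, 0, 0, 0], [1, 0, 0, 0, 0, 0]]), (9, 10, [[0, 0, 0, 0, 0, 0], [0, 0, 0, 0, 0, 0], [0, 0, 0, 0, 0, 0], [2, 2, 0, 0, 0, 0], [0, 3, 0, 0, 0, 0], [0, 1, 0, 0, 0, 0]], [[0, 0, 0, 0, 0, 0], [0, 0, 0, 0, 0, 0], [0, 0, 0, 0, 0, 0], [1, 0, 0, 0, 0, 0], [2, 0, 0, 0, 0, 0], [1, 0, 0, 0, 0, 0]]), (9, 11, [[0, 0, 0, 0, 0, 0], [0, 0, 0, 0, 0, 0], [0, 0, 0, 0, 0, 0], [1, 2, 0, 0, 0, 0], [1, 3, 0, 0, 0, 0], [3, 1, 0, 0, 0, 0]], [[0, 0, 0, 0, 0, 0], [0, 0, 0, 0, 0, 0], [0, 0, 0, 0, 0, 0], [2, 0, 0, 0, 0, 0], [3, 0, 0, 0, 0, 0], [2, 0, 0, 0, 0, 0]]), (9, 12, [[0, 0, 0, 0, 0, 0], [0, 0, 0, 0, 0, 0], [0, 0, 0, 0, 0, 0], [0, 2, 0, 0, 0, 0],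 [3, 3, 0, 0, 0, 0], [2, 1, 0, 0, 0, 0]], [[0, 0, 0, 0, 0, 0], [0, 0, 0, 0, 0, 0], [0, 0, 0, 0, 0, 0], [2, 0, 0, 0, 0, 0], [3, 0, 0, 0, 0, 0], [2, 0, 0, 0, 0, 0]]), (9, 13, [[0, 0, 0, 0, 0, 0], [0, 0, 0, 0, 0, 0], [0, 0, 0, 0, 0, 0], [1, 2, 0, 0, 0, 0], [1, 3, 0, 0, 0, 0], [3, 1, 0, 0, 0, 0]], [[0, 0, 0, 0, 0, 0], [0, 0, 0, 0, 0, 0], [0, 0, 0, 0, 0, 0], [1, 0, 0, 0, 0, 0], [2, 0, 0, 0, 0, 0], [1, 0, 0, 0, 0, 0]]), (9, 14, [[0, 0, 0, 0, 0, 0], [0, 0, 0, 0, 0, 0], [0, 0, 0, 0, 0, 0], [3, 3, 0, 0, 0, 0], [2, 1, 0, 0, 0, 0], [1, 0, 0, 0, 0, 0]], [[0, 0, 0, 0, 0, 0], [0, 0, 0, 0, 0, 0], [0, 0, 0, 0, 0, 0], [0, 2, 0, 0, 0, 0], [0, 3, 0, 0, 0, 0], [0, 2, 0, 0, 0, 0]]), (9, 15, [[0, 0, 0, 0, 0, 0], [0, 0, 0, 0, 0, 0], [0, 0, 0, 0, 0, 0],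 [2, 2, 0, 0, 0, 0], [0, 3, 0, 0, 0, 0], [0, 1, 0, 0, 0, 0]], [[0, 0, 0, 0, 0, 0], [0, 0, 0, 0, 0, 0], [0, 0, 0, 0, 0, 0], [3, 0, 0, 0, 0, 0], [1, 0, 0, 0, 0, 0], [3, 0, 0, 0, 0, 0]])]

/-- certificates -/
def planeCerts6 : List (ℕ × ℕ × List (List ℕ) × List (List ℕ)) := [(10, 11, [[0, 0, 0, 0, 0, 0], [0, 0, 0, 0, 0, 0], [0, 0, 0, 0, 0, 0], [1, 2, 0, 0, 0, 0], [3, 3, 0, 0, 0, 0], [3, 1, 0, 0, 0, 0]], [[0, 0, 0, 0, 0, 0], [0, 0, 0, 0, 0, 0], [0, 0, 0, 0, 0, 0], [2, 0, 0, 0, 0, 0], [1, 0, 0, 0, 0, 0], [2, 0, 0, 0, 0, 0]]), (10, 12, [[0, 0, 0, 0, 0, 0], [0, 0, 0, 0, 0, 0], [0, 0, 0, 0, 0, 0], [2, 2, 0, 0, 0, 0], [1, 3, 0, 0, 0, 0], [0, 1, 0, 0, 0, 0]], [[0, 0, 0, 0, 0, 0], [0, 0, 0, 0, 0, 0], [0, 0, 0, 0, 0, 0], [3, 0, 0, 0, 0, 0],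 [2, 0, 0, 0, 0, 0], [3, 0, 0, 0, 0, 0]]), (10, 13, [[0, 0, 0, 0, 0, 0], [0, 0, 0, 0, 0, 0], [0, 0, 0, 0, 0, 0], [1, 2, 0, 0, 0, 0], [3, 3, 0, 0, 0, 0], [3, 1, 0, 0, 0, 0]], [[0, 0, 0, 0, 0, 0], [0, 0, 0, 0, 0, 0], [0, 0, 0, 0, 0, 0], [1, 0, 0, 0, 0, 0], [3, 0, 0, 0, 0, 0], [1, 0, 0, 0, 0, 0]]), (10, 14, [[0, 0, 0, 0, 0, 0], [0, 0, 0, 0, 0, 0], [0, 0, 0, 0, 0, 0], [0, 2, 0, 0, 0, 0], [0, 3, 0, 0, 0, 0], [2, 1, 0, 0, 0, 0]], [[0, 0, 0, 0, 0, 0], [0, 0, 0, 0, 0, 0], [0, 0, 0, 0, 0, 0], [2, 0, 0, 0, 0, 0], [1, 0, 0, 0, 0, 0], [2, 0, 0, 0, 0, 0]]), (10, 15, [[0, 0, 0, 0, 0, 0], [0, 0, 0, 0, 0, 0], [0, 0, 0, 0, 0, 0], [3, 1, 0, 0, 0, 0], [2, 1, 0, 0, 0, 0], [1, 2, 0, 0, 0, 0]], [[0, 0, 0, 0, 0, 0], [0, 0, 0, 0, 0, 0], [0, 0, 0, 0, 0,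 0], [0, 1, 0, 0, 0, 0], [0, 3, 0, 0, 0, 0], [0, 1, 0, 0, 0, 0]]), (11, 12, [[0, 0, 0, 0, 0, 0], [0, 0, 0, 0, 0, 0], [0, 0, 0, 0, 0, 0], [2, 2, 0, 0, 0, 0], [2, 3, 0, 0, 0, 0], [2, 1, 0, 0, 0, 0]], [[0, 0, 0, 0, 0, 0], [0, 0, 0, 0, 0, 0], [0, 0, 0, 0, 0, 0], [3, 0, 0, 0, 0, 0], [0, 0, 0, 0, 0, 0], [2, 0, 0, 0, 0, 0]]), (11, 13, [[0, 0, 0, 0, 0, 0], [0, 0, 0, 0, 0, 0], [0, 0, 0, 0, 0, 0], [3, 3, 0, 0, 0, 0], [2, 3, 0, 0, 0, 0], [1, 2, 0, 0, 0, 0]], [[0, 0, 0, 0, 0, 0], [0, 0, 0, 0, 0, 0], [0, 0, 0, 0, 0, 0], [0, 2, 0, 0, 0, 0], [0, 0, 0, 0, 0, 0], [0, 1, 0, 0, 0, 0]]), (11, 14, [[0, 0, 0, 0, 0, 0], [0, 0, 0, 0, 0, 0], [0, 0, 0, 0, 0, 0], [1, 2, 0, 0, 0, 0], [2, 3, 0, 0, 0, 0], [0, 1, 0, 0, 0, 0]], [[0, 0, 0, 0, 0, 0], [0, 0, 0, 0,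 0, 0], [0, 0, 0, 0, 0, 0], [1, 0, 0, 0, 0, 0], [0, 0, 0, 0, 0, 0], [3, 0, 0, 0, 0, 0]]), (11, 15, [[0, 0, 0, 0, 0, 0], [0, 0, 0, 0, 0, 0], [0, 0, 0, 0, 0, 0], [0, 2, 0, 0, 0, 0], [2, 3, 0, 0, 0, 0], [3, 1, 0, 0, 0, 0]], [[0, 0, 0, 0, 0, 0], [0, 0, 0, 0, 0, 0], [0, 0, 0, 0, 0, 0], [2, 0, 0, 0, 0, 0], [0, 0, 0, 0, 0, 0], [1, 0, 0, 0, 0, 0]]), (12, 13, [[0, 0, 0, 0, 0, 0], [0, 0, 0, 0, 0, 0], [0, 0, 0, 0, 0, 0], [1, 3, 0, 0, 0, 0], [3, 1, 0, 0, 0, 0], [3, 2, 0, 0, 0, 0]], [[0, 0, 0, 0, 0, 0], [0, 0, 0, 0, 0, 0], [0, 0, 0, 0, 0, 0], [3, 0, 0, 0, 0, 0], [2, 0, 0, 0, 0, 0], [0, 0, 0, 0, 0, 0]]), (12, 14, [[0, 0, 0, 0, 0, 0], [0, 0, 0, 0, 0, 0], [0, 0, 0, 0, 0, 0], [0, 3, 0, 0, 0, 0], [0, 1, 0, 0, 0, 0], [3, 2, 0, 0, 0, 0]], [[0, 0, 0,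 0, 0, 0], [0, 0, 0, 0, 0, 0], [0, 0, 0, 0, 0, 0], [2, 0, 0, 0, 0, 0], [1, 0, 0, 0, 0, 0], [0, 0, 0, 0, 0, 0]]), (12, 15, [[0, 0, 0, 0, 0, 0], [0, 0, 0, 0, 0, 0], [0, 0, 0, 0, 0, 0], [3, 3, 0, 0, 0, 0], [2, 1, 0, 0, 0, 0], [3, 2, 0, 0, 0, 0]], [[0, 0, 0, 0, 0, 0], [0, 0, 0, 0, 0, 0], [0, 0, 0, 0, 0, 0], [1, 0, 0, 0, 0, 0], [3, 0, 0, 0, 0, 0], [0, 0, 0, 0, 0, 0]]), (13, 14, [[0, 0, 0, 0, 0, 0], [0, 0, 0, 0, 0, 0], [0, 0, 0, 0, 0, 0], [1, 3, 0, 0, 0, 0], [2, 1, 0, 0, 0, 0], [1, 2, 0, 0, 0, 0]], [[0, 0, 0, 0, 0, 0], [0, 0, 0, 0, 0, 0], [0, 0, 0, 0, 0, 0], [3, 0, 0, 0, 0, 0], [3, 0, 0, 0, 0, 0], [2, 0, 0, 0, 0, 0]]), (13, 15, [[0, 0, 0, 0, 0, 0], [0, 0, 0, 0, 0, 0], [0, 0, 0, 0, 0, 0], [3, 3, 0, 0, 0, 0], [0, 1, 0, 0, 0, 0], [0, 2, 0,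 0, 0, 0]], [[0, 0, 0, 0, 0, 0], [0, 0, 0, 0, 0, 0], [0, 0, 0, 0, 0, 0], [1, 0, 0, 0, 0, 0], [1, 0, 0, 0, 0, 0], [3, 0, 0, 0, 0, 0]]), (14, 15, [[0, 0, 0, 0, 0, 0], [0, 0, 0, 0, 0, 0], [0, 0, 0, 0, 0, 0], [0, 3, 0, 0, 0, 0], [2, 1, 0, 0, 0, 0], [3, 2, 0, 0, 0, 0]], [[0, 0, 0, 0, 0, 0], [0, 0, 0, 0, 0, 0], [0, 0, 0, 0, 0, 0], [2, 0, 0, 0, 0, 0], [3, 0, 0, 0, 0, 0], [0, 0, 0, 0, 0, 0]])]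

/-- the six points -/
def planePts : List (List ℕ) := [[1455, 2805, 3930], [1530, 2655, 4005], [1638, 3003, 3549], [1689, 3054, 3447], [1917, 2454, 3819], [2007, 2409, 3774]]

/-- three elements of the stabiliser as products -/
def planeSelSteps : List (List (Fin 4 × List (List ℕ))) := [[(0, [[2, 0, 0, 0, 0, 0], [0, 3, 0, 0, 0, 0], [0, 0, 1, 0, 0, 0], [0, 0, 0, 1, 0, 0], [0, 0, 0, 0, 1, 0], [0, 0, 0, 0, 0, 1]]), (1, [[0, 0, 2, 0, 0, 0], [3, 0, 0, 0, 0, 0], [0, 1, 0, 0, 0, 0], [0, 0, 0, 1, 0, 0], [0, 0, 0, 0, 1, 0], [0, 0, 0, 0, 0, 1]]), (2, [[0, 2, 0, 0, 0, 0], [3, 0, 0, 0, 0, 0], [0, 0, 0, 0, 0, 1], [0, 0, 1, 0, 0, 0], [0, 0, 0, 1, 0, 0], [0, 0, 0, 0, 1, 0]])], [(1, [[0, 0, 1, 0, 0, 0], [1, 0, 0, 0, 0, 0], [0, 1, 0, 0, 0, 0],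 [0, 0, 0, 1, 0, 0], [0, 0, 0, 0, 1, 0], [0, 0, 0, 0, 0, 1]]), (3, [[3, 2, 1, 0, 0, 0], [1, 1, 1, 0, 0, 0], [2, 3, 1, 0, 0, 0], [0, 0, 0, 1, 1, 1], [0, 0, 0, 3, 2, 1], [0, 0, 0, 2, 3, 1]]), (3, [[3, 0, 0, 0, 0, 0], [0, 0, 1, 0, 0, 0], [0, 2, 0, 0, 0, 0], [0, 0, 0, 0, 0, 1], [0, 0, 0, 0, 3, 0], [0, 0, 0, 2, 0, 0]])], [(1, [[0, 0, 1, 0, 0, 0], [1, 0, 0, 0, 0, 0], [0, 1, 0, 0, 0, 0], [0, 0, 0, 1, 0, 0], [0, 0, 0, 0, 1, 0], [0, 0, 0, 0, 0, 1]]), (1, [[0, 1, 0, 0, 0, 0], [0, 0, 1, 0, 0, 0], [1, 0, 0, 0, 0, 0], [0, 0, 0, 1, 0, 0], [0, 0, 0, 0, 1, 0], [0, 0, 0, 0, 0, 1]]), (2, [[0, 0, 0, 0, 0, 1], [0, 1, 0, 0, 0, 0], [1, 0, 0, 0, 0, 0], [0, 0, 1, 0, 0, 0], [0, 0, 0, 1, 0, 0], [0, 0, 0, 0, 1, 0]]), (2, [[0, 0, 0, 0, 1, 0], [0, 0, 0, 0, 0,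 1], [1, 0, 0, 0, 0, 0], [0, 1, 0, 0, 0, 0], [0, 0, 1, 0, 0, 0], [0, 0, 0, 1, 0, 0]])]]

/-- the three elements -/
def planeSelRows : List (List (List ℕ)) := [[[0, 2, 0, 0, 0, 0], [3, 0, 0, 0, 0, 0], [0, 0, 0, 0, 0, 1], [0, 0, 1, 0, 0, 0], [0, 0, 0, 1, 0, 0], [0, 0, 0, 0, 1, 0]], [[3, 0, 0, 0, 0, 0], [0, 0, 1, 0, 0, 0], [0, 2, 0, 0, 0, 0], [0, 0, 0, 0, 0, 1], [0, 0, 0, 0, 3, 0], [0, 0, 0, 2, 0, 0]], [[0, 0, 0, 0, 1, 0], [0, 0, 0, 0, 0, 1], [1, 0, 0, 0, 0, 0], [0, 1, 0, 0, 0, 0], [0, 0, 1, 0, 0, 0], [0, 0, 0, 1, 0, 0]]]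

/-- their permutations of the six points -/
def planeSelPerm : List (List ℕ) := [[3, 5, 4, 1, 2, 0], [0, 4, 5, 3, 1, 2], [0, 1, 2, 4, 5, 3]]

/-- their action on the sixteen elements -/
def planeConj : List (List ℕ) := [[0, 2, 1, 3, 13, 15, 12, 14, 9, 11, 8, 10, 4, 6, 5, 7], [0, 12, 4, 8, 2, 14, 6, 10, 3, 15, 7, 11, 1, 13, 5, 9], [0, 1, 7, 6, 3, 2, 4, 5, 10, 11, 13, 12, 9, 8, 14, 15]]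

/-- words reaching the three-cycles -/
def planeCyc : List (List (Fin 3)) := [[2], [2, 2], [1, 2, 1], [1, 2, 2, 1], [0, 2, 0, 0, 0], [2, 1, 0, 1, 0], [1, 0, 2, 1, 0], [0, 0, 0, 2, 0], [2, 2, 1, 2, 0], [0, 2, 1, 0, 1], [0, 1, 0, 2, 1], [2, 0, 2, 2, 1], [2, 1, 2, 0, 2], [0, 2, 2, 1, 2], [0, 1, 0, 1, 0, 0], [1, 2, 0, 2, 0, 0], [0, 0, 1, 0, 1, 0], [2, 0, 0, 1, 2, 0], [0, 0, 2, 1, 2, 0], [2, 2, 1, 2, 2, 0], [2, 0, 2, 0, 0, 1], [0, 0, 0, 1, 0, 1], [2, 0, 0, 0, 2, 1], [0, 0, 1, 2, 0, 2], [2, 1, 2, 2, 0, 2], [0, 2, 0, 0, 1, 2], [0, 0, 0, 2, 1, 2], [2, 2, 1, 2, 1, 2], [2, 0, 2, 2, 1, 2], [2, 1, 2, 1, 2, 2], [2, 0, 1, 0, 1, 0, 0], [1, 2, 0, 2, 1, 0, 0], [2, 2, 0, 2, 1, 0, 0], [0, 2, 0, 1, 0, 1, 0], [0, 2, 1, 2, 0, 1, 0], [0, 1, 2, 0, 2,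 1, 0], [1, 0, 0, 2, 1, 2, 0], [0, 0, 0, 1, 0, 2, 1], [0, 1, 0, 1, 0, 0, 2], [2, 0, 0, 1, 2, 0, 2]]

/-- words reaching the non-identity elements -/
def planeReach : List (List (Fin 3)) := [[], [0], [2, 1, 0], [1, 0], [2, 2, 0], [0, 0, 1, 0], [2, 0], [2, 0, 1, 0], [2, 1], [1, 2, 0], [0, 2, 1], [1], [0, 1, 0], [0, 2, 0], [1, 2, 1]]

/-- the orbit of the two other basis vectors -/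
def planePairs : List (ℕ × ℕ × ℕ × Fin 3) := [(2896, 1345, 0, 0), (1360, 2836, 1, 1), (2884, 1345, 2, 2), (2881, 1348, 2, 0), (2821, 3604, 3, 1), (3754, 238, 4, 2), (1345, 2833, 4, 0), (2836, 3664, 5, 1), (1345, 2896, 6, 2), (2896, 1348, 6, 0), (1360, 3604, 7, 1), (2884, 238, 8, 2), (3589, 1345, 8, 1), (2821, 175, 9, 2), (2836, 3601, 9, 0), (2896, 3652, 10, 1), (3839, 3589, 11, 2), (3754, 250, 11, 0), (187, 1535, 12, 1), (2881, 1360, 13, 2), (1348, 2821, 13, 0), (3604, 1285, 14, 1), (238, 2833, 15, 2), (2833, 3649, 15, 0), (3664, 2833, 16, 1), (2896, 3071, 17, 2), (1348, 2881, 17, 0), (3604, 2821, 18, 1), (238, 3754, 19, 2), (2821, 1345, 19, 1), (3754, 175, 20, 2), (1345, 3601, 20, 0), (2836, 3652, 21, 1), (1345, 3589, 22, 2), (2896,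 250, 22, 0), (1360, 1535, 23, 1), (3604, 1348, 23, 0), (2884, 3604, 24, 1), (2986, 238, 25, 2), (2836, 190, 25, 0), (3839, 235, 26, 2), (2833, 3589, 26, 0), (3664, 1297, 27, 1), (2881, 3664, 27, 0), (2821, 1348, 28, 1), (3754, 3601, 29, 2), (3839, 3604, 29, 0), (238, 2884, 30, 1), (2836, 2986, 31, 2), (3754, 235, 31, 0), (187, 2986, 32, 1), (2881, 190, 33, 2), (175, 1535, 33, 0), (1450, 235, 34, 1), (1285, 1450, 35, 2), (3589, 2836, 35, 1), (175, 3839, 35, 2), (3601, 1300, 35, 0), (3652, 2881, 36, 1), (3589, 1300, 37, 2), (250, 2821, 37, 0), (1535, 1285, 38, 1), (1360, 2833, 39, 2), (2821, 3652, 39, 0), (1285, 3601, 40, 1), (2833, 3664, 41, 2), (3649, 2821, 41, 0), (2833, 1285, 42, 1), (3071, 2833, 43, 2), (2881, 3071, 43, 0), (2821,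 250, 44, 1), (3754, 3649, 45, 2), (1360, 2884, 45, 0), (175, 2821, 46, 2), (3601, 2836, 46, 0), (3652, 2896, 47, 1), (3589, 3839, 48, 2), (250, 3754, 48, 0), (1535, 187, 49, 1), (1360, 2881, 50, 2), (2836, 1348, 50, 0), (2896, 3604, 51, 1), (3839, 238, 52, 2), (3754, 190, 52, 0), (187, 3071, 53, 1), (2881, 235, 54, 2), (1348, 3589, 54, 0), (3604, 1297, 55, 1), (238, 3652, 56, 2), (3664, 1348, 56, 1), (2896, 3601, 57, 2), (1348, 3604, 57, 0), (3604, 2884, 58, 1), (238, 2986, 59, 2), (2821, 2986, 59, 1), (1345, 1535, 59, 0), (2836, 235, 60, 1), (1345, 1450, 61, 2), (3601, 1360, 61, 0), (3652, 1345, 62, 1), (3589, 175, 63, 2), (1360, 3652, 63, 1), (2884, 3589, 64, 2), (2986, 250, 64, 0), (3604, 1360, 65, 2), (2833, 187, 65, 0), (3664,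 3839, 66, 1), (2836, 1297, 66, 2), (1285, 2884, 66, 1), (2833, 2986, 67, 2), (3649, 1285, 67, 0), (2833, 1300, 68, 1), (3071, 250, 69, 2), (2884, 3649, 69, 0), (3589, 2833, 70, 1), (2821, 3071, 71, 2), (2836, 1360, 71, 0), (3839, 175, 72, 2), (3754, 3589, 72, 0), (187, 1297, 73, 1), (2881, 3652, 74, 2), (3839, 3601, 74, 0), (2836, 3589, 75, 2), (250, 2896, 75, 0), (1535, 1360, 76, 1), (3664, 175, 76, 1), (187, 3754, 76, 1), (2881, 1297, 77, 2), (175, 2986, 77, 0), (1450, 175, 78, 1), (1285, 3604, 79, 2), (2884, 187, 79, 0), (190, 1535, 79, 0), (3071, 235, 80, 1), (235, 1450, 81, 2), (1450, 238, 81, 0), (190, 3754, 82, 1), (1535, 1297, 83, 2), (1300, 1450, 83, 0), (1300, 1535, 84, 2), (3604, 2833, 84, 0), (2884, 3664, 85, 1), (2986,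 2896, 86, 2), (190, 3839, 86, 0), (3071, 238, 87, 1), (235, 2836, 88, 2), (3589, 1297, 88, 0), (1297, 3649, 89, 1), (3652, 187, 90, 2), (3664, 2884, 90, 0), (3601, 2821, 91, 2), (2986, 187, 91, 2), (1535, 1300, 90, 0), (235, 2881, 91, 1), (1450, 1300, 92, 2), (1345, 2821, 92, 0), (2836, 1285, 93, 1), (1300, 3589, 92, 0), (1300, 3652, 93, 2), (2821, 3649, 93, 0), (1285, 2833, 94, 1), (2833, 3071, 95, 2), (3652, 2836, 95, 0), (3601, 2896, 96, 1), (2821, 1300, 96, 0), (1285, 2881, 97, 1), (3071, 2821, 97, 0), (250, 1285, 98, 1), (3649, 2833, 99, 2), (2884, 3071, 99, 0), (3589, 250, 100, 1), (2896, 2986, 100, 1), (3839, 190, 101, 2), (3754, 3652, 101, 0), (187, 3601, 102, 1), (1345, 2884, 102, 2), (190, 2836, 102, 0), (3071, 2896, 103,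 1), (235, 3839, 104, 2), (1297, 3664, 104, 1), (3664, 2881, 104, 0), (3601, 3754, 105, 2), (3604, 3839, 105, 0), (2986, 2836, 106, 2), (235, 3754, 106, 0), (190, 2881, 107, 2), (1535, 175, 107, 0), (1450, 1285, 108, 2), (2833, 1360, 107, 0), (3664, 1345, 108, 1), (2896, 175, 109, 2), (2881, 3601, 109, 0), (3839, 250, 109, 0), (238, 1535, 110, 1), (3754, 187, 110, 0), (187, 3839, 111, 1), (175, 3071, 111, 0), (1450, 250, 112, 1), (1285, 3649, 113, 2), (3589, 3754, 113, 1), (2821, 1297, 114, 2), (3601, 1285, 113, 0), (3652, 1300, 114, 1), (250, 3664, 114, 0), (1535, 1348, 115, 1), (1360, 3601, 116, 2), (3649, 1360, 116, 0), (2833, 1345, 117, 1), (3071, 175, 118, 2), (2881, 3589, 118, 0), (1345, 3652, 118, 1), (175, 3589, 119, 2),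 (3652, 1360, 119, 1), (3589, 2884, 120, 2), (250, 2986, 120, 0), (1348, 1535, 119, 0), (3604, 235, 120, 1), (238, 1450, 121, 2), (2833, 238, 121, 0), (3664, 3754, 122, 1), (2896, 1297, 123, 2), (1348, 1450, 123, 0), (3604, 190, 124, 1), (1297, 2836, 124, 1), (3601, 238, 124, 2), (2986, 235, 124, 2), (1345, 3664, 124, 0), (2884, 2986, 124, 2), (3601, 1345, 123, 0), (3649, 3839, 122, 0), (3071, 2836, 123, 2), (3664, 1300, 123, 1), (1300, 2896, 123, 0), (1300, 2884, 124, 2), (1285, 175, 124, 1), (2833, 3604, 125, 2), (3601, 2881, 125, 1), (3649, 190, 124, 2), (2884, 1285, 123, 1), (2986, 2833, 124, 2), (2836, 3071, 124, 0), (3839, 3649, 125, 2), (3664, 2836, 125, 1), (238, 3071, 125, 1), (3754, 3604, 125, 0), (187, 2884, 126, 1), (2881,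 2986, 127, 2), (175, 1285, 127, 0), (1285, 250, 128, 2), (3589, 1348, 128, 1), (2821, 3601, 129, 2), (238, 1297, 129, 1), (2986, 2821, 128, 1), (1535, 1345, 128, 0), (1450, 1345, 129, 2), (175, 3754, 128, 0), (1450, 187, 129, 1), (190, 2986, 128, 0), (235, 3604, 129, 2), (1450, 190, 129, 0), (190, 3071, 130, 1), (1535, 235, 131, 2), (1300, 3601, 131, 0), (1360, 1450, 131, 1), (3649, 1297, 130, 2), (1297, 1535, 130, 2), (3839, 187, 129, 1), (235, 1300, 129, 1), (1297, 1450, 129, 0), (3649, 235, 129, 1), (187, 1450, 130, 2), (3652, 1285, 130, 1), (2896, 3649, 130, 0), (2986, 2881, 130, 0), (3604, 3754, 131, 2), (1348, 2836, 131, 2), (250, 1535, 131, 1), (3754, 3664, 131, 1), (1297, 2896, 132, 2), (2884, 1300, 132, 1), (1285, 3652,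 132, 0), (3649, 2896, 131, 0), (3071, 2884, 132, 2), (3652, 3839, 132, 2), (2986, 175, 132, 0), (175, 1450, 133, 1), (235, 3649, 133, 1), (1297, 2821, 133, 2), (1450, 1297, 133, 0), (190, 3649, 134, 1), (3604, 2896, 134, 1), (238, 3839, 135, 2), (2896, 1300, 135, 2), (1297, 3604, 135, 0), (3649, 2884, 136, 1), (3649, 1348, 136, 1), (3839, 3664, 136, 2), (1300, 2821, 136, 0), (2881, 1285, 137, 1), (1300, 2833, 138, 2), (1348, 3664, 137, 1), (3589, 2881, 137, 0), (3652, 3754, 138, 2), (190, 1300, 135, 2), (3652, 2821, 135, 0), (1360, 250, 135, 1), (2986, 190, 135, 2), (187, 1348, 133, 1), (1348, 2896, 132, 0), (187, 2833, 132, 0), (3071, 2881, 132, 0), (3649, 3754, 133, 2), (250, 3071, 132, 2), (1297, 187, 131, 1), (3601, 3839, 131,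 0), (3652, 238, 132, 1), (175, 3664, 132, 1), (1297, 2881, 132, 2), (1535, 190, 131, 0), (235, 3071, 132, 1), (1285, 2836, 131, 1), (1300, 3664, 122, 2), (1348, 3649, 119, 1), (3601, 187, 120, 2), (235, 1345, 119, 1), (3071, 190, 116, 0), (238, 3601, 115, 2), (190, 3604, 115, 0), (235, 2986, 116, 2), (2986, 2884, 115, 2), (1345, 235, 114, 1), (250, 1450, 113, 0), (1285, 1535, 113, 1), (1345, 190, 111, 1), (1360, 175, 106, 1), (3071, 187, 103, 2), (1300, 190, 101, 0), (1300, 235, 102, 2), (1297, 3589, 101, 1), (3664, 250, 98, 1), (3839, 3652, 98, 0), (1535, 250, 97, 1), (1360, 3649, 98, 2), (187, 3652, 98, 1), (175, 2896, 98, 0), (1450, 1360, 99, 1), (1450, 1348, 91, 0), (1535, 238, 92, 2), (190, 1450, 91, 1), (235, 1535, 72, 0),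 (250, 1360, 67, 1), (1348, 238, 67, 1), (250, 3839, 64, 2), (250, 3589, 59, 2), (1348, 187, 51, 1), (175, 1360, 47, 0), (1297, 238, 41, 1), (238, 1348, 32, 0), (190, 1345, 11, 1)]

/-- the first pair -/
def planeRootPair : ℕ × ℕ := (2884, 1360)

/-- the pairs in increasing order -/
def planeKeys : List ℕ := [718085, 718160, 718250, 718335, 719621, 719696, 719786, 719871, 720389, 720464, 720554, 720639, 767249, 767300, 767402, 767487, 768785, 768836, 768938, 769023, 769553, 769604, 769706, 769791, 779540, 779585, 779690, 779775, 781076, 781121, 781226, 781311, 781844, 781889, 781994, 782079, 963860, 963905, 964010, 964095, 965396, 965441, 965546, 965631, 966164, 966209, 966314, 966399, 976145, 976196, 976298, 976383, 977681, 977732,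 977834, 977919, 978449, 978500, 978602, 978687, 1025285, 1025360, 1025450, 1025535, 1026821, 1026896, 1026986, 1027071, 1027589, 1027664, 1027754, 1027839, 5263535, 5263610, 5264810, 5264895, 5266193, 5266196, 5266241, 5266244, 5266961, 5266964, 5267009, 5267012, 5312699, 5312750, 5313962, 5314047, 5315333, 5315348, 5315393, 5315408, 5316101, 5316116, 5316161, 5316176, 5324990, 5325035, 5326250, 5326335, 5327621, 5327633, 5327684, 5327696, 5328389, 5328401, 5328452, 5328464, 5509310, 5509355, 5510570, 5510655, 5511941, 5511953, 5512004, 5512016, 5512709, 5512721, 5512772, 5512784, 5521595, 5521646, 5522858, 5522943, 5524229, 5524244, 5524289, 5524304, 5524997, 5525012, 5525057, 5525072, 5570735, 5570810, 5572010, 5572095, 5573393,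 5573396, 5573441, 5573444, 5574161, 5574164, 5574209, 5574212, 5939375, 5939387, 5939390, 5939435, 5939438, 5939450, 5940485, 5940497, 5940500, 5940545, 5940548, 5940560, 6287535, 6287547, 6287550, 6287595, 6287598, 6287610, 6288645, 6288657, 6288660, 6288705, 6288708, 6288720, 11554991, 11555066, 11556113, 11556116, 11556161, 11556164, 11557802, 11557887, 11558417, 11558420, 11558465, 11558468, 11604155, 11604206, 11605253, 11605268, 11605313, 11605328, 11606954, 11607039, 11607557, 11607572, 11607617, 11607632, 11616446, 11616491, 11617541, 11617553, 11617604, 11617616, 11619242, 11619327, 11619845, 11619857, 11619908, 11619920, 11800766, 11800811, 11801861, 11801873, 11801924, 11801936, 11803562, 11803647, 11804165, 11804177,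 11804228, 11804240, 11813051, 11813102, 11814149, 11814164, 11814209, 11814224, 11815850, 11815935, 11816453, 11816468, 11816513, 11816528, 11862191, 11862266, 11863313, 11863316, 11863361, 11863364, 11865002, 11865087, 11865617, 11865620, 11865665, 11865668, 12230831, 12230843, 12230846, 12230891, 12230894, 12230906, 12233477, 12233489, 12233492, 12233537, 12233540, 12233552, 12578991, 12579003, 12579006, 12579051, 12579054, 12579066, 12581637, 12581649, 12581652, 12581697, 12581700, 12581712, 14700719, 14700794, 14701841, 14701844, 14701889, 14701892, 14703377, 14703380, 14703425, 14703428, 14704298, 14704383, 14749883, 14749934, 14750981, 14750996, 14751041, 14751056, 14752517, 14752532, 14752577, 14752592, 14753450, 14753535,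 14762174, 14762219, 14763269, 14763281, 14763332, 14763344, 14764805, 14764817, 14764868, 14764880, 14765738, 14765823, 14946494, 14946539, 14947589, 14947601, 14947652, 14947664, 14949125, 14949137, 14949188, 14949200, 14950058, 14950143, 14958779, 14958830, 14959877, 14959892, 14959937, 14959952, 14961413, 14961428, 14961473, 14961488, 14962346, 14962431, 15007919, 15007994, 15009041, 15009044, 15009089, 15009092, 15010577, 15010580, 15010625, 15010628, 15011498, 15011583, 15376559, 15376571, 15376574, 15376619, 15376622, 15376634, 15379973, 15379985, 15379988, 15380033, 15380036, 15380048, 15724719, 15724731, 15724734, 15724779, 15724782, 15724794, 15728133, 15728145, 15728148, 15728193, 15728196, 15728208]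

end CfsgLib.ThreeTrans.LargeFischer
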