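import Cfsg.Agent.Lib.ThreeTrans.LargeFischer.StabB
import Cfsg.Agent.Lib.ThreeTrans.LargeFischer.PlaneData

/-!
The plane fixed by an elementary group of order sixteen of the triple cover
(owner: helper28).
-/

set_option autoImplicit false
set_option maxRecDepth 100000
set_option maxHeartbeats 1000000
set_option Elab.async false

namespace CfsgLib.ThreeTrans.LargeFischer

open Matrix Cfsg Equiv
open CfsgLib.Recog.SporBound.Fi22U6 (F4)
open CfsgLib.Sporadic.U43Triple

/-- The sixteen elements as literals. -/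
def uaLit (n : Fin 16) : Mat := rows (planeRows.getD n.1 [])

/-- The projection onto the plane. -/
def projW : Mat := rows planeProjRows

/-- The projection along the plane. -/
def pmW : Mat := rows planePmRows

/-- The plane. -/
def InW (v : V6) : Prop := pmW *ᵥ v = 0

instance : DecidablePred InW := fun _ => inferInstanceAs (Decidable (_ = _))

/-- The basis of the plane. -/
def bW (k : Fin 3) : V6 := fun i => F4.ofNat4 ((planeBasisRows.getD k.1 []).getD i.1 0)

/-- The vector with given coefficients. -/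
def wVec (a b c : F4) : V6 := a • bW 0 + b • bW 1 + c • bW 2

theorem pm_eq : pmW = 1 + projW ∧ projW * projW = projW := by decide +kernel

theorem inW_iff (v : V6) : InW v ↔ projW *ᵥ v = v := by
  have key : ∀ a b : F4, a + b = 0 ↔ b = a := by decide +kernel
  rw [InW, pm_eq.1, Matrix.add_mulVec, Matrix.one_mulVec, funext_iff, funext_iff]
  exact forall_congr' fun i => key _ _

theorem inW_proj (v : V6) : InW (projW *ᵥ v) := by
  rw [inW_iff, Matrix.mulVec_mulVec, pm_eq.2]

theorem inW_add {u v : V6} (hu : InW u) (hv : InW v) : InW (u + v) := by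
  rw [InW, Matrix.mulVec_add, hu, hv, add_zero]

theorem inW_smul {v : V6} (a : F4) (hv : InW v) : InW (a • v) := by
  rw [InW, Matrix.mulVec_smul, hv, smul_zero]

theorem inW_zero : InW 0 := Matrix.mulVec_zero _

theorem inW_wVec : ∀ a b c, InW (wVec a b c) := by decide +kernel

theorem bW_mem : ∀ k, InW (bW k) := by decide +kernel

theorem rootB_mem : InW rootB := by decide +kernel

theorem proj_eq : projW = Matrix.of fun (i j : Fin 6) => if h : j.1 < 3 then bW ⟨j.1, h⟩ i else 0 := by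
  decide +kernel

theorem inW_param {v : V6} (h : InW v) : v = wVec (v 0) (v 1) (v 2) := by
  rw [inW_iff] at h
  nth_rw 1 [← h]
  funext i
  simp [wVec, Matrix.mulVec, dotProduct, Fin.sum_univ_six, proj_eq, mul_comm]

theorem inW_cases {p : V6 → Prop} (hp : ∀ a b c, p (wVec a b c)) {v : V6} (h : InW v) : p v :=
  (inW_param h).symm ▸ hp _ _ _

theorem outV_inW : ∀ a b c, InW (outV (true, true) (wVec a b c)) := by decide +kernel

/-! ### The elementary group -/

theorem ua_chain : ∀ i : Fin 4,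
    chainOK sLit (planeSteps.getD i.1 []) 1 (uaLit ⟨2 ^ i.1 % 16, Nat.mod_lt _ (by norm_num)⟩) = true := by
  decide +kernel

theorem uaLit_mul0 : ∀ a : Fin 2, ∀ b, uaLit ⟨2 * 0 + a.1, by omega⟩ * uaLit b = uaLit (uAdd ⟨2 * 0 + a.1, by omega⟩ b) := by
  decide +kernel

theorem uaLit_mul1 : ∀ a : Fin 2, ∀ b, uaLit ⟨2 * 1 + a.1, by omega⟩ * uaLit b = uaLit (uAdd ⟨2 * 1 + a.1, by omega⟩ b) := by
  decide +kernel

theorem uaLit_mul2 : ∀ a : Fin 2, ∀ b, uaLit ⟨2 * 2 + a.1, by omega⟩ * uaLit b = uaLit (uAdd ⟨2 * 2 + a.1, by omega⟩ b) := by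
  decide +kernel

theorem uaLit_mul3 : ∀ a : Fin 2, ∀ b, uaLit ⟨2 * 3 + a.1, by omega⟩ * uaLit b = uaLit (uAdd ⟨2 * 3 + a.1, by omega⟩ b) := by
  decide +kernel

theorem uaLit_mul4 : ∀ a : Fin 2, ∀ b, uaLit ⟨2 * 4 + a.1, by omega⟩ * uaLit b = uaLit (uAdd ⟨2 * 4 + a.1, by omega⟩ b) := by
  decide +kernel

theorem uaLit_mul5 : ∀ a : Fin 2, ∀ b, uaLit ⟨2 * 5 + a.1, by omega⟩ * uaLit b = uaLit (uAdd ⟨2 * 5 + a.1, by omega⟩ b) := by
  decide +kernel

theorem uaLit_mul6 : ∀ a : Fin 2, ∀ b, uaLit ⟨2 * 6 + a.1, by omega⟩ * uaLit b = uaLit (uAdd ⟨2 * 6 + a.1, by omega⟩ b) := by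
  decide +kernel

theorem uaLit_mul7 : ∀ a : Fin 2, ∀ b, uaLit ⟨2 * 7 + a.1, by omega⟩ * uaLit b = uaLit (uAdd ⟨2 * 7 + a.1, by omega⟩ b) := by
  decide +kernel

theorem uaLit_mul (a b : Fin 16) : uaLit a * uaLit b = uaLit (uAdd a b) := by
  obtain ⟨k, r, rfl⟩ : ∃ (k : Fin 8) (r : Fin 2), a = ⟨2 * k.1 + r.1, by omega⟩ :=
    ⟨⟨a.1 / 2, by omega⟩, ⟨a.1 % 2, by omega⟩, Fin.ext (by show a.1 = 2 * (a.1 / 2) + a.1 % 2; omega)⟩
  fin_cases k
  · exact uaLit_mul0 r b
  · exact uaLit_mul1 r b
  · exact uaLit_mul2 r b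
  · exact uaLit_mul3 r b
  · exact uaLit_mul4 r b
  · exact uaLit_mul5 r b
  · exact uaLit_mul6 r b
  · exact uaLit_mul7 r b

theorem uaLit_zero : uaLit 0 = 1 := by decide +kernel

theorem uaLit_injective : ∀ a b, uaLit a = uaLit b → a = b := by decide +kernel

theorem uaLit_proj : ∀ n, uaLit n * projW = projW := by decide +kernel

theorem exists_uaElt (n : Fin 16) : ∃ g ∈ genGroup, mat g = uaLit n := by
  have hb : ∀ i : Fin 4, ∃ g ∈ genGroup, mat g = uaLit ⟨2 ^ i.1 % 16, Nat.mod_lt _ (by norm_num)⟩ := fun i =>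
    chainOK_spec (H := genGroup) mat_sElt (fun k => Subgroup.subset_closure ⟨k, rfl⟩) _ 1 _ (one_mem _)
      (by rw [mat_one]; exact ua_chain i)
  have hadd : ∀ a b, (∃ g ∈ genGroup, mat g = uaLit a) → (∃ g ∈ genGroup, mat g = uaLit b) →
      ∃ g ∈ genGroup, mat g = uaLit (uAdd a b) := by
    rintro a b ⟨g, hg, eg⟩ ⟨k, hk, ek⟩
    exact ⟨g * k, mul_mem hg hk, by rw [mat_mul, eg, ek, uaLit_mul]⟩
  have h0 : ∃ g ∈ genGroup, mat g = uaLit 0 := ⟨1, one_mem _, by rw [mat_one, uaLit_zero]⟩
  have hc : ∀ c : Bool, ∀ i : Fin 4,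
      ∃ g ∈ genGroup, mat g = uaLit (if c then ⟨2 ^ i.1 % 16, Nat.mod_lt _ (by norm_num)⟩ else 0) := by
    intro c i; cases c
    · exact h0
    · exact hb i
  rw [bit_decomp n]
  exact hadd _ _ (hadd _ _ (hc _ 0) (hc _ 1)) (hadd _ _ (hc _ 2) (hc _ 3))

/-- An element of the elementary group. -/
noncomputable def uaElt (n : Fin 16) : G := (exists_uaElt n).choose

theorem mat_uaElt (n : Fin 16) : mat (uaElt n) = uaLit n := (exists_uaElt n).choose_spec.2

theorem uaElt_triple (n : Fin 16) : uaElt n ∈ triple :=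
  (stabB_eq ▸ (exists_uaElt n).choose_spec.1 : uaElt n ∈ stabB).1

theorem uaElt_mul (a b : Fin 16) : uaElt a * uaElt b = uaElt (uAdd a b) :=
  mat_injective (by rw [mat_mul, mat_uaElt, mat_uaElt, mat_uaElt, uaLit_mul])

theorem uaElt_zero : uaElt 0 = 1 := mat_injective (by rw [mat_uaElt, uaLit_zero, mat_one])

theorem uaElt_injective : Function.Injective uaElt := fun a b h =>
  uaLit_injective a b (by rw [← mat_uaElt, ← mat_uaElt, h])

theorem uAdd_comm : ∀ a b, uAdd a b = uAdd b a := by decide +kernel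

theorem uaElt_comm (a b : Fin 16) : uaElt a * uaElt b = uaElt b * uaElt a := by
  rw [uaElt_mul, uaElt_mul, uAdd_comm]

theorem uaElt_fix (n : Fin 16) {v : V6} (h : InW v) : mat (uaElt n) *ᵥ v = v := by
  rw [inW_iff] at h
  rw [mat_uaElt, ← h, Matrix.mulVec_mulVec, uaLit_proj]

/-! ### The pointwise stabiliser -/

/-- The stabiliser of the plane. -/
def stabW : Subgroup G where
  carrier := {t | t ∈ triple ∧ ∀ v, InW (mat t *ᵥ v) ↔ InW v}
  one_mem' := ⟨one_mem _, fun v => by rw [mat_one, Matrix.one_mulVec]⟩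
  mul_mem' := fun {s t} hs ht => ⟨mul_mem hs.1 ht.1, fun v => by
    rw [mat_mul, ← Matrix.mulVec_mulVec, hs.2, ht.2]⟩
  inv_mem' := fun {s} hs => ⟨inv_mem hs.1, fun v => by
    rw [← hs.2, Matrix.mulVec_mulVec, ← mat_mul, mul_inv_cancel, mat_one, Matrix.one_mulVec]⟩

theorem mem_stabW_of {t : G} (ht : t ∈ triple) (h : pmW * mat t * projW = 0) : t ∈ stabW := by
  have hfw : ∀ v, InW v → InW (mat t *ᵥ v) := fun v hv => by
    rw [inW_iff] at hv
    rw [InW, ← hv, Matrix.mulVec_mulVec, Matrix.mulVec_mulVec, h, Matrix.zero_mulVec]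
  refine ⟨ht, fun v => ⟨fun hv => ?_, hfw v⟩⟩
  have hinj : Function.Injective fun w : {w // InW w} => (⟨mat t *ᵥ w.1, hfw _ w.2⟩ : {w // InW w}) :=
    fun a b e => Subtype.ext (mul_mat_injective (star_mul_self t) (congrArg Subtype.val e))
  obtain ⟨w, hw⟩ := (Finite.injective_iff_surjective.1 hinj) ⟨_, hv⟩
  have : w.1 = v := mul_mat_injective (star_mul_self t) (congrArg Subtype.val hw)
  exact this ▸ w.2

/-- The pointwise stabiliser of the plane. -/
def fixW : Subgroup G where
  carrier := {t | t ∈ triple ∧ ∀ v, InW v → mat t *ᵥ v = v}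
  one_mem' := ⟨one_mem _, fun v _ => by rw [mat_one, Matrix.one_mulVec]⟩
  mul_mem' := fun {s t} hs ht => ⟨mul_mem hs.1 ht.1, fun v hv => by
    rw [mat_mul, ← Matrix.mulVec_mulVec, ht.2 v hv, hs.2 v hv]⟩
  inv_mem' := fun {s} hs => ⟨inv_mem hs.1, fun v hv => by
    nth_rw 1 [← hs.2 v hv]
    rw [Matrix.mulVec_mulVec, ← mat_mul, inv_mul_cancel, mat_one, Matrix.one_mulVec]⟩

theorem fixW_le : fixW ≤ stabB := fun _ ht => ⟨ht.1, ht.2 _ rootB_mem⟩

theorem fixW_le_stabW : fixW ≤ stabW := fun t ht => by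
  refine ⟨ht.1, fun v => ⟨fun hv => ?_, fun hv => by rwa [ht.2 v hv]⟩⟩
  have e := ht.2 _ hv
  rwa [mul_mat_injective (star_mul_self t) e] at hv

theorem uaElt_mem (n : Fin 16) : uaElt n ∈ fixW := ⟨uaElt_triple n, fun _ => uaElt_fix n⟩

/-- Growing the orbit of the pair of the two other basis vectors. -/
def growPairs : List (ℕ × ℕ × ℕ × Fin 3) → List (ℕ × ℕ) → Option (List (ℕ × ℕ))
  | [], acc => some acc
  | (y1, y2, d, k) :: t, acc =>
    match acc[d]? with
    | none => none
    | some p =>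
      if Nat.beq (code (sLit k *ᵥ vec6 p.1)) y1 && Nat.beq (code (sLit k *ᵥ vec6 p.2)) y2 then
        growPairs t ((y1, y2) :: acc)
      else none

/-- The orbit is complete. -/
def pairsOK : Bool :=
  match growPairs planePairs [planeRootPair] with
  | none => false
  | some acc => planeKeys.all fun n => acc.any fun p => Nat.beq (p.1 * 4096 + p.2) n

theorem pairs_ok : pairsOK = true := by decide +kernel

theorem root_pair : planeRootPair = (code (bW 1), code (bW 2)) := by decide +kernel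

theorem keys_ok : planeKeys.length = 360 ∧ planeKeys.IsChain (· < ·) := by decide +kernel

/-- A pair reached by the stabiliser of the root. -/
def InOrb (p : ℕ × ℕ) : Prop :=
  ∃ g ∈ stabB, code (mat g *ᵥ bW 1) = p.1 ∧ code (mat g *ᵥ bW 2) = p.2

theorem grow_spec : ∀ (l : List (ℕ × ℕ × ℕ × Fin 3)) acc acc', growPairs l acc = some acc' →
    (∀ p ∈ acc, InOrb p) → ∀ p ∈ acc', InOrb p := by
  intro l
  induction l with
  | nil => intro acc acc' h hacc; simp only [growPairs, Option.some.injEq] at h; exact h ▸ hacc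
  | cons a t ih =>
    obtain ⟨y1, y2, d, k⟩ := a
    intro acc acc' h hacc
    rw [growPairs] at h
    split at h
    · exact absurd h (by simp)
    · rename_i p hp
      split_ifs at h with hc
      simp only [Bool.and_eq_true, Nat.beq_eq] at hc
      refine ih _ _ h fun q hq => ?_
      rcases List.mem_cons.1 hq with rfl | hq
      · obtain ⟨g, hg, e1, e2⟩ := hacc p (List.mem_of_getElem? hp)
        refine ⟨sElt k * g, mul_mem (genGroup_le (Subgroup.subset_closure ⟨k, rfl⟩)) hg, ?_, ?_⟩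
        · rw [mat_mul, ← Matrix.mulVec_mulVec, mat_sElt, ← (code_vec (mat g *ᵥ bW 1)).2, e1, hc.1]
        · rw [mat_mul, ← Matrix.mulVec_mulVec, mat_sElt, ← (code_vec (mat g *ᵥ bW 2)).2, e2, hc.2]
      · exact hacc q hq

theorem card_fixW_le : Nat.card ↥fixW ≤ 16 := by
  have hall : ∀ i : Fin 360, ∃ g ∈ stabB,
      code (mat g *ᵥ bW 1) * 4096 + code (mat g *ᵥ bW 2) = planeKeys[i.1]'(by rw [keys_ok.1]; exact i.2) := by
    intro i
    have h := pairs_ok
    unfold pairsOK at h
    split at h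
    · simp at h
    · rename_i acc hacc
      have h1 := List.all_eq_true.1 h _ (List.getElem_mem (by rw [keys_ok.1]; exact i.2 : i.1 < planeKeys.length))
      obtain ⟨p, hp, e⟩ := List.any_eq_true.1 h1
      obtain ⟨g, hg, e1, e2⟩ := grow_spec _ _ _ hacc (fun p hp => by
        rw [List.mem_singleton] at hp
        exact ⟨1, one_mem _, by rw [hp, mat_one, Matrix.one_mulVec, root_pair],
          by rw [hp, mat_one, Matrix.one_mulVec, root_pair]⟩) p hp
      exact ⟨g, hg, by rw [e1, e2]; exact Nat.eq_of_beq_eq_true e⟩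
  choose g hg hkey using hall
  let f : Fin 360 × ↥fixW → ↥stabB := fun x => ⟨g x.1 * x.2.1, mul_mem (hg x.1) (fixW_le x.2.2)⟩
  have hf : Function.Injective f := by
    rintro ⟨i, k⟩ ⟨j, l⟩ e
    have e' : g i * k.1 = g j * l.1 := congrArg Subtype.val e
    have him : ∀ (i : Fin 360) (k : ↥fixW), code (mat (g i * k.1) *ᵥ bW 1) * 4096 + code (mat (g i * k.1) *ᵥ bW 2)
        = planeKeys[i.1]'(by rw [keys_ok.1]; exact i.2) := fun i k => by
      rw [mat_mul, ← Matrix.mulVec_mulVec, ← Matrix.mulVec_mulVec, k.2.2 _ (bW_mem 1), k.2.2 _ (bW_mem 2), hkey]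
    have h1 := him i k
    rw [e', him j l] at h1
    have hij : i = j := Fin.ext
      (((List.Pairwise.nodup (List.IsChain.pairwise keys_ok.2)).getElem_inj_iff).1 h1).symm
    subst hij
    exact Prod.ext rfl (Subtype.ext (mul_left_cancel e'))
  have h := Nat.card_le_card_of_injective f hf
  rw [Nat.card_prod, Nat.card_fin, card_stabB] at h
  omega

/-- The elements fixing the plane pointwise are the sixteen. -/
theorem fixW_eq {t : G} (ht : t ∈ fixW) : ∃ n, t = uaElt n := by
  have hinj : Function.Injective fun n => (⟨uaElt n, uaElt_mem n⟩ : ↥fixW) :=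
    fun a b e => uaElt_injective (congrArg Subtype.val e)
  have hle := Nat.card_le_card_of_injective _ hinj
  have hle' := card_fixW_le
  rw [Nat.card_fin] at hle
  have hb := (Nat.bijective_iff_injective_and_card _).2 ⟨hinj, by rw [Nat.card_fin]; omega⟩
  obtain ⟨n, hn⟩ := hb.2 ⟨t, ht⟩
  exact ⟨n, (congrArg Subtype.val hn).symm⟩

theorem card_fixW : Nat.card ↥fixW = 16 := by
  have hle := Nat.card_le_card_of_injective (fun n => (⟨uaElt n, uaElt_mem n⟩ : ↥fixW))
    fun a b e => uaElt_injective (congrArg Subtype.val e)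
  have := card_fixW_le
  rw [Nat.card_fin] at hle
  omega

/-! ### The form -/

/-- The conjugated basis as a matrix. -/
def hermW : Mat := rows planeHermRows

theorem herm_cert : rows planeHermCert * hermW = pmW := by decide +kernel

theorem herm_eq : hermW = Matrix.of fun (i j : Fin 6) => if h : i.1 < 3 then cj (bW ⟨i.1, h⟩ j) else 0 := by
  decide +kernel

theorem inW_of_perp {v : V6} (h : ∀ k, hf v (bW k) = 0) : InW v := by
  have h0 : hermW *ᵥ v = 0 := by
    funext i
    show ∑ j, hermW i j * v j = 0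
    by_cases hi : i.1 < 3
    · rw [← h ⟨i.1, hi⟩, hf_eq]
      exact Finset.sum_congr rfl fun j _ => by rw [herm_eq, Matrix.of_apply, dif_pos hi, mul_comm]
    · exact Finset.sum_eq_zero fun j _ => by rw [herm_eq, Matrix.of_apply, dif_neg hi, zero_mul]
  rw [InW, ← herm_cert, ← Matrix.mulVec_mulVec, h0, Matrix.mulVec_zero]

theorem proj_isotropic : projWᵀ * (Matrix.of fun i j => cj (projW i j)) = (0 : Mat) := by decide +kernel

theorem hf_inW {u v : V6} (hu : InW u) (hv : InW v) : hf u v = 0 := by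
  rw [inW_iff] at hu hv
  rw [← hu, ← hv, hf_dot, cj_mulVec, Matrix.dotProduct_mulVec, ← Matrix.vecMul_transpose, Matrix.vecMul_vecMul,
    proj_isotropic, Matrix.vecMul_zero, zero_dotProduct]

/-- A vector meeting the plane in real values only lies in it. -/
theorem inW_of_real {v : V6} (h : ∀ w, InW w → cj (hf v w) = hf v w) : InW v := by
  refine inW_of_perp fun k => ?_
  have key : ∀ a : F4, cj a = a → cj (cj F4.om * a) = cj F4.om * a → a = 0 := by decide +kernel
  refine key _ (h _ (bW_mem k)) ?_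
  have e : hf v (F4.om • bW k) = cj F4.om * hf v (bW k) := by
    rw [hf_eq, hf_eq, Finset.mul_sum]
    exact Finset.sum_congr rfl fun i _ => by rw [Pi.smul_apply, smul_eq_mul, cj_mul, mul_left_comm]
  rw [← e]
  exact h _ (inW_smul _ (bW_mem k))

/-! ### Two elements determine the plane -/

/-- All certificates. -/
def planeCerts : List (ℕ × ℕ × List (List ℕ) × List (List ℕ)) :=
  planeCerts0 ++ planeCerts1 ++ planeCerts2 ++ planeCerts3 ++ planeCerts4 ++ planeCerts5 ++ planeCerts6

/-- Checking a certificate. -/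
def certOK (e : ℕ × ℕ × List (List ℕ) × List (List ℕ)) : Bool :=
  decide (rows e.2.2.1 * (rows (planeRows.getD e.1 []) + 1) + rows e.2.2.2 * (rows (planeRows.getD e.2.1 []) + 1) = pmW)

theorem certs_ok0 : planeCerts0.all certOK = true := by decide +kernel

theorem certs_ok1 : planeCerts1.all certOK = true := by decide +kernel

theorem certs_ok2 : planeCerts2.all certOK = true := by decide +kernel

theorem certs_ok3 : planeCerts3.all certOK = true := by decide +kernel

theorem certs_ok4 : planeCerts4.all certOK = true := by decide +kernel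

theorem certs_ok5 : planeCerts5.all certOK = true := by decide +kernel

theorem certs_ok6 : planeCerts6.all certOK = true := by decide +kernel

theorem certs_cover : ∀ a b : Fin 16, a ≠ 0 → b ≠ 0 → a < b →
    planeCerts.any (fun e => Nat.beq e.1 a.1 && Nat.beq e.2.1 b.1) = true := by decide +kernel

theorem common_fix_lt {a b : Fin 16} (ha : a ≠ 0) (hb : b ≠ 0) (hab : a < b) {v : V6}
    (h1 : mat (uaElt a) *ᵥ v = v) (h2 : mat (uaElt b) *ᵥ v = v) : InW v := by
  obtain ⟨e, he, hk⟩ := List.any_eq_true.1 (certs_cover a b ha hb hab)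
  simp only [Bool.and_eq_true, Nat.beq_eq] at hk
  have hall : planeCerts.all certOK = true := by
    simp only [planeCerts, List.all_append, certs_ok0, certs_ok1, certs_ok2, certs_ok3, certs_ok4, certs_ok5,
      certs_ok6, Bool.and_self]
  have h := of_decide_eq_true (List.all_eq_true.1 hall e he)
  rw [hk.1, hk.2] at h
  change rows e.2.2.1 * (uaLit a + 1) + rows e.2.2.2 * (uaLit b + 1) = pmW at h
  have key : ∀ x : F4, x + x = 0 := by decide +kernel
  have hz : ∀ n, mat (uaElt n) *ᵥ v = v → (uaLit n + 1) *ᵥ v = 0 := fun n hn => by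
    rw [Matrix.add_mulVec, Matrix.one_mulVec, ← mat_uaElt, hn]
    exact funext fun i => key _
  rw [InW, ← h, Matrix.add_mulVec, ← Matrix.mulVec_mulVec, ← Matrix.mulVec_mulVec, hz a h1, hz b h2,
    Matrix.mulVec_zero, Matrix.mulVec_zero, add_zero]

theorem common_fix {a b : Fin 16} (ha : a ≠ 0) (hb : b ≠ 0) (hab : a ≠ b) {v : V6}
    (h1 : mat (uaElt a) *ᵥ v = v) (h2 : mat (uaElt b) *ᵥ v = v) : InW v := by
  rcases lt_or_gt_of_ne hab with h | h
  · exact common_fix_lt ha hb h h1 h2
  · exact common_fix_lt hb ha h h2 h1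

end CfsgLib.ThreeTrans.LargeFischer
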