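import Cfsg.Agent.Lib.ThreeTrans.LargeFischer.Thompson

/-!
The normaliser of the Thompson subgroup: transitivity on conjugates of the central involution, its order, and
primes dividing it (owner: helper28).
-/

set_option autoImplicit false
set_option maxHeartbeats 1000000
set_option maxRecDepth 100000
set_option linter.unusedSectionVars false

namespace CfsgLib.ThreeTrans.LargeFischer

open Matrix Cfsg
open CfsgLib.Recog.SporBound.Fi22U6 (F4)
open CfsgLib.Sporadic.U43Triple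

theorem card_stabW : Nat.card ↥stabW = 17280 := by
  classical
  have hmem : ∀ p : {a : F4 // a ≠ 0} × Fin 16, scal p.1.1 p.1.2 * uaElt p.2 ∈ stabW := fun p =>
    mul_mem (scal_stabW _ _) (fixW_le_stabW (uaElt_mem _))
  let f : {a : F4 // a ≠ 0} × Fin 16 → ↥hexHom.ker := fun p => ⟨⟨_, hmem p⟩, MonoidHom.mem_ker.2
    (movesP_unique (hexHom_spec _) fun i v hv => by
      obtain ⟨b, hb, rfl⟩ := inP_line hv
      show InP i (mat (scal p.1.1 p.1.2 * uaElt p.2) *ᵥ (b • ptRep i))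
      rw [mat_mul, ← Matrix.mulVec_mulVec, uaElt_fix _ (inW_smul _ (pts_class i).1), mat_scal, smul_smul]
      exact pts_scal i _ (mul_ne_zero p.1.2 hb))⟩
  have hf : Function.Bijective f := by
    constructor
    · rintro ⟨⟨a, ha⟩, n⟩ ⟨⟨b, hb⟩, m⟩ e
      have e' : scal a ha * uaElt n = scal b hb * uaElt m := congrArg (fun x : ↥hexHom.ker => x.1.1) e
      have h1 := congrArg (fun g => mat g *ᵥ bW 0) e'
      simp only [mat_mul, ← Matrix.mulVec_mulVec, uaElt_fix _ (bW_mem 0), mat_scal] at h1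
      have key : ∀ a b : F4, a • bW 0 = b • bW 0 → a = b := by decide +kernel
      obtain rfl := key a b h1
      exact Prod.ext rfl (uaElt_injective (mul_left_cancel e'))
    · rintro ⟨x, hx⟩
      obtain ⟨a, ha, n, hn⟩ := hexHom_eq_one hx
      exact ⟨(⟨a, ha⟩, n), Subtype.ext (Subtype.ext hn.symm)⟩
  rw [Subgroup.card_eq_card_quotient_mul_card_subgroup hexHom.ker,
    Nat.card_congr (QuotientGroup.quotientKerEquivRange hexHom).toEquiv, hexHom_range,
    ← Nat.card_congr (Equiv.ofBijective f hf), Nat.card_prod, Nat.card_fin, nat_card_alternatingGroup, Nat.card_fin,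
    Nat.card_eq_fintype_card (α := {a : F4 // a ≠ 0}), Fintype.card_subtype]
  rfl

namespace Coord

variable {G : Type*} [Group G] [Finite G] {z : G} {Q : Subgroup G} (F : Coord z Q)

/-- The Thompson subgroup as a subgroup of the whole group. -/
def bigG : Subgroup G := F.bigA.map (Subgroup.centralizer ({z} : Set G)).subtype

/-- Its normaliser. -/
def bigN : Subgroup G := Subgroup.normalizer (F.bigG : Set G)

variable (hg : ∃ g : G, g * z * g⁻¹ ∈ Q ∧ g * z * g⁻¹ ≠ z)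
include hg

omit hg in
theorem mem_bigG {a : G} : a ∈ F.bigG ↔ ∃ h : a ∈ Subgroup.centralizer ({z} : Set G),
    (⟨a, h⟩ : ↥(Subgroup.centralizer ({z} : Set G))) ∈ F.bigA :=
  ⟨by rintro ⟨c, hc, rfl⟩; exact ⟨c.2, hc⟩, fun ⟨h, hc⟩ => ⟨⟨a, h⟩, hc, rfl⟩⟩

theorem bigA_comm {a b : ↥(Subgroup.centralizer ({z} : Set G))} (ha : a ∈ F.bigA) (hb : b ∈ F.bigA) :
    a * b = b * a := by
  have hi : ∀ x ∈ F.bigA, x⁻¹ = x := fun x hx => inv_eq_of_mul_eq_one_left (F.bigA_sq hg hx)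
  rw [← hi _ (mul_mem ha hb), _root_.mul_inv_rev, hi b hb, hi a ha]

theorem bigG_elementary : Cfsg.IsElementaryAbelian 2 F.bigG := by
  refine ⟨⟨⟨fun a b => ?_⟩⟩, fun a ha => ?_⟩
  · obtain ⟨ha, ha'⟩ := F.mem_bigG.1 a.2
    obtain ⟨hb, hb'⟩ := F.mem_bigG.1 b.2
    exact Subtype.ext (congrArg Subtype.val (F.bigA_comm hg ha' hb') :)
  · obtain ⟨h, ha'⟩ := F.mem_bigG.1 ha
    rw [pow_two]
    exact congrArg Subtype.val (F.bigA_sq hg ha')

theorem card_bigG : Nat.card ↥F.bigG = 2 ^ 11 := by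
  rw [bigG, Subgroup.card_subtype, (F.bigA_counts hg).1]

omit hg in
theorem z_mem_bigG : z ∈ F.bigG := F.mem_bigG.2 ⟨zC.2, F.planeSub_le_bigA F.zC_mem⟩

omit hg in
/-- The subgroup is its own centraliser. -/
theorem centralizer_bigG {x : G} (hx : ∀ a ∈ F.bigG, Commute x a) : x ∈ F.bigG := by
  have hxC : x ∈ Subgroup.centralizer ({z} : Set G) :=
    mem_centralizer_singleton_iff'.2 (hx z F.z_mem_bigG).eq
  exact F.mem_bigG.2 ⟨hxC, F.mem_bigA.2 fun w hw => hx w (F.mem_bigG.2 ⟨w.2, F.planeSub_le_bigA hw⟩)⟩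

theorem exists_conj_bigA {B : Subgroup ↥(Subgroup.centralizer ({z} : Set G))} (hsq : ∀ x ∈ B, x * x = 1)
    (hcard : 2 ^ 11 ≤ Nat.card ↥B) : ∃ d, B.map (MulAut.conj d).toMonoidHom = F.bigA := by
  haveI : Fact (Nat.Prime 2) := ⟨Nat.prime_two⟩
  obtain ⟨T, hT⟩ := (show IsPGroup 2 ↥B from fun x => ⟨1, by
    rw [pow_one, pow_two]; exact Subtype.ext (hsq _ x.2)⟩).exists_le_sylow
  obtain ⟨d, hd⟩ := F.exists_shift_plane hg T
  refine ⟨d, F.eq_bigA hg ?_ ?_ ?_⟩
  · rintro _ ⟨x, hx, rfl⟩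
    exact fun v => hd (hT hx) v
  · rintro _ ⟨x, hx, rfl⟩
    rw [← _root_.map_mul, hsq x hx, _root_.map_one]
  · rw [← Nat.card_congr (B.equivMapOfInjective _ (MulAut.conj d).injective).toEquiv]
    exact hcard

omit hg in
theorem conj_mem_bigG {m a : G} (hm : m ∈ F.bigN) (ha : a ∈ F.bigG) : m * a * m⁻¹ ∈ F.bigG :=
  (Subgroup.mem_normalizer_iff.1 hm a).1 ha

/-- The normaliser is transitive on the conjugates of the central involution. -/
theorem exists_move_z {v : G} (hv : v ∈ F.bigG) (hzv : IsConj z v) : ∃ m ∈ F.bigN, m * z * m⁻¹ = v := by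
  obtain ⟨k, hk⟩ := isConj_iff.1 hzv
  have hB : ∀ a ∈ F.bigG, k⁻¹ * a * k ∈ Subgroup.centralizer ({z} : Set G) := fun a ha => by
    refine mem_centralizer_singleton_iff'.2 ?_
    have h := congrArg (fun w : ↥F.bigG => (w : G)) ((F.bigG_elementary hg).1.is_comm.comm ⟨a, ha⟩ ⟨v, hv⟩)
    change a * v = v * a at h
    rw [← hk] at h
    calc k⁻¹ * a * k * z = k⁻¹ * (a * (k * z * k⁻¹)) * k := by group
      _ = k⁻¹ * (k * z * k⁻¹ * a) * k := by rw [h]
      _ = z * (k⁻¹ * a * k) := by group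
  let B : Subgroup ↥(Subgroup.centralizer ({z} : Set G)) :=
    (F.bigG.map (MulAut.conj k⁻¹).toMonoidHom).subgroupOf (Subgroup.centralizer ({z} : Set G))
  have hle : F.bigG.map (MulAut.conj k⁻¹).toMonoidHom ≤ Subgroup.centralizer ({z} : Set G) := by
    rintro _ ⟨a, ha, rfl⟩
    simpa using hB a ha
  obtain ⟨d, hd⟩ := F.exists_conj_bigA hg (B := B) (fun x hx => by
      obtain ⟨a, ha, e⟩ := Subgroup.mem_subgroupOf.1 hx
      refine Subtype.ext ?_
      show (x : G) * x = 1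
      rw [show (x : G) = (MulAut.conj k⁻¹).toMonoidHom a from e.symm, ← _root_.map_mul, ← pow_two,
        (F.bigG_elementary hg).2 a ha, _root_.map_one])
    (by rw [Nat.card_congr (Subgroup.subgroupOfEquivOfLe hle).toEquiv,
      ← Nat.card_congr (F.bigG.equivMapOfInjective _ (MulAut.conj k⁻¹).injective).toEquiv, F.card_bigG hg])
  have key : F.bigG.map (MulAut.conj ((d : G) * k⁻¹)).toMonoidHom = F.bigG := by
    conv_rhs => rw [bigG, ← hd, Subgroup.map_map]
    have : (Subgroup.centralizer ({z} : Set G)).subtype.comp (MulAut.conj d).toMonoidHom =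
        (MulAut.conj (d : G)).toMonoidHom.comp (Subgroup.centralizer ({z} : Set G)).subtype := by ext c; rfl
    rw [this, ← Subgroup.map_map, Subgroup.map_subgroupOf_eq_of_le hle, Subgroup.map_map]
    congr 1
    ext a
    show (d : G) * k⁻¹ * a * ((d : G) * k⁻¹)⁻¹ = (d : G) * (k⁻¹ * a * k⁻¹⁻¹) * (d : G)⁻¹
    group
  have hn : (d : G) * k⁻¹ ∈ F.bigN := by
    rw [bigN, Subgroup.mem_normalizer_iff]
    intro a
    constructor
    · exact fun ha => key.le ⟨a, ha, rfl⟩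
    · intro ha
      obtain ⟨b, hb, e⟩ := key.ge ha
      rwa [← (MulAut.conj ((d : G) * k⁻¹)).injective (show (MulAut.conj ((d : G) * k⁻¹)) b =
        (MulAut.conj ((d : G) * k⁻¹)) a from e)]
  refine ⟨((d : G) * k⁻¹)⁻¹, inv_mem hn, ?_⟩
  rw [← hk, _root_.mul_inv_rev, inv_inv, show k * (d : G)⁻¹ * z * (k * (d : G)⁻¹)⁻¹ = k * ((d : G)⁻¹ * z * d) * k⁻¹ by group,
    (mem_C_commute d).inv_left.eq, mul_assoc z, inv_mul_cancel, mul_one]

omit hg in
theorem stabC_le_bigN {c : ↥(Subgroup.centralizer ({z} : Set G))} (hc : c ∈ F.stabC) : (c : G) ∈ F.bigN := by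
  rw [bigN, Subgroup.mem_normalizer_iff]
  intro a
  constructor
  · rintro ⟨b, hb, rfl⟩
    exact ⟨c * b * c⁻¹, F.conj_bigA hc hb, rfl⟩
  · rintro ⟨b, hb, e⟩
    refine ⟨c⁻¹ * b * c, by simpa using F.conj_bigA (inv_mem hc) hb, ?_⟩
    show (c : G)⁻¹ * b * c = a
    rw [show (b : G) = (c : G) * a * (c : G)⁻¹ from e]
    group

omit hg in
theorem stabC_of_bigN {c : ↥(Subgroup.centralizer ({z} : Set G))} (hc : (c : G) ∈ F.bigN) : c ∈ F.stabC := by
  have hfw : ∀ v, InW v → InW (F.act c v) := by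
    intro v hv
    obtain ⟨q, rfl⟩ := F.surj v
    let w : ↥(Subgroup.centralizer ({z} : Set G)) := ⟨q, F.large.le_centralizer q.2⟩
    have hw : w ∈ F.planeSub := ⟨q.2, hv⟩
    obtain ⟨h1, h2⟩ := F.mem_bigG.1 (F.conj_mem_bigG hc (F.mem_bigG.2 ⟨w.2, F.planeSub_le_bigA hw⟩))
    have hQ : (c : G) * q * (c : G)⁻¹ ∈ Q := F.large.conj_mem (mem_C_commute c) q.2
    obtain ⟨h3, h4⟩ := F.bigA_inf h2 hQ
    rw [F.act_conj c q ⟨_, hQ⟩ rfl]
    exact h4
  intro v
  refine ⟨fun h => ?_, hfw v⟩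
  have hinj : Function.Injective fun w : {w : V6 // InW w} => (⟨F.act c w.1, hfw _ w.2⟩ : {w : V6 // InW w}) :=
    fun a b e => Subtype.ext ((F.act c).injective (congrArg Subtype.val e))
  obtain ⟨w, hw⟩ := (Finite.injective_iff_surjective.1 hinj) ⟨_, h⟩
  exact (F.act c).injective (congrArg Subtype.val hw) ▸ w.2

theorem card_stabC : Nat.card ↥F.stabC = 2 * (17280 * 2 ^ 13) := by
  rw [F.card_stabC_eq hg, card_stabW]

/-- The order of the normaliser. -/
theorem card_bigN : Nat.card ↥F.bigN = Nat.card {a : G // a ∈ F.bigG ∧ IsConj z a} * (2 * (17280 * 2 ^ 13)) := by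
  letI act : MulAction ↥F.bigN G :=
    { smul := fun m a => (m : G) * a * (m : G)⁻¹
      one_smul := fun a => by show ((1 : ↥F.bigN) : G) * a * ((1 : ↥F.bigN) : G)⁻¹ = a; simp
      mul_smul := fun m n a => by
        show ((m * n : ↥F.bigN) : G) * a * ((m * n : ↥F.bigN) : G)⁻¹ = _
        show (m : G) * n * a * ((m : G) * n)⁻¹ = (m : G) * ((n : G) * a * (n : G)⁻¹) * (m : G)⁻¹
        group }
  have horb : MulAction.orbit ↥F.bigN z = {a | a ∈ F.bigG ∧ IsConj z a} := by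
    ext a
    constructor
    · rintro ⟨m, rfl⟩
      exact ⟨F.conj_mem_bigG m.2 F.z_mem_bigG, isConj_iff.2 ⟨m, rfl⟩⟩
    · rintro ⟨ha, hc⟩
      obtain ⟨m, hm, e⟩ := F.exists_move_z hg ha hc
      exact ⟨⟨m, hm⟩, e⟩
  have hst : Nat.card ↥(MulAction.stabilizer ↥F.bigN z) = Nat.card ↥F.stabC := Nat.card_congr
    { toFun := fun m => ⟨⟨(m.1 : G), mem_centralizer_singleton_iff'.2 (mul_inv_eq_iff_eq_mul.1 m.2)⟩,
        F.stabC_of_bigN m.1.2⟩
      invFun := fun c => ⟨⟨(c.1 : G), F.stabC_le_bigN c.2⟩, show (c.1 : G) * z * (c.1 : G)⁻¹ = z by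
        rw [(mem_C_commute c.1).eq, mul_inv_cancel_right]⟩
      left_inv := fun m => rfl
      right_inv := fun c => rfl }
  have h := Subgroup.card_mul_index (MulAction.stabilizer ↥F.bigN z)
  rw [MulAction.index_stabilizer, hst, F.card_stabC hg, horb, ← Nat.card_coe_set_eq] at h
  rw [← h, mul_comm]
  rfl

/-- An odd prime dividing the order of the normaliser divides the order of a linear group in dimension eleven. -/
theorem prime_bigN {p : ℕ} (hp : p.Prime) (h2 : p ≠ 2) (hdvd : p ∣ Nat.card ↥F.bigN) :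
    ∃ i : Fin 11, p ∣ 2 ^ (i.1 + 1) - 1 := by
  haveI : Fact p.Prime := ⟨hp⟩
  by_contra hc
  push Not at hc
  obtain ⟨m, hm⟩ := exists_prime_orderOf_dvd_card' (G := ↥F.bigN) p hdvd
  letI act : MulAction ↥(Subgroup.zpowers m) ↥F.bigG :=
    { smul := fun n a => ⟨(n.1 : G) * a * (n.1 : G)⁻¹, F.conj_mem_bigG n.1.2 a.2⟩
      one_smul := fun a => Subtype.ext (by show ((1 : ↥F.bigN) : G) * a * ((1 : ↥F.bigN) : G)⁻¹ = a; simp)
      mul_smul := fun n n' a => Subtype.ext (by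
        show (n.1 : G) * n'.1 * a * ((n.1 : G) * n'.1)⁻¹ = (n.1 : G) * ((n'.1 : G) * a * (n'.1 : G)⁻¹) * (n.1 : G)⁻¹
        group) }
  have hP : IsPGroup p ↥(Subgroup.zpowers m) := IsPGroup.of_card (n := 1) (by rw [Nat.card_zpowers, hm, pow_one])
  have hmod := hP.card_modEq_card_fixedPoints ↥F.bigG
  let S : Subgroup G := F.bigG ⊓ Subgroup.centralizer ({(m : G)} : Set G)
  have hfix : Nat.card ↥(MulAction.fixedPoints ↥(Subgroup.zpowers m) ↥F.bigG) = Nat.card ↥S := Nat.card_congr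
    { toFun := fun a => ⟨a.1.1, a.1.2, mem_centralizer_singleton_iff'.2 (by
        have h : (m : G) * a.1 * (m : G)⁻¹ = a.1 := congrArg Subtype.val (a.2 ⟨m, Subgroup.mem_zpowers m⟩)
        exact (mul_inv_eq_iff_eq_mul.1 h).symm)⟩
      invFun := fun a => ⟨⟨a.1, a.2.1⟩, fun n => Subtype.ext (by
        obtain ⟨n, i, rfl⟩ := n
        show ((m ^ i : ↥F.bigN) : G) * a.1 * ((m ^ i : ↥F.bigN) : G)⁻¹ = a.1
        have h : Commute (m : G) a.1 := (mem_centralizer_singleton_iff'.1 a.2.2).symm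
        rw [Subgroup.coe_zpow, (h.zpow_left i).eq, mul_inv_cancel_right])⟩
      left_inv := fun a => rfl
      right_inv := fun a => rfl }
  obtain ⟨k, hk, hkc⟩ := (Nat.dvd_prime_pow Nat.prime_two).1 ((F.card_bigG hg) ▸
    Subgroup.card_dvd_of_le (inf_le_left : S ≤ F.bigG))
  rw [hfix, F.card_bigG hg, hkc] at hmod
  rcases hk.lt_or_eq with hlt | rfl
  · have h := (Nat.modEq_iff_dvd' (Nat.pow_le_pow_right two_pos hk)).1 hmod.symm
    have e : 2 ^ 11 - 2 ^ k = 2 ^ k * (2 ^ (11 - k) - 1) := by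
      rw [Nat.mul_sub, ← pow_add, Nat.add_sub_cancel' hk, mul_one]
    rw [e] at h
    rcases hp.dvd_mul.1 h with h | h
    · exact h2 ((Nat.prime_dvd_prime_iff_eq hp Nat.prime_two).1 (hp.dvd_of_dvd_pow h))
    · exact hc ⟨10 - k, by omega⟩ (by rwa [show 10 - k + 1 = 11 - k by omega])
  · have hS : S = F.bigG := Subgroup.eq_of_le_of_card_ge inf_le_left (by rw [F.card_bigG hg, hkc])
    have hmA : (m : G) ∈ F.bigG := F.centralizer_bigG fun a ha =>
      (mem_centralizer_singleton_iff'.1 (hS.ge ha).2).symm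
    have h3 := Subgroup.orderOf_dvd_natCard F.bigG hmA
    rw [Subgroup.orderOf_coe, hm, F.card_bigG hg] at h3
    exact h2 ((Nat.prime_dvd_prime_iff_eq hp Nat.prime_two).1 (hp.dvd_of_dvd_pow h3))

end Coord

end CfsgLib.ThreeTrans.LargeFischer
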