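import Cfsg.Agent.Lib.ThreeTrans.LargeFischer.OuterType

/-!
The stabiliser of a conjugate of the central involution modulo the elementary group of order 32 is the
alternating group of degree six (owner: helper28).
-/

set_option autoImplicit false
set_option maxHeartbeats 1000000
set_option maxRecDepth 100000

namespace CfsgLib.ThreeTrans.LargeFischer

open Matrix Cfsg
open CfsgLib.Recog.SporBound.Fi22U6 (F4)
open CfsgLib.Sporadic.U43Triple

variable {G : Type*} [Group G] [Finite G] {z : G} {Q : Subgroup G}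

theorem outV_om_smul : ∀ v : V6, outV (true, true) (F4.om • v) = F4.om' • outV (true, true) v := by
  intro v
  funext i
  show cj (F4.om * v (Equiv.swap (0 : Fin 6) 1 i)) = F4.om' * cj (v (Equiv.swap (0 : Fin 6) 1 i))
  rw [cj_mul]
  rfl

theorem not_linear {t u : CfsgLib.Sporadic.U43Triple.G} :
    ¬ ∀ v : V6, mat t *ᵥ outV (true, true) v = mat u *ᵥ v := by
  intro h
  have h1 := h (F4.om • rootB)
  rw [outV_om_smul, Matrix.mulVec_smul, Matrix.mulVec_smul, h] at h1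
  have hne : mat u *ᵥ rootB ≠ 0 := fun e =>
    roots_ok.2.2.2.2.2.1 (mul_mat_injective (star_mul_self u) (show mat u *ᵥ rootB = mat u *ᵥ 0 by
      rw [e, Matrix.mulVec_zero]))
  apply hne
  funext i
  have h2 := congrFun h1 i
  have key : ∀ a : F4, F4.om' * a = F4.om * a → a = 0 := by decide +kernel
  exact key _ h2

namespace Coord

variable (F : Coord z Q)

/-- The subgroup of index two consists of the elements acting in the triple cover. -/
theorem mem_M_iff (hg : ∃ g : G, g * z * g⁻¹ ∈ Q ∧ g * z * g⁻¹ ≠ z)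
    (c : ↥(Subgroup.centralizer ({z} : Set G))) :
    c ∈ F.M ↔ ∃ t ∈ triple, ∀ v, F.act c v = mat t *ᵥ v := by
  refine ⟨F.act_M c, fun ⟨u, hu, he⟩ => ?_⟩
  by_contra hc
  obtain ⟨t, ht, h⟩ := F.outer_form hg c hc
  exact not_linear fun v => (h v).symm.trans (he v)

theorem mem_M_of_mem (hg : ∃ g : G, g * z * g⁻¹ ∈ Q ∧ g * z * g⁻¹ ≠ z)
    {c : ↥(Subgroup.centralizer ({z} : Set G))} (hc : (c : G) ∈ Q) : c ∈ F.M :=
  (F.mem_M_iff hg c).2 ⟨1, one_mem _, fun v => by rw [(F.act_eq_one c).2 hc, mat_one, Matrix.one_mulVec]; rfl⟩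

variable {F} {g : G} (R : F.AtRoot g)
include R

theorem AtRoot.hg : ∃ g : G, g * z * g⁻¹ ∈ Q ∧ g * z * g⁻¹ ≠ z := ⟨g, R.mem, R.ne⟩

/-- The part of the stabiliser inside the subgroup of index two. -/
def fixM (_ : F.AtRoot g) : Subgroup ↥(Subgroup.centralizer ({z} : Set G)) :=
  F.M ⊓ (Subgroup.centralizer ({g * z * g⁻¹} : Set G)).subgroupOf (Subgroup.centralizer ({z} : Set G))

theorem mem_fixM {c : ↥(Subgroup.centralizer ({z} : Set G))} :
    c ∈ fixM R ↔ c ∈ F.M ∧ Commute (c : G) (g * z * g⁻¹) := by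
  rw [fixM, Subgroup.mem_inf, Subgroup.mem_subgroupOf, mem_centralizer_singleton_iff']
  rfl

theorem exists_alt : ∃ α : ↥(fixM R) →* ↥(alternatingGroup (Fin 6)), Function.Surjective α ∧
    ∀ c : ↥(fixM R), α c = 1 ↔ ∃ e ∈ side z Q g, F.act c.1 = F.act e := by
  classical
  have hex : ∀ c : ↥(fixM R), ∃ t : ↥genGroup, ∀ v, F.act c.1 v = mat t.1 *ᵥ v := by
    intro c
    obtain ⟨hM, hcx⟩ := (mem_fixM R).1 c.2
    obtain ⟨t, ht, e⟩ := F.act_M _ hM
    exact ⟨⟨t, stabB_eq.symm ▸ (⟨ht, by rw [← e]; exact R.fix_of_commute hcx⟩ : t ∈ stabB)⟩, e⟩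
  choose τ hτ using hex
  let τh : ↥(fixM R) →* ↥genGroup := MonoidHom.mk' τ fun a b => Subtype.ext (mulVec_ext fun v => by
    rw [Subgroup.coe_mul, mat_mul, ← Matrix.mulVec_mulVec, ← hτ, ← hτ, ← hτ, Subgroup.coe_mul, _root_.map_mul,
      Equiv.Perm.mul_apply])
  let f : ↥genGroup →* ↥(alternatingGroup (Fin 6)) :=
    blockHom.codRestrict _ fun x => main_counts.2.2 ▸ ⟨x, rfl⟩
  refine ⟨f.comp τh, fun y => ?_, fun c => ?_⟩
  · obtain ⟨x, hx⟩ := main_counts.2.2.ge y.2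
    have hxs : x.1 ∈ stabB := stabB_eq ▸ x.2
    obtain ⟨d, hd, hdt⟩ := F.exists_fixing (a := ⟨_, R.mem⟩) (by rw [R.root]; exact roots_ok.2.2.2.2.2.1) hxs.1
      (by rw [R.root]; exact hxs.2)
    refine ⟨⟨d, (mem_fixM R).2 ⟨(F.mem_M_iff R.hg d).2 ⟨_, hxs.1, hdt⟩, hd⟩⟩, Subtype.ext ?_⟩
    show blockHom (τ _) = _
    rw [show τ _ = x from Subtype.ext (mulVec_ext fun v => (hτ _ v).symm.trans (hdt v)), hx]
  · constructor
    · intro h
      obtain ⟨n, hn⟩ := ker_blockHom.1 (congrArg Subtype.val h : blockHom (τ c) = 1)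
      obtain ⟨-, e, he, het⟩ := R.image_uElt n
      exact ⟨e, he, Equiv.ext fun v => by rw [hτ, show (τ c).1 = uElt n from hn, het]⟩
    · rintro ⟨e, he, hce⟩
      obtain ⟨n, hn⟩ := R.tripleImage_le (t := (τ c).1)
        ⟨(stabB_eq ▸ (τ c).2 : (τ c).1 ∈ stabB).1, e, he, fun v => by rw [← hce, hτ]⟩
      exact Subtype.ext (ker_blockHom.2 ⟨n, hn⟩ : blockHom (τ c) = 1)

theorem exists_mul_side (c : ↥(Subgroup.centralizer ({z} : Set G))) (hc : Commute (c : G) (g * z * g⁻¹)) :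
    ∃ e ∈ side z Q g, c * e ∈ fixM R := by
  by_cases hM : c ∈ F.M
  · exact ⟨1, one_mem _, by rw [mul_one]; exact (mem_fixM R).2 ⟨hM, hc⟩⟩
  obtain ⟨e, he, heM⟩ := R.exists_outer
  exact ⟨e, he, (mem_fixM R).2 ⟨(Subgroup.mul_mem_iff_of_index_two F.index).2 (iff_of_false hM heM),
    hc.mul_left (R.commute_side he)⟩⟩

end Coord

end CfsgLib.ThreeTrans.LargeFischer
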