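import Cfsg.Agent.Lib.ThreeTrans.LargeFischer.Plane
import Cfsg.Agent.Lib.ThreeTrans.LargeFischer.Stabiliser

/-!
The preimage of the plane in `Q`, and its centraliser: an elementary abelian group of order `2 ^ 11`
(owner: helper28).
-/

set_option autoImplicit false
set_option maxHeartbeats 1000000
set_option maxRecDepth 100000

namespace CfsgLib.ThreeTrans.LargeFischer

open Matrix Cfsg
open CfsgLib.Recog.SporBound.Fi22U6 (F4)
open CfsgLib.Sporadic.U43Triple

theorem card_inW : Nat.card {v : V6 // InW v} = 64 := by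
  classical
  have hc : ∀ a b c, wVec a b c 0 = a ∧ wVec a b c 1 = b ∧ wVec a b c 2 = c := by decide +kernel
  let e : {v : V6 // InW v} ≃ F4 × F4 × F4 :=
    { toFun := fun v => (v.1 0, v.1 1, v.1 2)
      invFun := fun p => ⟨wVec p.1 p.2.1 p.2.2, inW_wVec _ _ _⟩
      left_inv := fun v => Subtype.ext (inW_param v.2).symm
      right_inv := fun p => by simp [hc] }
  rw [Nat.card_congr e, Nat.card_prod, Nat.card_prod, Nat.card_eq_fintype_card, F4.card]
  norm_num

theorem outV_add : ∀ u v : V6, outV (true, true) (u + v) = outV (true, true) u + outV (true, true) v := by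
  intro u v
  funext i
  exact cj_add _ _

theorem v6_add_self (v : V6) : v + v = 0 := by
  have key : ∀ x : F4, x + x = 0 := by decide +kernel
  exact funext fun i => key _

namespace Coord

variable {G : Type*} [Group G] {z : G} {Q : Subgroup G} (F : Coord z Q)

theorem map_inv' (a : ↥Q) : F.ψ a⁻¹ = F.ψ a := by
  have h : F.ψ a⁻¹ + F.ψ a = 0 := by rw [← F.map_mul, inv_mul_cancel, F.map_one]
  calc F.ψ a⁻¹ = F.ψ a⁻¹ + (F.ψ a + F.ψ a) := by rw [v6_add_self, add_zero]
    _ = F.ψ a := by rw [← add_assoc, h, zero_add]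

/-- The preimage of the plane. -/
def planeSub : Subgroup ↥(Subgroup.centralizer ({z} : Set G)) where
  carrier := {c | ∃ h : (c : G) ∈ Q, InW (F.ψ ⟨c, h⟩)}
  one_mem' := ⟨Q.one_mem, by
    show InW (F.ψ 1)
    rw [F.map_one]
    exact inW_zero⟩
  mul_mem' := by
    rintro a b ⟨ha, wa⟩ ⟨hb, wb⟩
    refine ⟨Q.mul_mem ha hb, ?_⟩
    have e := F.map_mul ⟨a, ha⟩ ⟨b, hb⟩
    exact (e.trans rfl : F.ψ ⟨(a : G) * b, Q.mul_mem ha hb⟩ = _) ▸ inW_add wa wb
  inv_mem' := by
    rintro a ⟨ha, wa⟩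
    exact ⟨Q.inv_mem ha, (F.map_inv' ⟨a, ha⟩ : F.ψ ⟨(a : G)⁻¹, Q.inv_mem ha⟩ = _) ▸ wa⟩

/-- The elements fixing the plane. -/
def stabC : Subgroup ↥(Subgroup.centralizer ({z} : Set G)) where
  carrier := {c | ∀ v, InW (F.act c v) ↔ InW v}
  one_mem' := fun v => by rw [_root_.map_one]; rfl
  mul_mem' := fun {a b} ha hb v => by rw [_root_.map_mul, Equiv.Perm.mul_apply, ha, hb]
  inv_mem' := fun {a} ha v => by
    rw [← ha, ← Equiv.Perm.mul_apply, ← _root_.map_mul, mul_inv_cancel, _root_.map_one]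
    rfl

/-- The elements fixing every vector of the plane. -/
def uaPre : Subgroup ↥(Subgroup.centralizer ({z} : Set G)) where
  carrier := {c | ∀ v, InW v → F.act c v = v}
  one_mem' := fun v _ => by rw [_root_.map_one]; rfl
  mul_mem' := fun {a b} ha hb v hv => by rw [_root_.map_mul, Equiv.Perm.mul_apply, hb v hv, ha v hv]
  inv_mem' := fun {a} ha v hv => by rw [map_inv, Equiv.Perm.inv_eq_iff_eq, ha v hv]

/-- The centraliser of the preimage of the plane. -/
def bigA : Subgroup ↥(Subgroup.centralizer ({z} : Set G)) :=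
  Subgroup.centralizer (F.planeSub : Set ↥(Subgroup.centralizer ({z} : Set G)))

theorem mem_bigA {c : ↥(Subgroup.centralizer ({z} : Set G))} :
    c ∈ F.bigA ↔ ∀ w ∈ F.planeSub, Commute (c : G) w := by
  rw [bigA, Subgroup.mem_centralizer_iff]
  exact ⟨fun h w hw => (congrArg Subtype.val (h w hw)).symm, fun h w hw => Subtype.ext (h w hw).eq.symm⟩

theorem uaPre_le : F.uaPre ≤ F.stabC := fun c hc v => by
  refine ⟨fun hv => ?_, fun hv => by rwa [hc v hv]⟩
  have e := hc _ hv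
  rwa [(F.act c).injective e] at hv

theorem bigA_le : F.bigA ≤ F.uaPre := fun c hc v hv => by
  obtain ⟨q, rfl⟩ := F.surj v
  have h := F.mem_bigA.1 hc ⟨q, F.large.le_centralizer q.2⟩ ⟨q.2, hv⟩
  exact F.act_conj c q q (by rw [h.eq, mul_inv_cancel_right])

theorem planeSub_le_bigA : F.planeSub ≤ F.bigA := by
  rintro a ⟨ha, wa⟩
  rw [F.mem_bigA]
  rintro b ⟨hb, wb⟩
  refine (F.commute_iff ⟨a, ha⟩ ⟨b, hb⟩).2 ?_
  rw [hf_inW wa wb, cj_zero]

theorem planeSub_sq {a : ↥(Subgroup.centralizer ({z} : Set G))} (ha : a ∈ F.planeSub) : a * a = 1 := by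
  obtain ⟨h, w⟩ := ha
  exact Subtype.ext ((F.sq_eq_one ⟨a, h⟩).1 (hf_inW w w))

theorem bigA_inf {c : ↥(Subgroup.centralizer ({z} : Set G))} (hc : c ∈ F.bigA) (hQ : (c : G) ∈ Q) :
    c ∈ F.planeSub := by
  refine ⟨hQ, inW_of_real fun w hw => ?_⟩
  obtain ⟨q, rfl⟩ := F.surj w
  exact (F.commute_iff ⟨c, hQ⟩ q).1 (F.mem_bigA.1 hc ⟨q, F.large.le_centralizer q.2⟩ ⟨q.2, hw⟩)

/-- The element `z` in the centralizer. -/
def zC : ↥(Subgroup.centralizer ({z} : Set G)) := ⟨z, mem_centralizer_singleton_iff'.2 rfl⟩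

theorem zC_mem : zC ∈ F.planeSub := by
  refine ⟨F.large.z_mem, ?_⟩
  rw [(F.eq_zero ⟨(zC : ↥(Subgroup.centralizer ({z} : Set G))), F.large.z_mem⟩).2 (Subgroup.mem_zpowers z)]
  exact inW_zero

theorem card_planeSub [Finite G] : Nat.card ↥F.planeSub = 2 ^ 7 := by
  classical
  choose s hs using fun v : {v : V6 // InW v} => F.surj v.1
  let f : {v : V6 // InW v} × Bool → ↥F.planeSub := fun p =>
    if p.2 then ⟨zC * ⟨s p.1, F.large.le_centralizer (s p.1).2⟩,
        mul_mem F.zC_mem ⟨(s p.1).2, by rw [Subtype.coe_eta, hs]; exact p.1.2⟩⟩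
    else ⟨⟨s p.1, F.large.le_centralizer (s p.1).2⟩, (s p.1).2, by rw [Subtype.coe_eta, hs]; exact p.1.2⟩
  have hf : Function.Bijective f := by
    constructor
    · have hv : ∀ p, F.ψ ⟨((f p).1 : G), (f p).2.1⟩ = p.1.1 := by
        rintro ⟨v, b⟩
        have h2 : ∀ q : ↥Q, (q : G) = (f (v, b)).1 → F.ψ ⟨((f (v, b)).1 : G), (f (v, b)).2.1⟩ = F.ψ q :=
          fun q e => congrArg F.ψ (Subtype.ext e.symm)
        cases b
        · rw [h2 (s v) rfl]; exact hs v
        · rw [h2 (⟨z, F.large.z_mem⟩ * s v) rfl, F.map_mul, (F.eq_zero _).2 (Subgroup.mem_zpowers z), zero_add]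
          exact hs v
      rintro ⟨v, b⟩ ⟨w, c⟩ e
      obtain rfl : v = w := Subtype.ext (by rw [← hv (v, b), ← hv (w, c)]; simp only [e])
      have hne : f (v, true) ≠ f (v, false) := fun h =>
        F.large.z_ne_one (mul_eq_right.1 (congrArg (fun x : ↥F.planeSub => ((x.1 : G))) h))
      cases b <;> cases c
      · rfl
      · exact absurd e.symm hne
      · exact absurd e hne
      · rfl
    · rintro ⟨c, hc, hw⟩
      rcases F.eq_or_of_eq (a := s ⟨_, hw⟩) (b := ⟨c, hc⟩) (hs _) with e | e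
      · exact ⟨(⟨_, hw⟩, false), Subtype.ext (Subtype.ext e.symm)⟩
      · exact ⟨(⟨_, hw⟩, true), Subtype.ext (Subtype.ext e.symm)⟩
  rw [← Nat.card_congr (Equiv.ofBijective f hf), Nat.card_prod, card_inW, Nat.card_eq_fintype_card,
    Fintype.card_bool]
  norm_num

/-- An element acting as a given one of the sixteen. -/
def ActsAs (c : ↥(Subgroup.centralizer ({z} : Set G))) (n : Fin 16) : Prop :=
  ∀ v, F.act c v = mat (uaElt n) *ᵥ v

theorem actsAs_mem {c : ↥(Subgroup.centralizer ({z} : Set G))} {n : Fin 16} (h : F.ActsAs c n) : c ∈ F.uaPre :=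
  fun v hv => by rw [h, uaElt_fix n hv]

theorem actsAs_unique {c : ↥(Subgroup.centralizer ({z} : Set G))} {n m : Fin 16} (h : F.ActsAs c n)
    (h' : F.ActsAs c m) : n = m :=
  uaElt_injective (mat_injective (Matrix.toLin'.injective (LinearMap.ext fun v => (h v).symm.trans (h' v))))

theorem actsAs_mul {c d : ↥(Subgroup.centralizer ({z} : Set G))} {n m : Fin 16} (h : F.ActsAs c n)
    (h' : F.ActsAs d m) : F.ActsAs (c * d) (uAdd n m) := fun v => by
  rw [_root_.map_mul, Equiv.Perm.mul_apply, h', h, ← uaElt_mul, mat_mul, Matrix.mulVec_mulVec]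

theorem actsAs_zero {c : ↥(Subgroup.centralizer ({z} : Set G))} : F.ActsAs c 0 ↔ (c : G) ∈ Q := by
  rw [← F.act_eq_one]
  refine ⟨fun h => Equiv.ext fun v => ?_, fun h v => ?_⟩
  · rw [h, uaElt_zero, mat_one, Matrix.one_mulVec]; rfl
  · rw [h, uaElt_zero, mat_one, Matrix.one_mulVec]; rfl

section Finite

variable [Finite G] (hg : ∃ g : G, g * z * g⁻¹ ∈ Q ∧ g * z * g⁻¹ ≠ z)
include hg

theorem exists_actsAs {c : ↥(Subgroup.centralizer ({z} : Set G))} (hc : c ∈ F.uaPre) : ∃ n, F.ActsAs c n := by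
  have hM : c ∈ F.M := by
    by_contra hM
    obtain ⟨t, -, ht⟩ := F.outer_form hg c hM
    have h1 := hc _ (inW_smul F4.om (bW_mem 0))
    rw [ht, outV_om_smul, Matrix.mulVec_smul, ← ht, hc _ (bW_mem 0)] at h1
    have h2 := congrFun h1 0
    revert h2
    decide +kernel
  obtain ⟨t, ht, e⟩ := F.act_M c hM
  obtain ⟨n, rfl⟩ := fixW_eq (t := t) ⟨ht, fun v hv => by rw [← e]; exact hc v hv⟩
  exact ⟨n, e⟩

omit hg in
theorem card_uaPre_ge : 2 ^ 17 ≤ Nat.card ↥F.uaPre := by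
  choose c _ hc using fun n => F.lift _ (uaElt_triple n)
  let f : Fin 16 × ↥Q → ↥F.uaPre := fun p =>
    ⟨c p.1 * ⟨p.2, F.large.le_centralizer p.2.2⟩, mul_mem (F.actsAs_mem (hc p.1))
      (F.actsAs_mem (n := 0) (F.actsAs_zero.2 p.2.2))⟩
  have hf : Function.Injective f := by
    rintro ⟨n, q⟩ ⟨m, r⟩ e
    have e' : c n * ⟨q, F.large.le_centralizer q.2⟩ = c m * ⟨r, F.large.le_centralizer r.2⟩ := congrArg Subtype.val e
    have h1 := F.actsAs_mul (hc n) ((F.actsAs_zero (c := ⟨q, F.large.le_centralizer q.2⟩)).2 q.2)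
    have h2 := F.actsAs_mul (hc m) ((F.actsAs_zero (c := ⟨r, F.large.le_centralizer r.2⟩)).2 r.2)
    rw [e'] at h1
    have hu : ∀ a, uAdd a 0 = a := by decide +kernel
    have h3 := F.actsAs_unique h1 h2
    rw [hu, hu] at h3
    subst h3
    exact Prod.ext rfl (Subtype.ext (congrArg (fun x : ↥(Subgroup.centralizer ({z} : Set G)) => (x : G))
      (mul_left_cancel e')))
  have h := Nat.card_le_card_of_injective f hf
  rw [Nat.card_prod, Nat.card_fin, F.card] at h
  omega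

omit hg [Finite G] in
theorem commute_of_lifts {e : ↥(Subgroup.centralizer ({z} : Set G))}
    (h : ∀ k : Fin 3, ∀ a ∈ [(1 : F4), F4.om], ∃ q : ↥Q, F.ψ q = a • bW k ∧ Commute (e : G) q) :
    e ∈ F.bigA := by
  let P : V6 → Prop := fun v => ∀ q : ↥Q, F.ψ q = v → Commute (e : G) q
  have hz : Commute (e : G) z := mem_C_commute e
  have h0 : P 0 := fun q hq => by
    rcases F.large.eq_or ((F.eq_zero q).1 hq) with h1 | h1 <;> rw [h1]
    · exact Commute.one_right _
    · exact hz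
  have hadd : ∀ u v, P u → P v → P (u + v) := by
    intro u v hu hv q hq
    obtain ⟨r, hr⟩ := F.surj u
    have h2 : F.ψ (r⁻¹ * q) = v := by
      rw [F.map_mul, F.map_inv', hr, hq, ← add_assoc, v6_add_self, zero_add]
    have := (hu r hr).mul_right (hv _ h2)
    rwa [← Subgroup.coe_mul, mul_inv_cancel_left] at this
  have hb : ∀ k : Fin 3, ∀ a ∈ [(1 : F4), F4.om], P (a • bW k) := by
    intro k a ha q hq
    obtain ⟨r, hr, hc⟩ := h k a ha
    rcases F.eq_or_of_eq (hr.trans hq.symm) with h1 | h1 <;> rw [h1]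
    · exact hc
    · exact hz.mul_right hc
  have hsm : ∀ (k : Fin 3) (a : F4), P (a • bW k) := by
    intro k a
    have hcases : ∀ a : F4, a = 0 ∨ a = 1 ∨ a = F4.om ∨ a = 1 + F4.om := by decide +kernel
    rcases hcases a with rfl | rfl | rfl | rfl
    · rwa [zero_smul]
    · exact hb k 1 (List.mem_cons_self ..)
    · exact hb k F4.om (List.mem_cons_of_mem _ (List.mem_cons_self ..))
    · rw [add_smul]
      exact hadd _ _ (hb k 1 (List.mem_cons_self ..)) (hb k F4.om (List.mem_cons_of_mem _ (List.mem_cons_self ..)))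
  rw [F.mem_bigA]
  rintro w ⟨hw, hwW⟩
  exact inW_cases (p := P) (fun a b c => hadd _ _ (hadd _ _ (hsm 0 a) (hsm 1 b)) (hsm 2 c)) hwW ⟨w, hw⟩ rfl

omit hg in
theorem card_bigA_ge : 2 ^ 11 ≤ Nat.card ↥F.bigA := by
  classical
  choose a ha using fun p : Fin 3 × Bool => F.surj ((if p.2 then F4.om else 1) • bW p.1)
  let P : ↥F.uaPre → (Fin 3 × Bool → Bool) := fun c i => decide (Commute ((c.1 : G)) (a i))
  have hor : ∀ (c : ↥F.uaPre) i, (c.1 : G) * a i * (c.1 : G)⁻¹ = a i ∨ (c.1 : G) * a i * (c.1 : G)⁻¹ = z * a i := by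
    intro c i
    refine F.eq_or_of_eq (a := a i) (b := ⟨_, F.large.conj_mem (mem_C_commute c.1) (a i).2⟩) ?_
    rw [← F.act_conj c.1 (a i) ⟨_, F.large.conj_mem (mem_C_commute c.1) (a i).2⟩ rfl]
    exact (c.2 _ (by rw [ha]; exact inW_smul _ (bW_mem _))).symm
  have hsame : ∀ c d : ↥F.uaPre, P c = P d → (c.1⁻¹ * d.1) ∈ F.bigA := by
    intro c d hcd
    refine F.commute_of_lifts fun k b hb => ?_
    obtain ⟨bb, rfl⟩ : ∃ bb : Bool, b = (if bb then F4.om else 1) := by
      rcases List.mem_cons.1 hb with rfl | hb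
      · exact ⟨false, rfl⟩
      · exact ⟨true, List.mem_singleton.1 hb⟩
    refine ⟨a (k, bb), ha (k, bb), ?_⟩
    have hiff : Commute (c.1 : G) (a (k, bb)) ↔ Commute (d.1 : G) (a (k, bb)) :=
      decide_eq_decide.1 (congrFun hcd (k, bb))
    have e : (c.1 : G) * a (k, bb) * (c.1 : G)⁻¹ = (d.1 : G) * a (k, bb) * (d.1 : G)⁻¹ := by
      rcases hor c (k, bb) with h1 | h1 <;> rcases hor d (k, bb) with h2 | h2
      · rw [h1, h2]
      · rw [h1, mul_inv_eq_iff_eq_mul.2 (hiff.1 (mul_inv_eq_iff_eq_mul.1 h1)).eq]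
      · rw [h2, mul_inv_eq_iff_eq_mul.2 (hiff.2 (mul_inv_eq_iff_eq_mul.1 h2)).eq]
      · rw [h1, h2]
    show Commute ((c.1 : G)⁻¹ * d.1) (a (k, bb))
    refine mul_inv_eq_iff_eq_mul.1 ?_
    rw [show (c.1 : G)⁻¹ * d.1 * a (k, bb) * ((c.1 : G)⁻¹ * d.1)⁻¹ =
      (c.1 : G)⁻¹ * ((d.1 : G) * a (k, bb) * (d.1 : G)⁻¹) * c.1 by group, ← e]
    group
  let r : (Fin 3 × Bool → Bool) → ↥F.uaPre := fun p => if h : ∃ c, P c = p then h.choose else 1
  have hr : ∀ c, P (r (P c)) = P c := fun c => by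
    have h : ∃ d, P d = P c := ⟨c, rfl⟩
    simp only [r, dif_pos h]
    exact h.choose_spec
  let f : ↥F.uaPre → (Fin 3 × Bool → Bool) × ↥F.bigA := fun c => (P c, ⟨_, hsame (r (P c)) c (hr c)⟩)
  have hf : Function.Injective f := fun c d e => by
    have e1 : P c = P d := congrArg Prod.fst e
    have e2 : (r (P c)).1⁻¹ * c.1 = (r (P d)).1⁻¹ * d.1 := congrArg (fun x => (x.2 : ↥F.bigA).1) e
    rw [e1] at e2
    exact Subtype.ext (mul_left_cancel e2)
  have h := Nat.card_le_card_of_injective f hf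
  rw [Nat.card_prod, Nat.card_fun, Nat.card_prod, Nat.card_fin, Nat.card_eq_fintype_card (α := Bool),
    Fintype.card_bool] at h
  have h1 := F.card_uaPre_ge
  omega

theorem bigA_counts : Nat.card ↥F.bigA = 2 ^ 11 ∧ ∀ n, ∃ d ∈ F.bigA, F.ActsAs d n := by
  classical
  choose N hN using fun d : ↥F.bigA => F.exists_actsAs hg (F.bigA_le d.2)
  let r : Fin 16 → ↥F.bigA := fun n => if h : ∃ d, N d = n then h.choose else 1
  have hr : ∀ d, N (r (N d)) = N d := fun d => by
    have h : ∃ e, N e = N d := ⟨d, rfl⟩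
    simp only [r, dif_pos h]
    exact h.choose_spec
  have hsame : ∀ c d : ↥F.bigA, N c = N d → c.1⁻¹ * d.1 ∈ F.planeSub := fun c d e => by
    refine F.bigA_inf (mul_mem (inv_mem c.2) d.2) ((F.act_eq_one _).1 (Equiv.ext fun v => ?_))
    rw [_root_.map_mul, map_inv, Equiv.Perm.mul_apply, Equiv.Perm.inv_eq_iff_eq]
    show F.act d.1 v = F.act c.1 v
    rw [hN d, hN c, e]
  let f : ↥F.bigA → ↥(Set.range N) × ↥F.planeSub := fun c => (⟨_, c, rfl⟩, ⟨_, hsame (r (N c)) c (hr c)⟩)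
  have hf : Function.Injective f := fun c d e => by
    have e1 : N c = N d := congrArg (fun x => x.1.1) e
    have e2 : (r (N c)).1⁻¹ * c.1 = (r (N d)).1⁻¹ * d.1 := congrArg (fun x => x.2.1) e
    rw [e1] at e2
    exact Subtype.ext (mul_left_cancel e2)
  have h := Nat.card_le_card_of_injective f hf
  rw [Nat.card_prod, F.card_planeSub] at h
  have h1 : Nat.card ↥(Set.range N) ≤ 16 := by
    have := Finite.card_subtype_le (fun n : Fin 16 => n ∈ Set.range N)
    rwa [Nat.card_fin] at this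
  have h2 := F.card_bigA_ge
  refine ⟨by omega, fun n => ?_⟩
  have huniv : Set.range N = Set.univ := by
    refine Set.eq_of_subset_of_ncard_le (Set.subset_univ _) ?_ Set.finite_univ
    rw [Set.ncard_univ, Nat.card_fin, ← Nat.card_coe_set_eq]
    omega
  obtain ⟨d, rfl⟩ : n ∈ Set.range N := huniv ▸ Set.mem_univ n
  exact ⟨d.1, d.2, hN d⟩

omit hg [Finite G] in
theorem conj_planeSub {c w : ↥(Subgroup.centralizer ({z} : Set G))} (hc : c ∈ F.stabC) (hw : w ∈ F.planeSub) :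
    c * w * c⁻¹ ∈ F.planeSub := by
  obtain ⟨h, hW⟩ := hw
  refine ⟨F.large.conj_mem (mem_C_commute c) h, ?_⟩
  show InW (F.ψ ⟨(c : G) * w * (c : G)⁻¹, F.large.conj_mem (mem_C_commute c) h⟩)
  rw [← F.act_conj c ⟨w, h⟩ ⟨_, F.large.conj_mem (mem_C_commute c) h⟩ rfl]
  exact (hc _).2 hW

omit hg [Finite G] in
theorem conj_bigA {c d : ↥(Subgroup.centralizer ({z} : Set G))} (hc : c ∈ F.stabC) (hd : d ∈ F.bigA) :
    c * d * c⁻¹ ∈ F.bigA := by
  rw [bigA, Subgroup.mem_centralizer_iff] at hd ⊢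
  intro w hw
  have h := hd _ (F.conj_planeSub (inv_mem hc) hw)
  rw [inv_inv] at h
  calc w * (c * d * c⁻¹) = c * ((c⁻¹ * w * c) * d) * c⁻¹ := by group
    _ = c * (d * (c⁻¹ * w * c)) * c⁻¹ := by rw [h]
    _ = c * d * c⁻¹ * w := by group

omit hg [Finite G] in
theorem lift_stabC {t : CfsgLib.Sporadic.U43Triple.G} (ht : t ∈ stabW) :
    ∃ c ∈ F.stabC, ∀ v, F.act c v = mat t *ᵥ v := by
  obtain ⟨c, -, hc⟩ := F.lift t ht.1
  exact ⟨c, fun v => by rw [hc]; exact ht.2 v, hc⟩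

omit hg [Finite G] in
theorem sq_congr {d d' : ↥(Subgroup.centralizer ({z} : Set G))} (hd : d ∈ F.bigA) (hd' : d' ∈ F.bigA)
    (h : F.act d = F.act d') : d' * d' = d * d := by
  have hw : d⁻¹ * d' ∈ F.planeSub := F.bigA_inf (mul_mem (inv_mem hd) hd')
    ((F.act_eq_one _).1 (by rw [_root_.map_mul, map_inv, h, inv_mul_cancel]))
  have hc : d⁻¹ * d' * d = d * (d⁻¹ * d') := Subgroup.mem_centralizer_iff.1 hd _ hw
  calc d' * d' = d * (d⁻¹ * d' * d) * (d⁻¹ * d') := by group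
    _ = d * (d * (d⁻¹ * d')) * (d⁻¹ * d') := by rw [hc]
    _ = d * d * ((d⁻¹ * d') * (d⁻¹ * d')) := by group
    _ = d * d := by rw [F.planeSub_sq hw, mul_one]

theorem bigA_sq {d : ↥(Subgroup.centralizer ({z} : Set G))} (hd : d ∈ F.bigA) : d * d = 1 := by
  classical
  choose e he hen using (F.bigA_counts hg).2
  have hcongr : ∀ {c}, c ∈ F.bigA → ∀ {n}, F.ActsAs c n → c * c = e n * e n := fun {c} hc {n} hn =>
    F.sq_congr (he n) hc (Equiv.ext fun v => by rw [hen n, hn])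
  have hzero : ∀ n, ((e n * e n : ↥(Subgroup.centralizer ({z} : Set G))) : G) ∈ Subgroup.zpowers z := by
    intro n
    have hq : ((e n * e n : ↥(Subgroup.centralizer ({z} : Set G))) : G) ∈ Q := by
      have hu : ∀ n, uAdd n n = 0 := by decide +kernel
      rw [← F.actsAs_zero, ← hu n]
      exact F.actsAs_mul (hen n) (hen n)
    obtain ⟨c, hc, hcv⟩ := F.lift_stabC (scal_stabW F4.om (by decide +kernel))
    have h1 : F.ActsAs (c * e n * c⁻¹) n := fun v => by
      obtain ⟨u, rfl⟩ : ∃ u, F.act c u = v := (F.act c).surjective v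
      rw [← Equiv.Perm.mul_apply, ← _root_.map_mul, inv_mul_cancel_right, _root_.map_mul, Equiv.Perm.mul_apply,
        hen, hcv, hcv, mat_scal, mat_scal, Matrix.mulVec_smul]
    have h2 := hcongr (F.conj_bigA hc (he n)) h1
    rw [conj_mul] at h2
    have h3 := F.act_conj c ⟨_, hq⟩ ⟨_, hq⟩ (congrArg Subtype.val h2).symm
    rw [hcv, mat_scal] at h3
    rw [← F.eq_zero ⟨_, hq⟩]
    funext i
    have key : ∀ x : F4, F4.om * x = x → x = 0 := by decide +kernel
    exact key _ (congrFun h3 i)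
  have hconst : ∀ n, n ≠ 0 → e n * e n = e 1 * e 1 := fun n hn => by
    refine ua_induction (p := fun n => e n * e n = e 1 * e 1) rfl (fun k m hm => ?_) hn
    obtain ⟨c, hc, hcv⟩ := F.lift_stabC (selElt_mem k)
    have h1 : F.ActsAs (c * e m * c⁻¹) (idx16 (planeConj.getD k.1 []) m) := fun v => by
      obtain ⟨u, rfl⟩ : ∃ u, F.act c u = v := (F.act c).surjective v
      rw [← Equiv.Perm.mul_apply, ← _root_.map_mul, inv_mul_cancel_right, _root_.map_mul, Equiv.Perm.mul_apply,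
        hen, hcv, hcv, Matrix.mulVec_mulVec, Matrix.mulVec_mulVec, ← mat_mul, ← mat_mul, selElt_conj]
    rw [← hcongr (F.conj_bigA hc (he m)) h1, conj_mul, hm]
    refine Subtype.ext ?_
    rw [Subgroup.coe_mul, Subgroup.coe_mul, Subgroup.coe_inv]
    rcases F.large.eq_or (hzero 1) with h2 | h2 <;> rw [h2]
    · simp
    · rw [(mem_C_commute c).eq, mul_inv_cancel_right]
  have h1 : e 1 * e 1 = 1 := by
    rcases F.large.eq_or (hzero 1) with h2 | h2
    · exact Subtype.ext h2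
    exfalso
    have hz1 : e 1 * e 1 = zC := Subtype.ext h2
    have hzz : (zC : ↥(Subgroup.centralizer ({z} : Set G))) * zC = 1 := Subtype.ext F.large.mul_self_z
    have hcz : ∀ x : ↥(Subgroup.centralizer ({z} : Set G)), x * zC = zC * x := fun x => Subtype.ext (mem_C_commute x).eq
    have hsq : ∀ {c}, c ∈ F.bigA → ∀ {n}, F.ActsAs c n → n ≠ 0 → c * c = zC := fun {c} hc {n} hn h0 => by
      rw [hcongr hc hn, hconst n h0, hz1]
    have hswap : ∀ {a b}, a ∈ F.bigA → b ∈ F.bigA → ∀ {n m}, F.ActsAs a n → F.ActsAs b m → n ≠ 0 → m ≠ 0 →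
        uAdd n m ≠ 0 → a * b = zC * (b * a) := by
      intro a b ha hb n m hn hm h0 h0' h00
      have hab := hsq (mul_mem ha hb) (F.actsAs_mul hn hm) h00
      have hia : a⁻¹ = a * zC := inv_eq_of_mul_eq_one_right (by rw [← mul_assoc, hsq ha hn h0, hzz])
      have hib : b⁻¹ = b * zC := inv_eq_of_mul_eq_one_right (by rw [← mul_assoc, hsq hb hm h0', hzz])
      calc a * b = a * b * (a * b) * (b⁻¹ * a⁻¹) := by group
        _ = zC * (b * zC * (a * zC)) := by rw [hab, hia, hib]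
        _ = zC * (b * (zC * a) * zC) := by group
        _ = zC * (b * (a * zC) * zC) := by rw [hcz a]
        _ = zC * (b * a) := by rw [mul_assoc b, mul_assoc a, hzz, mul_one]
    have d1 := hswap (he 1) (he 2) (hen 1) (hen 2) (by decide) (by decide) (by decide)
    have d2 := hswap (he 1) (he 4) (hen 1) (hen 4) (by decide) (by decide) (by decide)
    have d3 := hswap (he 1) (mul_mem (he 2) (he 4)) (hen 1) (F.actsAs_mul (hen 2) (hen 4)) (by decide) (by decide)
      (by decide)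
    have d4 : e 1 * (e 2 * e 4) = e 2 * e 4 * e 1 := by
      calc e 1 * (e 2 * e 4) = e 1 * e 2 * e 4 := by group
        _ = zC * (e 2 * (e 1 * e 4)) := by rw [d1]; group
        _ = zC * (e 2 * zC) * (e 4 * e 1) := by rw [d2]; group
        _ = e 2 * e 4 * e 1 := by rw [hcz, ← mul_assoc zC, hzz, one_mul, mul_assoc]
    exact F.large.z_ne_one (congrArg Subtype.val (mul_eq_right.1 (d3.symm.trans d4)))
  obtain ⟨n, hn⟩ := F.exists_actsAs hg (F.bigA_le hd)
  by_cases h0 : n = 0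
  · exact F.planeSub_sq (F.bigA_inf hd (F.actsAs_zero.1 (h0 ▸ hn)))
  · rw [hcongr hd hn, hconst n h0, h1]

end Finite

end Coord

end CfsgLib.ThreeTrans.LargeFischer
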