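import Cfsg.Agent.Lib.ThreeTrans.LargeFischer.OrthStab
import Cfsg.Agent.Lib.ThreeTrans.LargeFischer.Stabiliser

/-!
The stabiliser of an involution of the small class modulo `Q` is the orthogonal group of minus type in
dimension six over two elements (owner: helper28).
-/

set_option autoImplicit false
set_option maxHeartbeats 1000000
set_option maxRecDepth 100000

namespace CfsgLib.ThreeTrans.LargeFischer

open Matrix Cfsg
open CfsgLib.Recog.SporBound.Fi22U6 (F4)
open CfsgLib.Sporadic.U43Triple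
open CfsgLib.ThreeTrans.LargeFischer.OrthSix (P4 card_P4 eq_one_of_central card_aut_le q6 nonempty_aut)

/-- A diagonal element fixing the root whose trace is moved by the field automorphism. -/
def probeVec : Fin 6 → F4 := ![1, 1, F4.om, F4.om, F4.om, 1]

theorem probe_ok : DiagOK probeVec := by decide +kernel

theorem probe_facts : diagonal probeVec *ᵥ rootA = rootA ∧
    Matrix.trace (diagonal probeVec : Mat) ≠ Matrix.trace (diagonal probeVec * diagonal probeVec : Mat) ∧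
    ∀ i, cj (probeVec (Equiv.swap (0 : Fin 6) 1 i)) = probeVec i * probeVec i := by
  decide +kernel

namespace Coord

variable {G : Type*} [Group G] [Finite G] {z : G} {Q : Subgroup G} (F : Coord z Q)

/-- The elements fixing the root of the small class. -/
def fixA : Subgroup ↥(Subgroup.centralizer ({z} : Set G)) :=
  (MulAction.stabilizer (Equiv.Perm V6) rootA).comap F.act

theorem mem_fixA {c : ↥(Subgroup.centralizer ({z} : Set G))} : c ∈ F.fixA ↔ F.act c rootA = rootA := Iff.rfl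

theorem outer_probe {c : ↥(Subgroup.centralizer ({z} : Set G))}
    (hg : ∃ g : G, g * z * g⁻¹ ∈ Q ∧ g * z * g⁻¹ ≠ z) (hc : c ∉ F.M)
    {m : ↥(Subgroup.centralizer ({z} : Set G))} (hm : ∀ v, F.act m v = mat (dElt probeVec probe_ok) *ᵥ v) :
    F.act c * F.act m ≠ F.act m * F.act c := by
  intro h
  obtain ⟨t, -, ht⟩ := F.outer_form hg c hc
  have hD : ∀ v : V6, outV (true, true) (diagonal probeVec *ᵥ v) =
      (diagonal probeVec * diagonal probeVec) *ᵥ outV (true, true) v := by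
    intro v
    funext i
    rw [Matrix.diagonal_mul_diagonal, Matrix.mulVec_diagonal]
    show cj ((diagonal probeVec *ᵥ v) (Equiv.swap (0 : Fin 6) 1 i)) = _ * cj (v (Equiv.swap (0 : Fin 6) 1 i))
    rw [Matrix.mulVec_diagonal, cj_mul, probe_facts.2.2]
  have key : mat t * (diagonal probeVec * diagonal probeVec) = diagonal probeVec * mat t := by
    refine Matrix.toLin'.injective (LinearMap.ext fun w => ?_)
    obtain ⟨v, rfl⟩ := outV_surjective (true, true) w
    have := congrArg (fun p : Equiv.Perm V6 => p v) h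
    simp only [Equiv.Perm.mul_apply, ht, hm, mat_dElt, hD, Matrix.mulVec_mulVec] at this
    simpa using this
  have htr := congrArg (fun A => Matrix.trace (star' (mat t) * A)) key
  rw [← mul_assoc (star' (mat t)) (mat t), star_mul_self, one_mul, Matrix.trace_mul_comm (star' (mat t)), mul_assoc,
    mul_eq_one_comm.1 (star_mul_self t), mul_one] at htr
  exact probe_facts.2.1 htr.symm

theorem stab_iso (hg : ∃ g : G, g * z * g⁻¹ ∈ Q ∧ g * z * g⁻¹ ≠ z) (a : ↥Q) (ha : F.ψ a = rootA) :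
    Nonempty (↥(F.fixA.map F.act) ≃* ↥(Cfsg.isometryGroup (ZMod 2) q6)) := by
  classical
  haveI : F.M.Normal := Subgroup.normal_of_index_eq_two F.index
  obtain ⟨eA⟩ := exists_equiv
  set Y := F.fixA.map F.act with hY
  set N := ((F.fixA ⊓ F.M).map F.act).subgroupOf Y with hN
  haveI hNn : N.Normal := by
    refine ⟨?_⟩
    rintro ⟨_, hn⟩ hnN ⟨_, c, hc, rfl⟩
    obtain ⟨n, ⟨hnA, hnM⟩, rfl⟩ := Subgroup.mem_subgroupOf.1 hnN
    refine Subgroup.mem_subgroupOf.2 ⟨c * n * c⁻¹, ⟨F.fixA.mul_mem (F.fixA.mul_mem hc hnA) (F.fixA.inv_mem hc), ?_⟩, by simp⟩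
    exact Subgroup.Normal.conj_mem inferInstance n hnM c
  have hex : ∀ n : ↥N, ∃ t : ↥stabA, ∀ v, (n.1.1 : Equiv.Perm V6) v = mat t.1 *ᵥ v := by
    intro n
    obtain ⟨c, ⟨hA, hM⟩, e⟩ := Subgroup.mem_subgroupOf.1 n.2
    obtain ⟨t, ht, h⟩ := F.act_M c hM
    exact ⟨⟨t, ht, by rw [← h]; exact hA⟩, fun v => by rw [← h v, e]⟩
  choose τ hτ using hex
  let φ : ↥N →* ↥stabA := MonoidHom.mk' τ fun x y => Subtype.ext (mulVec_ext fun v => by
    rw [Subgroup.coe_mul, mat_mul, ← Matrix.mulVec_mulVec, ← hτ, ← hτ, ← hτ]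
    rfl)
  have hlift : ∀ t : ↥stabA, ∃ c, c ∈ F.fixA ∧ c ∈ F.M ∧ ∀ v, F.act c v = mat t.1 *ᵥ v := fun t => by
    obtain ⟨c, hc, e⟩ := F.lift t.1 t.2.1
    exact ⟨c, by rw [F.mem_fixA, e]; exact t.2.2, hc, e⟩
  have hφ : Function.Bijective φ := by
    refine ⟨fun x y e => ?_, fun t => ?_⟩
    · refine Subtype.ext (Subtype.ext (Equiv.ext fun v => ?_))
      rw [hτ, hτ]
      exact congrArg (fun t : ↥stabA => mat t.1 *ᵥ v) e
    · obtain ⟨c, hA, hM, e⟩ := hlift t
      exact ⟨⟨⟨F.act c, c, hA, rfl⟩, Subgroup.mem_subgroupOf.2 ⟨c, ⟨hA, hM⟩, rfl⟩⟩,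
        Subtype.ext (mulVec_ext fun v => (hτ _ v).symm.trans (e v))⟩
  let e' : ↥N ≃* P4 := (MulEquiv.ofBijective φ hφ).trans eA
  let Θ : ↥Y →* MulAut P4 := (MulAut.congr e').toMonoidHom.comp MulAut.conjNormal
  have hΘ : Function.Injective Θ := by
    rw [injective_iff_map_eq_one]
    intro y hy
    have hy' : MulAut.conjNormal y = (1 : MulAut ↥N) := (MulAut.congr e').injective (hy.trans (_root_.map_one _).symm)
    have hcomm : ∀ n : ↥N, y * n.1 = n.1 * y := fun n => by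
      have h := congrArg Subtype.val (DFunLike.congr_fun hy' n)
      rw [MulAut.conjNormal_apply, MulAut.one_apply] at h
      exact mul_inv_eq_iff_eq_mul.1 h
    obtain ⟨c, hc, ec⟩ := y.2
    by_cases hM : c ∈ F.M
    · have hyN : y ∈ N := Subgroup.mem_subgroupOf.2 ⟨c, ⟨hc, hM⟩, ec⟩
      have h1 : e' ⟨y, hyN⟩ = 1 := eq_one_of_central fun p => by
        obtain ⟨n, rfl⟩ := e'.surjective p
        rw [← _root_.map_mul, ← _root_.map_mul]
        exact congrArg e' (Subtype.ext (hcomm n))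
      exact congrArg Subtype.val ((map_eq_one_iff e' e'.injective).1 h1)
    · exfalso
      obtain ⟨m, hA, hMm, em⟩ := hlift ⟨dElt probeVec probe_ok, diag_le_triple (dElt_mem _ _),
        probe_facts.1⟩
      refine F.outer_probe hg hM em ?_
      have := hcomm ⟨⟨F.act m, m, hA, rfl⟩, Subgroup.mem_subgroupOf.2 ⟨m, ⟨hA, hMm⟩, rfl⟩⟩
      exact (congrArg (fun p => p * F.act m) ec).trans
        ((congrArg Subtype.val this).trans (congrArg (fun p => F.act m * p) ec.symm))
  -- there is an outer element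
  obtain ⟨c₀, hc₀⟩ : ∃ c, c ∉ F.M := by
    by_contra h
    push Not at h
    have := F.index
    rw [show F.M = ⊤ from eq_top_iff.2 fun x _ => h x, Subgroup.index_top] at this
    omega
  let b : ↥Q := ⟨(c₀ : G) * a * (c₀ : G)⁻¹, F.large.conj_mem (mem_C_commute c₀) a.2⟩
  have hb : F.act c₀ rootA = F.ψ b := by rw [← ha]; exact F.act_conj c₀ a b rfl
  have hbO : Om 1 (F.ψ b) := by rw [← hb, F.om_act]; exact roots_ok.2.2.1
  have hbI : IsoV (F.ψ b) := by
    rw [F.isoV_iff]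
    obtain ⟨h1, h2⟩ := (F.isoV_iff (x := a)).1 (by rw [ha]; exact roots_ok.2.2.2.2.1)
    refine ⟨fun hh => ?_, ?_⟩
    · have h0 : F.ψ b = 0 := (F.eq_zero b).2 hh
      exact (iso_iff _).1 (show IsoV rootA from roots_ok.2.2.2.2.1) |>.1 ((F.act c₀).injective (by
        rw [hb, h0, ← F.map_one,
          F.act_conj c₀ 1 1 (by rw [Subgroup.coe_one, mul_one, mul_inv_cancel])]))
    · show (c₀ : G) * a * (c₀ : G)⁻¹ * ((c₀ : G) * a * (c₀ : G)⁻¹) = 1
      rw [conj_mul, h2, mul_one, mul_inv_cancel]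
  obtain ⟨g, hgt, eg⟩ := orbitA hbI hbO
  obtain ⟨c₁, hc₁, ec₁⟩ := F.lift g hgt
  have hout : c₁⁻¹ * c₀ ∈ F.fixA := by
    rw [F.mem_fixA, _root_.map_mul, Equiv.Perm.mul_apply, hb, ← eg, ← ec₁, ← Equiv.Perm.mul_apply, ← _root_.map_mul,
      inv_mul_cancel, _root_.map_one]
    rfl
  have houtN : (⟨F.act (c₁⁻¹ * c₀), _, hout, rfl⟩ : ↥Y) ∉ N := by
    intro h
    obtain ⟨m, ⟨-, hm⟩, em⟩ := Subgroup.mem_subgroupOf.1 h
    have h1 : c₁⁻¹ * c₀ ∈ F.M := (F.mem_M_iff hg _).2 (by
      obtain ⟨t, ht, e⟩ := F.act_M m hm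
      exact ⟨t, ht, fun v => by rw [← e v]; exact congrArg (fun p : Equiv.Perm V6 => p v) em.symm⟩)
    rw [Subgroup.mul_mem_iff_of_index_two F.index, inv_mem_iff] at h1
    exact hc₀ (h1.1 hc₁)
  have hcY : 51840 ≤ Nat.card ↥Y := by
    have h1 := N.card_mul_index
    rw [Nat.card_congr e'.toEquiv, card_P4] at h1
    have h2 : N.index ≠ 1 := fun h => houtN ((Subgroup.index_eq_one.1 h).ge (Subgroup.mem_top _))
    have h3 : N.index ≠ 0 := Subgroup.index_ne_zero_of_finite
    rw [← h1]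
    calc 51840 = 25920 * 2 := by norm_num
      _ ≤ _ := Nat.mul_le_mul_left _ (by omega)
  have hsurj : Function.Surjective Θ := by
    rw [← MonoidHom.range_eq_top]
    refine Subgroup.eq_top_of_le_card _ (card_aut_le.trans ?_)
    rw [← Nat.card_congr (MonoidHom.ofInjective hΘ).toEquiv]
    exact hcY
  obtain ⟨eO⟩ := nonempty_aut
  exact ⟨(MulEquiv.ofBijective Θ ⟨hΘ, hsurj⟩).trans eO.symm⟩

end Coord

end CfsgLib.ThreeTrans.LargeFischer
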