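import Cfsg.Agent.Lib.ThreeTrans.LargeFischer.PlaneSub

/-!
The largest elementary abelian 2-subgroup of a Sylow 2-subgroup of the centralizer (owner: helper28).
-/

set_option autoImplicit false
set_option maxHeartbeats 1000000
set_option maxRecDepth 100000

namespace CfsgLib.ThreeTrans.LargeFischer

open Matrix Cfsg
open CfsgLib.Recog.SporBound.Fi22U6 (F4)
open CfsgLib.Sporadic.U43Triple

theorem order_four_perm :
    Equiv.swap (0 : Fin 6) 1 * Equiv.swap (1 : Fin 6) 2 * Equiv.swap (2 : Fin 6) 3 * Equiv.swap (4 : Fin 6) 5 ∈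
      alternatingGroup (Fin 6) ∧
    (Equiv.swap (0 : Fin 6) 1 * Equiv.swap (1 : Fin 6) 2 * Equiv.swap (2 : Fin 6) 3 * Equiv.swap (4 : Fin 6) 5) ^ 2 ≠ 1 ∧
    (Equiv.swap (0 : Fin 6) 1 * Equiv.swap (1 : Fin 6) 2 * Equiv.swap (2 : Fin 6) 3 * Equiv.swap (4 : Fin 6) 5) ^ 4 = 1 :=
  ⟨Equiv.Perm.mem_alternatingGroup.2 (by decide +kernel), by decide +kernel, by decide +kernel⟩

/-- Elementary abelian subgroups of the alternating group of degree six have order at most four. -/
theorem alt_six_elementary {E : Subgroup (Equiv.Perm (Fin 6))} (hE : E ≤ alternatingGroup (Fin 6))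
    (hsq : ∀ x ∈ E, x * x = 1) : Nat.card ↥E ≤ 4 := by
  haveI : Fact (Nat.Prime 2) := ⟨Nat.prime_two⟩
  have h360 : Nat.card ↥(alternatingGroup (Fin 6)) = 360 := by
    rw [nat_card_alternatingGroup, Nat.card_fin]; rfl
  set E' := E.subgroupOf (alternatingGroup (Fin 6)) with hE'
  have hp : IsPGroup 2 ↥E' := fun x => ⟨1, by
    rw [pow_one, pow_two]
    exact Subtype.ext (Subtype.ext (hsq _ x.2))⟩
  obtain ⟨k, hk⟩ := IsPGroup.iff_card.1 hp
  rw [← Nat.card_congr (Subgroup.subgroupOfEquivOfLe hE).toEquiv, ← hE', hk]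
  have hdvd := E'.card_subgroup_dvd_card
  rw [hk, h360] at hdvd
  have hk3 : k ≤ 3 := by
    by_contra hc
    have := (Nat.pow_dvd_pow 2 (show 4 ≤ k by omega)).trans hdvd
    norm_num at this
  interval_cases k
  · norm_num
  · norm_num
  · norm_num
  exfalso
  have hidx : ¬ 2 ∣ E'.index := by
    have := E'.card_mul_index
    rw [hk, h360] at this
    omega
  let P : Sylow 2 ↥(alternatingGroup (Fin 6)) := hp.toSylow hidx
  obtain ⟨hA, h2, h4⟩ := order_four_perm
  let x : ↥(alternatingGroup (Fin 6)) := ⟨_, hA⟩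
  obtain ⟨S, hS⟩ := (show IsPGroup 2 ↥(Subgroup.zpowers x) from fun y => ⟨2, by
    obtain ⟨y, i, rfl⟩ := y
    apply Subtype.ext
    show (x ^ i) ^ (2 ^ 2) = 1
    rw [← zpow_natCast, ← _root_.zpow_mul, mul_comm, _root_.zpow_mul, zpow_natCast,
      show x ^ (2 ^ 2) = 1 from Subtype.ext h4, _root_.one_zpow]⟩).exists_le_sylow
  obtain ⟨g, hg⟩ := MulAction.exists_smul_eq ↥(alternatingGroup (Fin 6)) S P
  have h1 : g * x * g⁻¹ ∈ (g • S : Sylow 2 ↥(alternatingGroup (Fin 6))).toSubgroup := by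
    rw [Sylow.coe_subgroup_smul, Subgroup.pointwise_smul_def]
    exact ⟨x, hS (Subgroup.mem_zpowers x), rfl⟩
  rw [hg] at h1
  have h3 : g * x * g⁻¹ * (g * x * g⁻¹) = 1 := Subtype.ext (hsq _ h1)
  rw [conj_mul, conj_eq_one_iff, ← pow_two] at h3
  exact h2 (congrArg Subtype.val h3)

/-- The part of a set of fixed vectors determines a linear map on twice as many. -/
theorem om_split : ∀ a b a' b' : F4, a + F4.om * b = a' + F4.om * b' → a + F4.om' * b = a' + F4.om' * b' →
    a = a' ∧ b = b' := by decide +kernel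

namespace Coord

variable {G : Type*} [Group G] [Finite G] {z : G} {Q : Subgroup G} (F : Coord z Q)

theorem fix_semilinear (hg : ∃ g : G, g * z * g⁻¹ ∈ Q ∧ g * z * g⁻¹ ≠ z)
    {e : ↥(Subgroup.centralizer ({z} : Set G))} (he : e ∉ F.M) {S : Set V6} (hS : ∀ v ∈ S, F.act e v = v) :
    Function.Injective (fun p : ↥S × ↥S => p.1.1 + F4.om • p.2.1) := by
  obtain ⟨t, -, ht⟩ := F.outer_form hg e he
  have himg : ∀ a b : ↥S, F.act e (a.1 + F4.om • b.1) = a.1 + F4.om' • b.1 := fun a b => by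
    rw [ht, outV_add, outV_om_smul, Matrix.mulVec_add, Matrix.mulVec_smul, ← ht, ← ht, hS _ a.2, hS _ b.2]
  rintro ⟨a, b⟩ ⟨a', b'⟩ h
  have h' : a.1 + F4.om' • b.1 = a'.1 + F4.om' • b'.1 := by
    rw [← himg, ← himg]; exact congrArg _ h
  have hi := fun i => om_split _ _ _ _ (congrFun h i) (congrFun h' i)
  exact Prod.ext (Subtype.ext (funext fun i => (hi i).1)) (Subtype.ext (funext fun i => (hi i).2))

theorem card_stabC_counts (hg : ∃ g : G, g * z * g⁻¹ ∈ Q ∧ g * z * g⁻¹ ≠ z) :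
    Nat.card ↥F.stabC = 2 * (Nat.card ↥stabW * 2 ^ 13) ∧
      Nat.card ↥(Subgroup.centralizer ({z} : Set G)) = 2 ^ 21 * 76545 := by
  classical
  choose c hcM hc using fun t : ↥triple => F.lift t.1 t.2
  let f : ↥triple × ↥Q → ↥F.M := fun p =>
    ⟨c p.1 * ⟨p.2, F.large.le_centralizer p.2.2⟩, mul_mem (hcM p.1) (F.mem_M_of_mem hg p.2.2)⟩
  have hact : ∀ p, ∀ v, F.act (f p).1 v = mat p.1.1 *ᵥ v := fun p v => by
    show F.act (c p.1 * _) v = _
    rw [_root_.map_mul, (F.act_eq_one ⟨p.2, F.large.le_centralizer p.2.2⟩).2 p.2.2, mul_one, hc]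
  have hfix : ∀ p q, F.act (f p).1 = F.act (f q).1 → p.1 = q.1 := fun p q e =>
    Subtype.ext (mulVec_ext fun v => by rw [← hact, ← hact, e])
  have hf : Function.Bijective f := by
    constructor
    · intro p q e
      obtain ⟨t, a⟩ := p
      obtain ⟨u, b⟩ := q
      obtain rfl : t = u := hfix (t, a) (u, b) (congrArg (fun x => F.act x.1) e)
      exact Prod.ext rfl (Subtype.ext (congrArg (fun x : ↥(Subgroup.centralizer ({z} : Set G)) => (x : G))
        (mul_left_cancel (congrArg Subtype.val e))))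
    · rintro ⟨d, hd⟩
      obtain ⟨t, ht, e⟩ := F.act_M d hd
      have hq : (((c ⟨t, ht⟩)⁻¹ * d : ↥(Subgroup.centralizer ({z} : Set G))) : G) ∈ Q :=
        (F.act_eq_one _).1 (Equiv.ext fun v => by
          rw [_root_.map_mul, map_inv, Equiv.Perm.mul_apply, Equiv.Perm.inv_eq_iff_eq, e]
          exact (hc ⟨t, ht⟩ v).symm)
      exact ⟨(⟨t, ht⟩, ⟨_, hq⟩), Subtype.ext (mul_inv_cancel_left _ _)⟩
  have hMc : Nat.card ↥F.M = 9797760 * 2 ^ 13 := by
    rw [← Nat.card_congr (Equiv.ofBijective f hf), Nat.card_prod, card_triple, F.card]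
  have hC : Nat.card ↥(Subgroup.centralizer ({z} : Set G)) = 2 ^ 21 * 76545 := by
    rw [← F.M.card_mul_index, F.index, hMc]; norm_num
  refine ⟨?_, hC⟩
  have hsub : ∀ p, (f p).1 ∈ F.stabC ↔ p.1.1 ∈ stabW := fun p => by
    refine ⟨fun h => ⟨p.1.2, fun v => ?_⟩, fun h v => ?_⟩
    · rw [← hact]; exact h v
    · rw [hact]; exact h.2 v
  let g : ↥stabW × ↥Q → ↥(F.M.subgroupOf F.stabC) := fun p =>
    ⟨⟨(f (⟨p.1.1, p.1.2.1⟩, p.2)).1, (hsub _).2 p.1.2⟩, (f (⟨p.1.1, p.1.2.1⟩, p.2)).2⟩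
  have hgb : Function.Bijective g := by
    constructor
    · intro p q e
      have e' := hf.1 (Subtype.ext (congrArg (fun x : ↥(F.M.subgroupOf F.stabC) => x.1.1) e) :
        f (⟨p.1.1, p.1.2.1⟩, p.2) = f (⟨q.1.1, q.1.2.1⟩, q.2))
      exact Prod.ext (Subtype.ext (congrArg (fun x : ↥triple × ↥Q => x.1.1) e')) (congrArg (fun x : ↥triple × ↥Q => x.2) e')
    · rintro ⟨⟨d, hd⟩, hdM⟩
      obtain ⟨p, hp⟩ := hf.2 ⟨d, hdM⟩
      have hp' : (f p).1 = d := congrArg Subtype.val hp
      exact ⟨(⟨p.1.1, (hsub p).1 (hp'.symm ▸ hd)⟩, p.2), Subtype.ext (Subtype.ext hp')⟩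
  have h2 : (F.M.subgroupOf F.stabC).index = 2 := by
    obtain ⟨b, hb⟩ : ∃ b, b ∉ F.M := by
      by_contra h
      push Not at h
      have : F.M = ⊤ := eq_top_iff.2 fun x _ => h x
      have hi := F.index
      rw [this, Subgroup.index_top] at hi
      omega
    obtain ⟨t, ht, htb⟩ := F.outer_form hg b hb
    obtain ⟨d, hdM, hd⟩ := F.lift _ (inv_mem ht)
    have hs : ∀ v, F.act (d * b) v = outV (true, true) v := fun v => by
      rw [_root_.map_mul, Equiv.Perm.mul_apply, htb, hd, Matrix.mulVec_mulVec, ← mat_mul, inv_mul_cancel, mat_one,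
        Matrix.one_mulVec]
    have hinv : ∀ v, outV (true, true) (outV (true, true) v) = v := fun v => funext fun i => by
      show cj (cj (v (Equiv.swap 0 1 (Equiv.swap 0 1 i)))) = v i
      rw [cj_cj, Equiv.swap_apply_self]
    have hW : ∀ v, InW v → InW (outV (true, true) v) := fun v hv =>
      inW_cases (p := fun w => InW (outV (true, true) w)) outV_inW hv
    have hstab : d * b ∈ F.stabC := fun v => by
      rw [hs]; exact ⟨fun h => hinv v ▸ hW _ h, hW v⟩
    have hout : d * b ∉ F.M := by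
      rw [Subgroup.mul_mem_iff_of_index_two F.index]
      exact fun h => hb (h.1 hdM)
    rw [Subgroup.index_eq_two_iff]
    refine ⟨⟨d * b, hstab⟩, fun x => ?_⟩
    simp only [Subgroup.mem_subgroupOf, Subgroup.coe_mul]
    rw [Subgroup.mul_mem_iff_of_index_two F.index]
    by_cases hx : (x : ↥(Subgroup.centralizer ({z} : Set G))) ∈ F.M
    · exact Or.inr ⟨hx, fun h => hout (h.1 hx)⟩
    · exact Or.inl ⟨iff_of_false hx hout, hx⟩
  rw [← (F.M.subgroupOf F.stabC).card_mul_index, h2, ← Nat.card_congr (Equiv.ofBijective g hgb), Nat.card_prod, F.card]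
  exact mul_comm _ _

theorem card_stabC_eq (hg : ∃ g : G, g * z * g⁻¹ ∈ Q ∧ g * z * g⁻¹ ≠ z) :
    Nat.card ↥F.stabC = 2 * (Nat.card ↥stabW * 2 ^ 13) := (F.card_stabC_counts hg).1

theorem card_stabC_dvd (hg : ∃ g : G, g * z * g⁻¹ ∈ Q ∧ g * z * g⁻¹ ≠ z) :
    2 ^ 21 ∣ Nat.card ↥F.stabC ∧ Nat.card ↥(Subgroup.centralizer ({z} : Set G)) = 2 ^ 21 * 76545 := by
  obtain ⟨h1, h2⟩ := F.card_stabC_counts hg
  obtain ⟨k, hk⟩ := card_stabW_dvd
  exact ⟨⟨k, by rw [h1, hk]; ring⟩, h2⟩

theorem eq_bigA_of_zC (hg : ∃ g : G, g * z * g⁻¹ ∈ Q ∧ g * z * g⁻¹ ≠ z)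
    {B : Subgroup ↥(Subgroup.centralizer ({z} : Set G))} (hB : B ≤ F.stabC) (hsq : ∀ x ∈ B, x * x = 1)
    (hzB : zC ∈ B) (hcard : 2 ^ 11 ≤ Nat.card ↥B) : B = F.bigA := by
  classical
  have hinv : ∀ x ∈ B, x⁻¹ = x := fun x hx => inv_eq_of_mul_eq_one_left (hsq x hx)
  have hcomm : ∀ x ∈ B, ∀ y ∈ B, x * y = y * x := fun x hx y hy => by
    rw [← hinv _ (mul_mem hx hy), _root_.mul_inv_rev, hinv y hy, hinv x hx]
  set Q' : Subgroup ↥(Subgroup.centralizer ({z} : Set G)) := Q.subgroupOf (Subgroup.centralizer ({z} : Set G))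
  have hker : ∀ x : ↥(Subgroup.centralizer ({z} : Set G)), x ∈ Q' ↔ F.act x = 1 := fun x =>
    (Subgroup.mem_subgroupOf).trans (F.act_eq_one x).symm
  -- the vectors of the part inside `Q`
  let W' : Set V6 := {v | ∃ q : ↥Q, F.ψ q = v ∧ (⟨q, F.large.le_centralizer q.2⟩ : ↥(Subgroup.centralizer ({z} : Set G))) ∈ B}
  have hfix : ∀ b ∈ B, ∀ v ∈ W', F.act b v = v := by
    rintro b hb _ ⟨q, rfl, hq⟩
    refine F.act_conj b q q ?_
    have h := congrArg Subtype.val (hcomm b hb _ hq)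
    change (b : G) * q = q * b at h
    rw [h, mul_inv_cancel_right]
  have hB0 : Nat.card ↥(B ⊓ Q') ≤ 2 * Nat.card ↥W' := by
    choose s hs hsB using fun v : ↥W' => v.2
    let f : ↥(B ⊓ Q') → Fin 2 × ↥W' := fun x =>
      let v : ↥W' := ⟨F.ψ ⟨x.1, x.2.2⟩, _, rfl, x.2.1⟩
      (if (x.1 : G) = s v then 0 else 1, v)
    have hf : Function.Injective f := by
      rintro ⟨x, hx⟩ ⟨y, hy⟩ e
      have e2 : (⟨F.ψ ⟨x, hx.2⟩, _, rfl, hx.1⟩ : ↥W') = ⟨F.ψ ⟨y, hy.2⟩, _, rfl, hy.1⟩ := congrArg Prod.snd e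
      have e1 := congrArg Prod.fst e
      simp only [f, e2] at e1
      have hp : ∀ w : ↥Q, ∀ v : ↥W', F.ψ w = v.1 → (w : G) = s v ∨ (w : G) = z * s v := fun w v h =>
        F.eq_or_of_eq ((hs v).trans h.symm)
      refine Subtype.ext (Subtype.ext ?_)
      rcases hp ⟨x, hx.2⟩ ⟨_, _, rfl, hy.1⟩ (congrArg Subtype.val e2) with h1 | h1 <;>
        rcases hp ⟨y, hy.2⟩ ⟨_, _, rfl, hy.1⟩ rfl with h2 | h2
      · exact h1.trans h2.symm
      · rw [if_pos h1, if_neg] at e1
        · exact absurd e1 (by decide)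
        · intro h3
          exact F.large.z_ne_one (mul_eq_right.1 (h2.symm.trans h3))
      · rw [if_pos h2, if_neg] at e1
        · exact absurd e1 (by decide)
        · intro h3
          exact F.large.z_ne_one (mul_eq_right.1 (h1.symm.trans h3))
      · exact h1.trans h2.symm
    have h := Nat.card_le_card_of_injective f hf
    rwa [Nat.card_prod, Nat.card_fin] at h
  have hB0' : Nat.card ↥(B ⊓ Q') ≤ 2 ^ 7 := by
    haveI : Fact (Nat.Prime 2) := ⟨Nat.prime_two⟩
    let A : Subgroup ↥Q := ((B ⊓ Q').map (Subgroup.centralizer ({z} : Set G)).subtype).subgroupOf Q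
    have hle : (B ⊓ Q').map (Subgroup.centralizer ({z} : Set G)).subtype ≤ Q := by
      rintro _ ⟨x, hx, rfl⟩; exact hx.2
    have hcA : Nat.card ↥A = Nat.card ↥(B ⊓ Q') := by
      rw [Nat.card_congr (Subgroup.subgroupOfEquivOfLe hle).toEquiv, Subgroup.card_subtype]
    have hZ : Subgroup.center Q ≤ A := fun q hq => by
      rw [F.large.center_mem_iff] at hq
      rcases F.large.eq_or hq with e | e
      · exact Subgroup.mem_subgroupOf.2 (e ▸ one_mem _)
      · exact Subgroup.mem_subgroupOf.2 ⟨zC, ⟨hzB, F.large.z_mem⟩, e.symm⟩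
    have hab : A ≤ Subgroup.centralizer (A : Set ↥Q) := by
      rintro a ⟨x, hx, ex⟩
      rw [Subgroup.mem_centralizer_iff]
      rintro b ⟨y, hy, ey⟩
      refine Subtype.ext ?_
      show (b : G) * a = a * b
      rw [show (a : G) = x from ex.symm, show (b : G) = y from ey.symm]
      exact congrArg Subtype.val (hcomm y hy.1 x hx.1)
    have h1 := CfsgLib.PGroups.IsExtraspecial.card_centralizer_mul_card F.large.hE hZ
    have h2 : Nat.card ↥A ≤ Nat.card ↥(Subgroup.centralizer (A : Set ↥Q)) :=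
      Nat.card_le_card_of_injective _ (Subgroup.inclusion_injective hab)
    rw [F.card] at h1
    rw [← hcA]
    by_contra hc
    have h3 : (2 ^ 7 + 1) * (2 ^ 7 + 1) ≤ Nat.card ↥(Subgroup.centralizer (A : Set ↥Q)) * Nat.card ↥A :=
      Nat.mul_le_mul (by omega) (by omega)
    omega
  have hsplit : Nat.card ↥B = Nat.card ↥(B.map F.act) * Nat.card ↥(B ⊓ Q') := by
    have h1 : Nat.card ↥(F.act.comp B.subtype).ker = Nat.card ↥(B ⊓ Q') := Nat.card_congr
      { toFun := fun k => ⟨k.1.1, k.1.2, (hker _).2 k.2⟩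
        invFun := fun q => ⟨⟨q.1, q.2.1⟩, (hker _).1 q.2.2⟩
        left_inv := fun k => rfl
        right_inv := fun q => rfl }
    rw [Subgroup.card_eq_card_quotient_mul_card_subgroup (F.act.comp B.subtype).ker,
      Nat.card_congr (QuotientGroup.quotientKerEquivRange (F.act.comp B.subtype)).toEquiv, MonoidHom.range_comp,
      Subgroup.range_subtype, h1]
  -- the linear part
  set E := F.tripleImage B with hEdef
  have hEstab : E ≤ stabW := by
    rintro t ⟨ht, e, he, het⟩
    exact ⟨ht, fun v => by rw [← het]; exact hB he v⟩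
  have hEsq : ∀ t ∈ E, t * t = 1 := by
    rintro t ⟨ht, e, he, het⟩
    refine mulVec_ext fun v => ?_
    rw [mat_mul, ← Matrix.mulVec_mulVec, ← het, ← het, ← Equiv.Perm.mul_apply, ← _root_.map_mul, hsq e he,
      _root_.map_one, mat_one, Matrix.one_mulVec]
    rfl
  have hEfix : ∀ t ∈ E, ∀ v ∈ W', mat t *ᵥ v = v := by
    rintro t ⟨ht, e, he, het⟩ v hv
    rw [← het, hfix e he v hv]
  have hEcomm : ∀ t ∈ E, ∀ u ∈ E, t * u = u * t := fun t ht u hu => by
    have hi : ∀ x ∈ E, x⁻¹ = x := fun x hx => inv_eq_of_mul_eq_one_left (hEsq x hx)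
    rw [← hi _ (mul_mem ht hu), _root_.mul_inv_rev, hi u hu, hi t ht]
  have hEcard : Nat.card ↥E ≤ 4 * Nat.card ↥(E ⊓ fixW) := by
    let φ : ↥(E.subgroupOf stabW) →* Equiv.Perm (Fin 6) := hexHom.comp (E.subgroupOf stabW).subtype
    have h1 : Nat.card ↥φ.range ≤ 4 := alt_six_elementary
      (by rintro _ ⟨x, rfl⟩; exact hexHom_range ▸ ⟨x.1, rfl⟩)
      (by rintro _ ⟨x, rfl⟩; rw [← _root_.map_mul, show x * x = 1 from Subtype.ext (Subtype.ext (hEsq _ x.2)),
            _root_.map_one])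
    have hk : ∀ k : ↥φ.ker, (k.1.1 : CfsgLib.Sporadic.U43Triple.G) ∈ E ⊓ fixW := fun k => by
      refine ⟨k.1.2, ?_⟩
      obtain ⟨a, ha, n, hn⟩ := hexHom_eq_one (g := k.1.1) k.2
      have h2 := hEsq _ k.1.2
      change (k.1.1 : CfsgLib.Sporadic.U43Triple.G) = _ at hn
      change (k.1.1 : CfsgLib.Sporadic.U43Triple.G) * k.1.1 = 1 at h2
      rw [hn] at h2
      have h3 := congrArg (fun g => mat g *ᵥ bW 0) h2
      simp only [mat_mul, ← Matrix.mulVec_mulVec, uaElt_fix n (bW_mem 0), mat_scal, Matrix.mulVec_smul, mat_one,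
        Matrix.one_mulVec] at h3
      have h4 := congrFun h3 0
      have key : ∀ a : F4, a • (a • bW 0) 0 = bW 0 0 → a = 1 := by decide +kernel
      obtain rfl := key a h4
      refine (⟨hEstab k.1.2 |>.1, fun v hv => ?_⟩ : (k.1.1 : CfsgLib.Sporadic.U43Triple.G) ∈ fixW)
      rw [hn, mat_mul, ← Matrix.mulVec_mulVec, uaElt_fix n hv, mat_scal, one_smul]
    have h2 : Nat.card ↥φ.ker ≤ Nat.card ↥(E ⊓ fixW) :=
      Nat.card_le_card_of_injective (fun k => (⟨_, hk k⟩ : ↥(E ⊓ fixW))) fun k l e =>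
        Subtype.ext (Subtype.ext (Subtype.ext (congrArg (fun x : ↥(E ⊓ fixW) => x.1) e)))
    rw [← Nat.card_congr (Subgroup.subgroupOfEquivOfLe hEstab).toEquiv,
      Subgroup.card_eq_card_quotient_mul_card_subgroup φ.ker,
      Nat.card_congr (QuotientGroup.quotientKerEquivRange φ).toEquiv]
    exact Nat.mul_le_mul h1 h2
  have hfix16 : Nat.card ↥(E ⊓ fixW) ≤ 16 :=
    card_fixW ▸ Nat.card_le_card_of_injective _ (Subgroup.inclusion_injective inf_le_right)
  have hinW : 3 ≤ Nat.card ↥(E ⊓ fixW) → ∀ v ∈ W', InW v := by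
    intro h3 v hv
    obtain ⟨a, ha⟩ : ∃ a : ↥(E ⊓ fixW), a ≠ 1 := by
      by_contra hc
      push Not at hc
      haveI : Subsingleton ↥(E ⊓ fixW) := ⟨fun x y => by rw [hc x, hc y]⟩
      rw [Nat.card_of_subsingleton (1 : ↥(E ⊓ fixW))] at h3
      omega
    obtain ⟨b, hb, hba⟩ : ∃ b : ↥(E ⊓ fixW), b ≠ 1 ∧ b ≠ a := by
      by_contra hc
      push Not at hc
      have : (Set.univ : Set ↥(E ⊓ fixW)) ⊆ {1, a} := fun x _ => by
        by_cases hx : x = 1
        · exact Or.inl hx
        · exact Or.inr (hc x hx)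
      have h4 := Set.ncard_le_ncard this
      rw [Set.ncard_univ, Set.ncard_pair (Ne.symm ha)] at h4
      omega
    obtain ⟨n, hn⟩ := fixW_eq a.2.2
    obtain ⟨m, hm⟩ := fixW_eq b.2.2
    refine common_fix (a := n) (b := m) (fun e => ha (Subtype.ext (by rw [hn, e, uaElt_zero]; rfl)))
      (fun e => hb (Subtype.ext (by rw [hm, e, uaElt_zero]; rfl))) (fun e => hba (Subtype.ext (by rw [hm, hn, e])))
      (by rw [← hn]; exact hEfix _ a.2.1 v hv) (by rw [← hm]; exact hEfix _ b.2.1 v hv)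
  have hbig : 64 ≤ Nat.card ↥E → False := by
    intro h64
    have h16 : fixW ≤ E := by
      have : E ⊓ fixW = fixW := Subgroup.eq_of_le_of_card_ge inf_le_right (by rw [card_fixW]; omega)
      exact this ▸ inf_le_left
    have hle : E ≤ fixW := fun t ht => by
      obtain ⟨a, ha, n, hn⟩ := hexHom_eq_one (g := ⟨t, hEstab ht⟩) (hexHom_of_comm fun n =>
        hEcomm t ht _ (h16 (uaElt_mem n)))
      change t = scal a ha * uaElt n at hn
      have h2 : scal a ha ∈ E := by
        rw [show scal a ha = t * (uaElt n)⁻¹ by rw [hn, mul_inv_cancel_right]]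
        exact mul_mem ht (inv_mem (h16 (uaElt_mem n)))
      have h3 := congrArg (fun g => (mat g *ᵥ bW 0) 0) (hEsq _ h2)
      simp only [mat_mul, ← Matrix.mulVec_mulVec, mat_scal, Matrix.mulVec_smul, mat_one, Matrix.one_mulVec] at h3
      have key : ∀ a : F4, (a • a • bW 0) 0 = bW 0 0 → a = 1 := by decide +kernel
      obtain rfl := key a h3
      refine ⟨(hEstab ht).1, fun v hv => ?_⟩
      rw [hn, mat_mul, ← Matrix.mulVec_mulVec, uaElt_fix n hv, mat_scal, one_smul]
    have := Nat.card_le_card_of_injective _ (Subgroup.inclusion_injective hle)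
    rw [card_fixW] at this
    omega
  by_cases hlin : B ≤ F.M
  · -- all elements are linear
    have hBE : Nat.card ↥(B.map F.act) ≤ Nat.card ↥E := by
      have hex : ∀ p : ↥(B.map F.act), ∃ t : ↥E, ∀ v, (p : Equiv.Perm V6) v = mat t.1 *ᵥ v := by
        rintro ⟨_, e, he, rfl⟩
        obtain ⟨t, ht, hte⟩ := F.act_M e (hlin he)
        exact ⟨⟨t, ht, e, he, hte⟩, hte⟩
      choose f hf using hex
      exact Nat.card_le_card_of_injective f fun p q e => Subtype.ext (Equiv.ext fun v => by rw [hf, hf, e])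
    have h16 : 16 ≤ Nat.card ↥E := by
      by_contra hc
      have := Nat.mul_le_mul (show Nat.card ↥(B.map F.act) ≤ 15 by omega) hB0'
      omega
    have hW := hinW (by omega)
    by_cases hle : E ≤ fixW
    · have hE16 : Nat.card ↥E ≤ 16 :=
        card_fixW ▸ Nat.card_le_card_of_injective _ (Subgroup.inclusion_injective hle)
      have h128 : 2 ^ 7 ≤ Nat.card ↥(B ⊓ Q') := by
        by_contra hc
        have := Nat.mul_le_mul (hBE.trans hE16) (show Nat.card ↥(B ⊓ Q') ≤ 2 ^ 7 - 1 by omega)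
        omega
      have hsub : B ⊓ Q' ≤ F.planeSub := fun x hx => ⟨hx.2, hW _ ⟨⟨x, hx.2⟩, rfl, hx.1⟩⟩
      have heq : B ⊓ Q' = F.planeSub := Subgroup.eq_of_le_of_card_ge hsub (by rw [F.card_planeSub]; exact h128)
      have hBA : B ≤ F.bigA := fun b hb => Subgroup.mem_centralizer_iff.2 fun w hw => by
        have hw' : w ∈ B ⊓ Q' := heq.ge hw
        exact hcomm w hw'.1 b hb
      exact Subgroup.eq_of_le_of_card_ge hBA (by rw [(F.bigA_counts hg).1]; exact hcard)
    · exfalso
      obtain ⟨t, ht, htf⟩ := SetLike.not_le_iff_exists.1 hle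
      obtain ⟨w0, hw0, hne⟩ : ∃ w0, InW w0 ∧ mat t *ᵥ w0 ≠ w0 := by
        by_contra hc
        push Not at hc
        exact htf ⟨(hEstab ht).1, hc⟩
      have hinj : Function.Injective fun p : ↥W' × F4 =>
          (⟨p.1.1 + p.2 • w0, inW_add (hW _ p.1.2) (inW_smul _ hw0)⟩ : {v : V6 // InW v}) := by
        rintro ⟨v, a⟩ ⟨v', a'⟩ e
        have e1 : v.1 + a • w0 = v'.1 + a' • w0 := congrArg Subtype.val e
        have e2 := congrArg (fun u => mat t *ᵥ u) e1
        simp only [Matrix.mulVec_add, Matrix.mulVec_smul, hEfix t ht _ v.2, hEfix t ht _ v'.2] at e2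
        have hcase : a = a' := by
          by_contra hne'
          refine hne (funext fun i => ?_)
          have key : ∀ p p' a a' x y : F4, p + a * x = p' + a' * x → p + a * y = p' + a' * y → a ≠ a' → y = x := by
            decide +kernel
          exact key _ _ _ _ _ _ (congrFun e1 i) (congrFun e2 i) hne'
        subst hcase
        exact Prod.ext (Subtype.ext (add_right_cancel e1)) rfl
      have h4 := Nat.card_le_card_of_injective _ hinj
      rw [Nat.card_prod, card_inW, Nat.card_eq_fintype_card (α := F4), F4.card] at h4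
      refine hbig ?_
      by_contra hc
      have := Nat.mul_le_mul (show Nat.card ↥(B.map F.act) ≤ 63 by omega) (show Nat.card ↥(B ⊓ Q') ≤ 32 by omega)
      omega
  · exfalso
    obtain ⟨e, he, heM⟩ := SetLike.not_le_iff_exists.1 hlin
    have hinj := F.fix_semilinear hg heM (S := W') fun v hv => hfix e he v hv
    have hhalf : Nat.card ↥(B.map F.act) ≤ 2 * Nat.card ↥E := F.half_le_tripleImage B
    have hV : Nat.card V6 = 4096 := by
      rw [Nat.card_fun, Nat.card_fin, Nat.card_eq_fintype_card, F4.card]; norm_num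
    have h64 : Nat.card ↥W' * Nat.card ↥W' ≤ 64 * 64 := by
      have := Nat.card_le_card_of_injective _ hinj
      rw [Nat.card_prod, hV] at this
      exact this
    have h8E : 8 ≤ Nat.card ↥E := by
      by_contra hc
      have := Nat.mul_le_mul (show Nat.card ↥(B.map F.act) ≤ 14 by omega) hB0'
      omega
    by_cases h3 : 3 ≤ Nat.card ↥(E ⊓ fixW)
    · have hW := hinW h3
      have h8 : Nat.card ↥W' ≤ 8 := by
        by_contra hc
        have := Nat.card_le_card_of_injective (fun p : ↥W' × ↥W' =>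
          (⟨_, inW_add (hW _ p.1.2) (inW_smul F4.om (hW _ p.2.2))⟩ : {v : V6 // InW v}))
          fun p q e => hinj (congrArg Subtype.val e)
        rw [Nat.card_prod, card_inW] at this
        have := Nat.mul_le_mul (show 9 ≤ Nat.card ↥W' by omega) (show 9 ≤ Nat.card ↥W' by omega)
        omega
      refine hbig ?_
      by_contra hc
      have := Nat.mul_le_mul (show Nat.card ↥(B.map F.act) ≤ 126 by omega) (show Nat.card ↥(B ⊓ Q') ≤ 16 by omega)
      omega
    · have h128 : 64 ≤ Nat.card ↥W' := by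
        by_contra hc
        have := Nat.mul_le_mul (show Nat.card ↥(B.map F.act) ≤ 16 by omega)
          (show Nat.card ↥(B ⊓ Q') ≤ 126 by omega)
        omega
      have hsurj : Function.Surjective fun p : ↥W' × ↥W' => p.1.1 + F4.om • p.2.1 :=
        ((Nat.bijective_iff_injective_and_card _).2 ⟨hinj, by
          rw [Nat.card_prod, hV]
          exact le_antisymm h64 (Nat.mul_le_mul h128 h128)⟩).2
      have hone : E ≤ ⊥ := fun t ht => by
        rw [Subgroup.mem_bot]
        refine mulVec_ext fun v => ?_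
        obtain ⟨p, rfl⟩ := hsurj v
        rw [mat_one, Matrix.one_mulVec, Matrix.mulVec_add, Matrix.mulVec_smul, hEfix t ht _ p.1.2,
          hEfix t ht _ p.2.2]
      have := Nat.card_le_card_of_injective _ (Subgroup.inclusion_injective hone)
      rw [Subgroup.card_bot] at this
      omega

/-- An elementary abelian subgroup of that order in the stabiliser is the centraliser of the preimage. -/
theorem eq_bigA (hg : ∃ g : G, g * z * g⁻¹ ∈ Q ∧ g * z * g⁻¹ ≠ z)
    {B : Subgroup ↥(Subgroup.centralizer ({z} : Set G))} (hB : B ≤ F.stabC) (hsq : ∀ x ∈ B, x * x = 1)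
    (hcard : 2 ^ 11 ≤ Nat.card ↥B) : B = F.bigA := by
  have hzA : zC ∈ F.bigA := F.planeSub_le_bigA F.zC_mem
  let B' : Subgroup ↥(Subgroup.centralizer ({z} : Set G)) :=
    { carrier := {x | x ∈ B ∨ zC * x ∈ B}
      one_mem' := Or.inl (one_mem _)
      mul_mem' := by
        have hc : ∀ x : ↥(Subgroup.centralizer ({z} : Set G)), zC * x = x * zC := fun x =>
          Subtype.ext (mem_C_commute x).eq.symm
        have hzz : (zC : ↥(Subgroup.centralizer ({z} : Set G))) * zC = 1 := Subtype.ext F.large.mul_self_z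
        rintro a b (ha | ha) (hb | hb)
        · exact Or.inl (mul_mem ha hb)
        · exact Or.inr (by have := mul_mem ha hb; rwa [← mul_assoc, ← hc a, mul_assoc] at this)
        · exact Or.inr (by rw [← mul_assoc]; exact mul_mem ha hb)
        · refine Or.inl ?_
          have := mul_mem ha hb
          rwa [mul_assoc, ← mul_assoc a, ← hc a, mul_assoc, ← mul_assoc, hzz, one_mul] at this
      inv_mem' := by
        rintro a (ha | ha)
        · exact Or.inl (inv_mem ha)
        · refine Or.inr ?_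
          have := inv_mem ha
          rw [_root_.mul_inv_rev, show (zC : ↥(Subgroup.centralizer ({z} : Set G)))⁻¹ = zC from
            Subtype.ext F.large.inv_z] at this
          rwa [show zC * a⁻¹ = a⁻¹ * zC from Subtype.ext (mem_C_commute a⁻¹).eq.symm] }
  have hzz : (zC : ↥(Subgroup.centralizer ({z} : Set G))) * zC = 1 := Subtype.ext F.large.mul_self_z
  have hle : B ≤ B' := fun x hx => Or.inl hx
  have hzst : zC ∈ F.stabC := F.uaPre_le (F.bigA_le hzA)
  have h : B' = F.bigA := by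
    refine F.eq_bigA_of_zC hg (fun x hx => ?_) (fun x hx => ?_) (Or.inr (hzz.symm ▸ one_mem _))
      (hcard.trans (Nat.card_le_card_of_injective _ (Subgroup.inclusion_injective hle)))
    · rcases hx with hx | hx
      · exact hB hx
      · have := mul_mem hzst (hB hx)
        rwa [← mul_assoc, hzz, one_mul] at this
    · rcases hx with hx | hx
      · exact hsq x hx
      · have h1 := hsq _ hx
        rw [show zC * x * (zC * x) = zC * (x * zC) * x by simp only [mul_assoc],
          show x * zC = zC * x from Subtype.ext (mem_C_commute x).eq, ← mul_assoc zC, hzz, one_mul] at h1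
        exact h1
  exact Subgroup.eq_of_le_of_card_ge (h ▸ hle) (by rw [(F.bigA_counts hg).1]; exact hcard)

/-- A Sylow 2-subgroup fixes a plane in suitable coordinates. -/
theorem exists_shift_plane (hg : ∃ g : G, g * z * g⁻¹ ∈ Q ∧ g * z * g⁻¹ ≠ z)
    (T : Sylow 2 ↥(Subgroup.centralizer ({z} : Set G))) : ∃ d, (T : Subgroup _) ≤ (F.shift d).stabC := by
  haveI : Fact (Nat.Prime 2) := ⟨Nat.prime_two⟩
  obtain ⟨hdvd, hC⟩ := F.card_stabC_dvd hg
  obtain ⟨S, hS⟩ := Sylow.exists_subgroup_card_pow_prime 2 hdvd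
  have hP : IsPGroup 2 ↥(S.map F.stabC.subtype) := IsPGroup.of_card (n := 21) (by rw [Subgroup.card_subtype, hS])
  have hidx : ¬ 2 ∣ (S.map F.stabC.subtype).index := by
    have := (S.map F.stabC.subtype).card_mul_index
    rw [Subgroup.card_subtype, hS, hC] at this
    omega
  obtain ⟨d, hd⟩ := MulAction.exists_smul_eq ↥(Subgroup.centralizer ({z} : Set G)) T (hP.toSylow hidx)
  refine ⟨d, fun c hc v => ?_⟩
  show InW (F.act (d * c * d⁻¹) v) ↔ InW v
  have h1 : d * c * d⁻¹ ∈ (d • T : Sylow 2 ↥(Subgroup.centralizer ({z} : Set G))).toSubgroup := by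
    rw [Sylow.coe_subgroup_smul, Subgroup.pointwise_smul_def]
    exact ⟨c, hc, rfl⟩
  rw [hd] at h1
  obtain ⟨x, -, hx⟩ := (show d * c * d⁻¹ ∈ S.map F.stabC.subtype from h1)
  exact hx ▸ x.2 v

theorem bigA_le_sylow (hg : ∃ g : G, g * z * g⁻¹ ∈ Q ∧ g * z * g⁻¹ ≠ z)
    (T : Sylow 2 ↥(Subgroup.centralizer ({z} : Set G))) (hT : (T : Subgroup _) ≤ F.stabC) :
    F.bigA ≤ (T : Subgroup _) := by
  haveI : Fact (Nat.Prime 2) := ⟨Nat.prime_two⟩
  have hnorm : (T : Subgroup _) ≤ Subgroup.normalizer (F.bigA : Set ↥(Subgroup.centralizer ({z} : Set G))) := by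
    intro c hc
    rw [Subgroup.mem_normalizer_iff]
    intro d
    refine ⟨F.conj_bigA (hT hc), fun h => ?_⟩
    have h2 := F.conj_bigA (inv_mem (hT hc)) h
    rwa [inv_inv, show c⁻¹ * (c * d * c⁻¹) * c = d by group] at h2
  have hp : IsPGroup 2 ↥F.bigA := IsPGroup.of_card (n := 11) (F.bigA_counts hg).1
  have h := T.is_maximal' (IsPGroup.to_sup_of_normal_right' T.isPGroup' hp hnorm) le_sup_left
  exact le_sup_right.trans h.le

end Coord

end CfsgLib.ThreeTrans.LargeFischer
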