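import Cfsg.Agent.Lib.ThreeTrans.LargeFischer.MathieuHom
import Cfsg.Prelude.Def_Transfer

/-!
The Thompson subgroup of a Sylow 2-subgroup of a group of large Fischer type and its normaliser
(owner: helper28).
-/

set_option autoImplicit false
set_option maxHeartbeats 1000000
set_option maxRecDepth 100000
set_option linter.unusedSectionVars false

namespace CfsgLib.ThreeTrans.LargeFischer

open Cfsg
open scoped Pointwise

variable {G : Type*} [Group G] [Finite G] {z : G}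

theorem exists_thompson {Q : Subgroup ↥(Subgroup.centralizer ({z} : Set G))} [Q.Normal]
    (hF : Cfsg.IsOfLargeFischerTypeAt z Q) (T : Sylow 2 G) :
    ∃ (F : Coord z (Q.map (Subgroup.centralizer ({z} : Set G)).subtype))
      (_ : ∃ g : G, g * z * g⁻¹ ∈ Q.map (Subgroup.centralizer ({z} : Set G)).subtype ∧ g * z * g⁻¹ ≠ z) (g : G),
      Cfsg.thompsonSubgroupOf 2 (T : Subgroup G) = F.bigG.map (MulAut.conj g).toMonoidHom := by
  classical
  haveI : Fact (Nat.Prime 2) := ⟨Nat.prime_two⟩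
  obtain ⟨F₀⟩ := exists_coord hF
  obtain ⟨⟨-, -, -, -, g₀, ⟨hgc, hgQ⟩, hgne⟩, -⟩ := hF
  set QG := Q.map (Subgroup.centralizer ({z} : Set G)).subtype with hQG
  have hg : ∃ g : G, g * z * g⁻¹ ∈ QG ∧ g * z * g⁻¹ ≠ z := ⟨g₀, ⟨⟨_, hgc⟩, hgQ, rfl⟩, hgne⟩
  obtain ⟨S⟩ : Nonempty (Sylow 2 ↥(Subgroup.centralizer ({z} : Set G))) := inferInstance
  obtain ⟨d, hd⟩ := F₀.exists_shift_plane hg S
  set F := F₀.shift d
  -- the kernel lies in every Sylow subgroup
  have hQS : ∀ q ∈ QG, ∃ h : q ∈ Subgroup.centralizer ({z} : Set G),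
      (⟨q, h⟩ : ↥(Subgroup.centralizer ({z} : Set G))) ∈ (S : Subgroup _) := by
    rintro _ ⟨q, hq, rfl⟩
    refine ⟨q.2, ?_⟩
    have hp : IsPGroup 2 ↥Q := IsPGroup.of_card (n := 13) (by
      rw [← F.card, hQG, Subgroup.card_subtype])
    exact le_sup_right.trans_eq (S.is_maximal' (S.isPGroup'.to_sup_of_normal_right hp) le_sup_left) hq
  obtain ⟨R, hR⟩ := (S.isPGroup'.map (Subgroup.centralizer ({z} : Set G)).subtype).exists_le_sylow
  have hRC : (R : Subgroup G) ≤ Subgroup.centralizer ({z} : Set G) := by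
    haveI : Nontrivial ↥(R : Subgroup G) := by
      obtain ⟨h, hz⟩ := hQS z F.large.z_mem
      exact ⟨⟨z, hR ⟨_, hz, rfl⟩⟩, 1, fun e => F.large.z_ne_one (congrArg Subtype.val e)⟩
    haveI := R.isPGroup'.center_nontrivial
    obtain ⟨⟨c, hc⟩, hc1⟩ := exists_ne (1 : Subgroup.center ↥(R : Subgroup G))
    have hcQ : (c : G) ∈ Subgroup.centralizer (QG : Set G) := Subgroup.mem_centralizer_iff.2 fun q hq => by
      obtain ⟨h, hs⟩ := hQS q hq
      exact congrArg Subtype.val (Subgroup.mem_center_iff.1 hc ⟨q, hR ⟨_, hs, rfl⟩⟩)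
    rw [F.large.hcent] at hcQ
    rcases F.large.eq_or hcQ with e | e
    · exact absurd (Subtype.ext (Subtype.ext e) : (⟨c, hc⟩ : Subgroup.center ↥(R : Subgroup G)) = 1) hc1
    · intro r hr
      have h := congrArg Subtype.val (Subgroup.mem_center_iff.1 hc ⟨r, hr⟩)
      change r * (c : G) = (c : G) * r at h
      rw [e] at h
      exact mem_centralizer_singleton_iff'.2 h
  have hRS : ((R : Subgroup G).subgroupOf (Subgroup.centralizer ({z} : Set G))) = (S : Subgroup _) :=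
    S.is_maximal' (R.isPGroup'.comap_of_injective (Subgroup.centralizer ({z} : Set G)).subtype Subtype.val_injective)
      fun s hs => hR ⟨s, hs, rfl⟩
  have hAR : F.bigG ≤ (R : Subgroup G) := by
    rintro _ ⟨a, ha, rfl⟩
    exact hR ⟨a, F.bigA_le_sylow hg S hd ha, rfl⟩
  obtain ⟨g, hgRT⟩ := MulAction.exists_smul_eq G R T
  have hT : ∀ x, x ∈ (T : Subgroup G) ↔ g⁻¹ * x * g ∈ (R : Subgroup G) := fun x => by
    rw [← hgRT, Sylow.coe_subgroup_smul, Subgroup.mem_pointwise_smul_iff_inv_smul_mem, MulAut.smul_def, ← map_inv,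
      MulAut.conj_apply, inv_inv]
  refine ⟨F, hg, g, ?_⟩
  set A' := F.bigG.map (MulAut.conj g).toMonoidHom with hA'
  have hA'T : A' ≤ (T : Subgroup G) := by
    rintro _ ⟨a, ha, rfl⟩
    show g * a * g⁻¹ ∈ (T : Subgroup G)
    rw [hT, show g⁻¹ * (g * a * g⁻¹) * g = a by group]
    exact hAR ha
  have hcardA : Nat.card ↥(A'.subgroupOf (T : Subgroup G)) = 2 ^ 11 := by
    rw [Nat.card_congr (Subgroup.subgroupOfEquivOfLe hA'T).toEquiv, hA',
      ← Nat.card_congr (F.bigG.equivMapOfInjective _ (MulAut.conj g).injective).toEquiv, F.card_bigG hg]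
  have hAel : Cfsg.IsElementaryAbelian 2 (A'.subgroupOf (T : Subgroup G)) := by
    obtain ⟨hc, hp⟩ := F.bigG_elementary hg
    refine ⟨⟨⟨fun a b => ?_⟩⟩, fun a ha => ?_⟩
    · obtain ⟨x, hx, ex⟩ := Subgroup.mem_subgroupOf.1 a.2
      obtain ⟨y, hy, ey⟩ := Subgroup.mem_subgroupOf.1 b.2
      refine Subtype.ext (Subtype.ext ?_)
      show ((a : ↥(T : Subgroup G)) : G) * ((b : ↥(T : Subgroup G)) : G) = _
      rw [← ex, ← ey, ← _root_.map_mul, congrArg (fun w : ↥F.bigG => (w : G)) (hc.is_comm.comm ⟨x, hx⟩ ⟨y, hy⟩ :) |>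
        (fun h => (h : x * y = y * x)), _root_.map_mul, ex, ey]
      rfl
    · obtain ⟨x, hx, ex⟩ := Subgroup.mem_subgroupOf.1 ha
      refine Subtype.ext ?_
      rw [Subgroup.coe_pow, ← ex, ← map_pow, hp x hx, _root_.map_one]
      rfl
  have key : ∀ E : Subgroup ↥(T : Subgroup G), Cfsg.IsElementaryAbelian 2 E → 2 ^ 11 ≤ Nat.card ↥E →
      E = A'.subgroupOf (T : Subgroup G) := by
    intro E hE hcard
    let E' : Subgroup G := (E.map (T : Subgroup G).subtype).map (MulAut.conj g⁻¹).toMonoidHom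
    have hmem : ∀ x ∈ E', x ∈ Subgroup.centralizer ({z} : Set G) ∧ x ∈ (R : Subgroup G) := by
      rintro _ ⟨_, ⟨e, he, rfl⟩, rfl⟩
      have h := (hT e).1 e.2
      have h' : (MulAut.conj g⁻¹).toMonoidHom ((T : Subgroup G).subtype e) ∈ (R : Subgroup G) := by simpa using h
      exact ⟨hRC h', h'⟩
    let B : Subgroup ↥(Subgroup.centralizer ({z} : Set G)) := E'.subgroupOf (Subgroup.centralizer ({z} : Set G))
    have hB : B = F.bigA := by
      refine F.eq_bigA hg (fun b hb => hd (hRS.le (hmem _ hb).2)) (fun b hb => ?_) ?_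
      · obtain ⟨_, ⟨e, he, rfl⟩, eb⟩ := Subgroup.mem_subgroupOf.1 hb
        refine Subtype.ext ?_
        show (b : G) * b = 1
        rw [← eb, ← _root_.map_mul, ← _root_.map_mul, ← pow_two, hE.2 e he, _root_.map_one, _root_.map_one]
      · rw [Nat.card_congr (Subgroup.subgroupOfEquivOfLe fun x hx => (hmem x hx).1).toEquiv,
          ← Nat.card_congr ((E.map (T : Subgroup G).subtype).equivMapOfInjective _
            (MulAut.conj g⁻¹).injective).toEquiv, Subgroup.card_subtype]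
        exact hcard
    have hE' : E' = F.bigG := by
      rw [Coord.bigG, ← hB, Subgroup.map_subgroupOf_eq_of_le fun x hx => (hmem x hx).1]
    ext x
    rw [Subgroup.mem_subgroupOf, hA', ← hE']
    constructor
    · intro hx
      refine ⟨g⁻¹ * (x : G) * g, ⟨x, ⟨x, hx, rfl⟩, by simp⟩, ?_⟩
      show g * (g⁻¹ * (x : G) * g) * g⁻¹ = x
      group
    · rintro ⟨_, ⟨_, ⟨e, he, rfl⟩, rfl⟩, ex⟩
      have : e = x := Subtype.ext (by
        rw [← ex]
        show (e : G) = g * (g⁻¹ * (e : G) * g⁻¹⁻¹) * g⁻¹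
        group)
      exact this ▸ he
  have hmax : A'.subgroupOf (T : Subgroup G) ∈ Cfsg.maxElementaryAbelianSubgroups 2 ↥(T : Subgroup G) :=
    ⟨hAel, fun B hB => by
      by_contra h
      push Not at h
      rw [key B hB (by omega)] at h
      exact lt_irrefl _ h⟩
  have huniq : Cfsg.thompsonSubgroup 2 ↥(T : Subgroup G) = A'.subgroupOf (T : Subgroup G) := by
    refine le_antisymm (sSup_le fun E hE => (key E hE.1 ?_).le) (le_sSup hmax)
    exact hcardA.symm.le.trans (hE.2 _ hAel)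
  rw [Cfsg.thompsonSubgroupOf, huniq, Subgroup.map_subgroupOf_eq_of_le hA'T]

/-- The data in a group with a given Thompson subgroup and normaliser. -/
theorem mem_normalizer_conj {A : Subgroup G} {g : G} {H : Subgroup G}
    (hA : A = H.map (MulAut.conj g).toMonoidHom) {x : G} :
    x ∈ Subgroup.normalizer (A : Set G) ↔ g⁻¹ * x * g ∈ Subgroup.normalizer (H : Set G) := by
  subst hA
  rw [Subgroup.mem_normalizer_iff, Subgroup.mem_normalizer_iff]
  have hmem : ∀ y, y ∈ H.map (MulAut.conj g).toMonoidHom ↔ g⁻¹ * y * g ∈ H := fun y => by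
    constructor
    · rintro ⟨a, ha, rfl⟩
      show g⁻¹ * (g * a * g⁻¹) * g ∈ H
      rwa [show g⁻¹ * (g * a * g⁻¹) * g = a by group]
    · exact fun h => ⟨_, h, by show g * (g⁻¹ * y * g) * g⁻¹ = y; group⟩
  simp only [hmem]
  constructor
  · intro h y
    have := h (g * y * g⁻¹)
    rwa [show g⁻¹ * (g * y * g⁻¹) * g = y by group,
      show g⁻¹ * (x * (g * y * g⁻¹) * x⁻¹) * g = g⁻¹ * x * g * y * (g⁻¹ * x * g)⁻¹ by group] at this
  · intro h y
    rw [h (g⁻¹ * y * g), show g⁻¹ * x * g * (g⁻¹ * y * g) * (g⁻¹ * x * g)⁻¹ = g⁻¹ * (x * y * x⁻¹) * g by group]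

namespace Coord

variable {Q : Subgroup G} (F : Coord z Q) (hg : ∃ g : G, g * z * g⁻¹ ∈ Q ∧ g * z * g⁻¹ ≠ z)
include hg

/-- The orbits of the normaliser. -/
theorem bigN_orbits {a b : G} (ha : a ∈ F.bigG) (hb : b ∈ F.bigG) (ha1 : a ≠ 1) (hb1 : b ≠ 1)
    (h : IsConj z a ↔ IsConj z b) : ∃ m ∈ F.bigN, m * a * m⁻¹ = b := by
  by_cases hc : IsConj z a
  · obtain ⟨m, hm, e⟩ := F.exists_move_z hg ha hc
    obtain ⟨m', hm', e'⟩ := F.exists_move_z hg hb (h.1 hc)
    exact ⟨m' * m⁻¹, mul_mem hm' (inv_mem hm), by rw [← e, ← e']; group⟩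
  · have key : ∀ a, a ∈ F.bigG → a ≠ 1 → ¬ IsConj z a →
        ∃ n, n < 2048 ∧ inD axGamma n = true ∧ (F.elt hg n : G) = a := by
      intro a ha ha1 hc
      obtain ⟨h, ha'⟩ := F.mem_bigG.1 ha
      obtain ⟨n, hn, e⟩ := F.elt_surj hg ha'
      have e' : (F.elt hg n : G) = a := congrArg (fun y : ↥(Subgroup.centralizer ({z} : Set G)) => (y : G)) e
      refine ⟨n, hn, (F.elt_class hg hn fun h0 => ha1 ?_).1 (by rw [NConj, e']; exact hc), e'⟩
      rw [← e', h0, F.elt_zero hg]; rfl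
    obtain ⟨n, hn, hnD, en⟩ := key a ha ha1 hc
    obtain ⟨k, hk, hkD, ek⟩ := key b hb hb1 fun h' => hc (h.2 h')
    rw [← en, ← ek]
    exact F.moves_nconj hg hn hk hnD hkD

theorem exists_duad_point (x y : GolayPt) (hxy : x ≠ y) :
    (F.elt hg (dv x y) : G) ∈ F.bigG ∧ (F.elt hg (dv x y) : G) ≠ 1 ∧ ¬ IsConj z (F.elt hg (dv x y) : G) := by
  have hD : axDuads.testBit (dv x y) = true := duads_pair x y hxy
  have hne : dv x y ≠ 0 := fun h => by
    rw [h, zero_not_mem] at hD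
    exact Bool.false_ne_true hD
  refine ⟨F.mem_bigG.2 ⟨(F.elt hg _).2, F.elt_mem hg _⟩, fun h => hne (F.elt_eq_one hg (dv_lt x y) (Subtype.ext h)), ?_⟩
  refine (F.elt_class hg (dv_lt x y) hne).2 ?_
  rw [duads_mask ⟨_, dv_lt x y⟩]
  exact hD

/-- The centraliser of a non-conjugate acts as the stabiliser of a duad. -/
theorem sends_stab {m : G} {σ : Equiv.Perm GolayPt} (h : F.Sends hg m σ) (x y : GolayPt) (hxy : x ≠ y) :
    m * (F.elt hg (dv x y) : G) * m⁻¹ = (F.elt hg (dv x y) : G) ↔ σ • ({x, y} : Set GolayPt) = {x, y} := by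
  rw [h, Set.smul_set_insert, Set.smul_set_singleton, Equiv.Perm.smul_def, Equiv.Perm.smul_def, Set.pair_eq_pair_iff]
  constructor
  · intro e
    exact dv_eq (σ.injective.ne hxy) hxy (F.elt_inj hg (dv_lt _ _) (dv_lt _ _) (Subtype.ext e))
  · rintro (⟨h1, h2⟩ | ⟨h1, h2⟩)
    · rw [h1, h2]
    · rw [h1, h2, dv_comm]

end Coord

end CfsgLib.ThreeTrans.LargeFischer
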